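import Cfsg.Agent.Lib.Chev.TableLaced
import Cfsg.Agent.Lib.Chev.Mono
import Cfsg.Agent.Lib.Chev.Unip

/-!
# Combinatorial certificates separating pairs of roots by the torus

Semantic forms and table checks, for data with several root lengths.
-/

set_option autoImplicit false

namespace CfsgLib.Chev.Lift

open Cfsg.Lie

variable (D : ChevalleyDatum)

/-- The roots occurring in the commutator formula. -/
def termRoots (r s : ℕ) : List ℕ := (D.commTerms r s).map Prod.fst

/-- Two different, non opposite roots, second one relative to the first. -/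
def OkPair (a b : ℕ) : Prop := a < D.nroots ∧ b < D.nroots ∧ b ≠ a ∧ b ≠ D.neg a

/-- A coroot orthogonal to `s` and not to `r`, with pairing at most `m`. -/
def SepCert (m r s : ℕ) : Prop :=
  ∃ k < D.nroots, prE D k s = 0 ∧ prE D k r ≠ 0 ∧ (prE D k r).natAbs ≤ m

/-- A coroot with even pairing on `s` and odd pairing on `r`. -/
def SepOdd (r s : ℕ) : Prop := ∃ k < D.nroots, 2 ∣ prE D k s ∧ ¬ 2 ∣ prE D k r

/-- A coroot with pairing one. -/
def UnitPairing (r : ℕ) : Prop := ∃ k < D.nroots, prE D k r = 1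

/-- The sets `{r} ∪ (r, s)` and `{s} ∪ (r, s)` are closed, with shorter formulas inside. -/
def ClosedCert : Prop :=
  ∀ r s, OkPair D r s → ∀ z, z = r ∨ z = s → ∀ p ∈ z :: termRoots D r s, ∀ q ∈ z :: termRoots D r s,
    q ≠ p → (∀ c ∈ D.commTerms p q, c.1 ∈ z :: termRoots D r s) ∧
      (D.commTerms p q).length < (D.commTerms r s).length

/-- The root `r` occurs linearly in the first parameter with coefficient `±1`. -/
def LinTerm (r a b : ℕ) (c : ℕ × ℤ × ℕ × ℕ) : Prop :=
  OkPair D a b ∧ c ∈ D.commTerms a b ∧ c.1 = r ∧ c.2.2.1 = 1 ∧ (c.2.1 = 1 ∨ c.2.1 = -1) ∧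
    (termRoots D a b).Nodup

/-- Every root occurs linearly in some commutator formula. -/
def LinCert : Prop := ∀ r < D.nroots, ∃ a b c, LinTerm D r a b c

/-- All coefficients vanish, or are even when `ev`. -/
def NullTerms (ev : Bool) (r s : ℕ) : Prop :=
  ∀ c ∈ D.commTerms r s, ev = true ∧ 2 ∣ c.2.1

/-- `r` is made from roots whose root subgroups commute with its own and are separated from it. -/
def GenCert (ev : Bool) (r : ℕ) : Prop :=
  ∃ a b c, LinTerm D r a b c ∧ ∀ s ∈ a :: b :: termRoots D a b, s ≠ r →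
    OkPair D r s ∧ NullTerms D ev r s ∧ NullTerms D ev s r ∧ (SepCert D 2 r s ∨ SepCert D 2 s r)

/-- `p` is a sum of two roots with root subgroups commuting with that of `s`, coefficient prime to three. -/
def OffThree (p s : ℕ) : Prop :=
  ∃ a b C, OkPair D a b ∧ D.commTerms a b = [(p, C, 1, 1)] ∧ ¬ (3 : ℤ) ∣ C ∧
    (OkPair D a s ∧ D.commTerms a s = []) ∧ (OkPair D b s ∧ D.commTerms b s = [])

/-- Each pair is separated by an odd pairing, or is split. -/
def PairThree : Prop :=
  ∀ r s, OkPair D r s → SepOdd D r s ∨ SepOdd D s r ∨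
    (D.commTerms r s = [] ∧ D.commTerms s r = [] ∧ (OffThree D r s ∨ OffThree D s r))

/-- Each pair is separated by an orthogonal coroot. -/
def PairBig (m : ℕ) : Prop := ∀ r s, OkPair D r s → SepCert D m r s ∨ SepCert D m s r

end CfsgLib.Chev.Lift

namespace CfsgLib.Chev.Table.Tab

variable (T : Tab)

/-- The `i`-th root of the chain. -/
def chR (r s i : ℕ) : Option ℕ := ((T.gen r s)[i - 1]?).map Prod.fst

/-- The `i`-th constant of the chain. -/
def chM (r s i : ℕ) : ℤ := (((T.gen r s)[i - 1]?).map Prod.snd).getD 0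

/-- The commutator terms. -/
def terms (r s : ℕ) : List (ℕ × ℤ × ℕ × ℕ) :=
  let rs := T.chR r s 1
  let cands : List (Option ℕ × ℤ × ℕ × ℕ) :=
    [ (T.chR r s 1, T.chM r s 1, 1, 1),
      (T.chR r s 2, T.chM r s 2, 2, 1),
      (T.chR s r 2, T.chM s r 2, 1, 2),
      (T.chR r s 3, T.chM r s 3, 3, 1),
      (T.chR s r 3, - T.chM s r 3, 1, 3),
      ((T.chR r s 3).bind fun k => T.chR k s 1, (rs.map fun k => T.chM k r 2 / 3).getD 0, 3, 2),
      ((T.chR s r 3).bind fun k => T.chR k r 1, (rs.map fun k => -2 * T.chM k s 2 / 3).getD 0, 2, 3) ]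
  cands.filterMap fun c => c.1.map fun k => (k, c.2)

/-- Different, non opposite. -/
def okB (a b : ℕ) : Bool := !(Nat.beq b a) && !(Nat.beq b (T.neg a))

/-- See `SepCert`. -/
def sepB (m r s : ℕ) : Bool :=
  anyBelow T.nroots fun k =>
    bif T.pr k s == 0 then !(T.pr k r == 0) && Nat.ble (T.pr k r).natAbs m else false

/-- See `SepOdd`. -/
def sepOddB (r s : ℕ) : Bool :=
  anyBelow T.nroots fun k => bif T.pr k s % 2 == 0 then !(T.pr k r % 2 == 0) else false

/-- Membership. -/
def memB (x : ℕ) (l : List ℕ) : Bool := l.any fun y => Nat.beq x y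

/-- See `ClosedCert`. -/
def closedB (r s z : ℕ) : Bool :=
  let tr := T.terms r s
  let P := z :: tr.map Prod.fst
  P.all fun p => P.all fun q =>
    bif Nat.beq q p then true
    else ((T.terms p q).all fun c => memB c.1 P) && Nat.blt (T.terms p q).length tr.length

/-- See `ClosedCert`. -/
def chkClosed : Bool :=
  allBelow T.nroots fun r => allBelow T.nroots fun s =>
    bif T.okB r s then T.closedB r s r && T.closedB r s s else true

/-- Distinctness. -/
def nodupB : List ℕ → Bool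
  | [] => true
  | x :: l => !(memB x l) && nodupB l

/-- See `LinTerm`. -/
def linB (r a b : ℕ) : Bool :=
  T.okB a b && (nodupB ((T.terms a b).map Prod.fst)) &&
    (T.terms a b).any fun c => Nat.beq c.1 r && Nat.beq c.2.2.1 1 && ((c.2.1 == 1) || (c.2.1 == -1))

/-- See `LinCert`. -/
def chkLin : Bool :=
  allBelow T.nroots fun r => anyBelow T.nroots fun a => anyBelow T.nroots fun b => T.linB r a b

/-- See `NullTerms`. -/
def nullB (ev : Bool) (r s : ℕ) : Bool := (T.terms r s).all fun c => ev && (c.2.1 % 2 == 0)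

/-- See `GenCert`. -/
def genB (ev : Bool) (r : ℕ) : Bool :=
  anyBelow T.nroots fun a => anyBelow T.nroots fun b =>
    bif T.linB r a b then
      (a :: b :: (T.terms a b).map Prod.fst).all fun s =>
        bif Nat.beq s r then true
        else T.okB r s && T.nullB ev r s && T.nullB ev s r && (T.sepB 2 r s || T.sepB 2 s r)
    else false

/-- See `OffThree`. -/
def offThreeB (p s : ℕ) : Bool :=
  anyBelow T.nroots fun a =>
    match T.tg (T.neg a) p with
    | none => false
    | some b =>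
      T.okB a b && T.okB a s && (T.terms a s).isEmpty && T.okB b s && (T.terms b s).isEmpty &&
        match T.terms a b with
        | [c] => Nat.beq c.1 p && Nat.beq c.2.2.1 1 && Nat.beq c.2.2.2 1 && !(c.2.1 % 3 == 0)
        | _ => false

/-- See `PairThree`. -/
def chkPairThree : Bool :=
  allBelow T.nroots fun r => allBelow T.nroots fun s =>
    bif T.okB r s then
      T.sepOddB r s || T.sepOddB s r ||
        ((T.terms r s).isEmpty && (T.terms s r).isEmpty && (T.offThreeB r s || T.offThreeB s r))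
    else true

/-- See `PairBig`. -/
def chkPairBig (m : ℕ) : Bool :=
  allBelow T.nroots fun r => allBelow T.nroots fun s =>
    bif T.okB r s then T.sepB m r s || T.sepB m s r else true

/-- Every root has a coroot with pairing one. -/
def chkUnitPairing : Bool :=
  allBelow T.nroots fun r => anyBelow T.nroots fun k => T.pr k r == 1

end CfsgLib.Chev.Table.Tab

namespace CfsgLib.Chev.Lift

open Cfsg.Lie CfsgLib.Chev.Table

variable {D : ChevalleyDatum} {co : ℕ → ℕ → ℤ} {T : Tab}
  (hA : T.chkArrays D = true) (hC : T.chkChain D = true) (hP : T.chkPairs = true) (hF : Facts D co)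

include hA in
theorem pr_eq {k s : ℕ} (hk : k < D.nroots) (hs : s < D.nroots) : prE D k s = T.pr k s := by
  rw [prE, Tab.pr, ← rank_eq hA, ← List.toFinset_range, List.sum_toFinset _ List.nodup_range]
  refine congrArg List.sum (List.map_congr_left fun i hi => ?_)
  rw [cor_eq hA hk (List.mem_range.1 hi), cartan_eq hA (List.mem_range.1 hi) hs]

include hA in
theorem okB_iff {a b : ℕ} (ha : a < D.nroots) (hb : b < D.nroots) :
    T.okB a b = true ↔ OkPair D a b := by
  simp [Tab.okB, OkPair, ha, hb, neg_eq hA ha, Bool.eq_false_iff]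

include hA hC hF in
theorem terms_eq {r s : ℕ} (hr : r < D.nroots) (hs : s < D.nroots) :
    D.commTerms r s = T.terms r s := by
  have e : ∀ {a b : ℕ}, a < D.nroots → b < D.nroots → ∀ i,
      D.chainRoot a b i = T.chR a b i ∧ D.chainM a b i = T.chM a b i := fun ha hb i => by
    simp only [ChevalleyDatum.chainRoot, ChevalleyDatum.chainM, Tab.chR, Tab.chM, chainEntry_eq hA hC ha hb]
    exact ⟨trivial, trivial⟩
  have b1 : ∀ {a b : ℕ}, a < D.nroots → b < D.nroots → ∀ {i k : ℕ}, 1 ≤ i → T.chR a b i = some k →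
      k < D.nroots := fun ha hb i k hi h => (hF.chainRoot_spec ha hb hi (by rw [(e ha hb i).1, h])).1
  simp only [ChevalleyDatum.commTerms, Tab.terms, (e hr hs 1).1, (e hr hs 2).1, (e hs hr 2).1,
    (e hr hs 3).1, (e hs hr 3).1, (e hr hs 1).2, (e hr hs 2).2, (e hs hr 2).2, (e hr hs 3).2,
    (e hs hr 3).2]
  congr 1
  simp only [List.cons.injEq, and_true, true_and, Prod.mk.injEq]
  refine ⟨⟨?_, ?_⟩, ?_, ?_⟩
  · rcases h : T.chR r s 3 with _ | k
    · rfl
    · exact (e (b1 hr hs (by norm_num) h) hs 1).1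
  · rcases h : T.chR r s 1 with _ | k
    · rfl
    · simp [(e (b1 hr hs le_rfl h) hr 2).2]
  · rcases h : T.chR s r 3 with _ | k
    · rfl
    · exact (e (b1 hs hr (by norm_num) h) hr 1).1
  · rcases h : T.chR r s 1 with _ | k
    · rfl
    · simp [(e (b1 hr hs le_rfl h) hs 2).2]

theorem memB_iff {x : ℕ} {l : List ℕ} : Tab.memB x l = true ↔ x ∈ l := by
  simp [Tab.memB, Nat.beq_eq]

theorem nodupB_iff : ∀ {l : List ℕ}, Tab.nodupB l = true ↔ l.Nodup
  | [] => by simp [Tab.nodupB]
  | x :: l => by simp [Tab.nodupB, List.nodup_cons, nodupB_iff (l := l), ← memB_iff]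

include hA in
theorem sep_of_sepB {m r s : ℕ} (hr : r < D.nroots) (hs : s < D.nroots) (h : T.sepB m r s = true) :
    SepCert D m r s := by
  obtain ⟨k, hk, hk'⟩ := anyBelow_spec h
  have hkn : k < D.nroots := (nroots_eq hA).symm ▸ hk
  cases h0 : T.pr k s == 0
  · simp [h0] at hk'
  simp only [h0, cond_true, Bool.and_eq_true, Bool.not_eq_true', beq_eq_false_iff_ne, ne_eq,
    Nat.ble_eq] at hk'
  exact ⟨k, hkn, by rw [pr_eq hA hkn hs]; exact beq_iff_eq.1 h0,
    by rw [pr_eq hA hkn hr]; exact hk'.1, by rw [pr_eq hA hkn hr]; exact hk'.2⟩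

include hA in
theorem sepOdd_of_sepOddB {r s : ℕ} (hr : r < D.nroots) (hs : s < D.nroots)
    (h : T.sepOddB r s = true) : SepOdd D r s := by
  obtain ⟨k, hk, hk'⟩ := anyBelow_spec h
  have hkn : k < D.nroots := (nroots_eq hA).symm ▸ hk
  cases h0 : T.pr k s % 2 == 0
  · simp [h0] at hk'
  simp only [h0, cond_true, Bool.not_eq_true', beq_eq_false_iff_ne, ne_eq] at hk'
  refine ⟨k, hkn, ?_, ?_⟩
  · rw [pr_eq hA hkn hs]; exact Int.dvd_of_emod_eq_zero (beq_iff_eq.1 h0)
  · rw [pr_eq hA hkn hr]; exact fun hd => hk' (Int.emod_eq_zero_of_dvd hd)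

include hA hC hF

theorem closedCert_of_chk (h : T.chkClosed = true) : ClosedCert D := by
  intro r s hok z hz p hp q hq hqp
  obtain ⟨hr, hs, -, -⟩ := id hok
  have hn := nroots_eq hA
  have h1 := allBelow_spec (allBelow_spec h r (hn ▸ hr)) s (hn ▸ hs)
  rw [(okB_iff hA hr hs).2 hok, cond_true, Bool.and_eq_true] at h1
  have h2 : T.closedB r s z = true := by rcases hz with rfl | rfl <;> [exact h1.1; exact h1.2]
  have hbound : ∀ y ∈ z :: termRoots D r s, y < D.nroots := fun y hy => by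
    rcases List.mem_cons.1 hy with rfl | hy
    · rcases hz with rfl | rfl <;> assumption
    · obtain ⟨c, hc, rfl⟩ := List.mem_map.1 hy
      exact (hF.commTerms_wt hF.isWeight_omega hr hs hc).1
  simp only [Tab.closedB, ← terms_eq hA hC hF hr hs, List.all_eq_true] at h2
  have h3 := h2 p hp q hq
  rw [show Nat.beq q p = false by simpa [Bool.eq_false_iff, Nat.beq_eq] using hqp] at h3
  simp only [cond_false, Bool.and_eq_true, List.all_eq_true, Nat.blt_eq, memB_iff,
    ← terms_eq hA hC hF (hbound p hp) (hbound q hq)] at h3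
  exact h3

theorem linTerm_of_linB {r a b : ℕ} (ha : a < D.nroots) (hb : b < D.nroots)
    (h : T.linB r a b = true) : ∃ c, LinTerm D r a b c := by
  simp only [Tab.linB, Bool.and_eq_true, List.any_eq_true, nodupB_iff, okB_iff hA ha hb,
    ← terms_eq hA hC hF ha hb] at h
  obtain ⟨⟨hok, hnd⟩, c, hc, ⟨h1, h2⟩, h3⟩ := h
  exact ⟨c, hok, hc, Nat.eq_of_beq_eq_true h1, Nat.eq_of_beq_eq_true h2, by simpa using h3, hnd⟩

theorem linCert_of_chk (h : T.chkLin = true) : LinCert D := by
  intro r hr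
  obtain ⟨a, ha, h'⟩ := anyBelow_spec (allBelow_spec h r (nroots_eq hA ▸ hr))
  obtain ⟨b, hb, h''⟩ := anyBelow_spec h'
  exact ⟨a, b, linTerm_of_linB hA hC hF ((nroots_eq hA).symm ▸ ha) ((nroots_eq hA).symm ▸ hb) h''⟩

theorem nullTerms_of_nullB {ev : Bool} {r s : ℕ} (hr : r < D.nroots) (hs : s < D.nroots)
    (h : T.nullB ev r s = true) : NullTerms D ev r s := by
  intro c hc
  simp only [Tab.nullB, ← terms_eq hA hC hF hr hs, List.all_eq_true, Bool.and_eq_true, beq_iff_eq] at h
  exact ⟨(h c hc).1, Int.dvd_of_emod_eq_zero (h c hc).2⟩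

theorem genCert_of_genB {ev : Bool} {r : ℕ} (hr : r < D.nroots) (h : T.genB ev r = true) :
    GenCert D ev r := by
  obtain ⟨a, ha, h'⟩ := anyBelow_spec h
  obtain ⟨b, hb, h''⟩ := anyBelow_spec h'
  have ha' : a < D.nroots := (nroots_eq hA).symm ▸ ha
  have hb' : b < D.nroots := (nroots_eq hA).symm ▸ hb
  cases hl : T.linB r a b
  · simp [hl] at h''
  obtain ⟨c, hc⟩ := linTerm_of_linB hA hC hF ha' hb' hl
  simp only [hl, cond_true, ← terms_eq hA hC hF ha' hb', List.all_eq_true] at h''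
  refine ⟨a, b, c, hc, fun s hs hsr => ?_⟩
  have hs' : s < D.nroots := by
    rcases List.mem_cons.1 hs with rfl | hs
    · exact ha'
    rcases List.mem_cons.1 hs with rfl | hs
    · exact hb'
    obtain ⟨d, hd, rfl⟩ := List.mem_map.1 hs
    exact (hF.commTerms_wt hF.isWeight_omega ha' hb' hd).1
  have h3 := h'' s hs
  rw [show Nat.beq s r = false by simpa [Bool.eq_false_iff, Nat.beq_eq] using hsr] at h3
  simp only [cond_false, Bool.and_eq_true, Bool.or_eq_true, okB_iff hA hr hs'] at h3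
  exact ⟨h3.1.1.1, nullTerms_of_nullB hA hC hF hr hs' h3.1.1.2,
    nullTerms_of_nullB hA hC hF hs' hr h3.1.2,
    h3.2.imp (sep_of_sepB hA hr hs') (sep_of_sepB hA hs' hr)⟩

theorem offThree_of_offThreeB (hP : T.chkPairs = true) {p s : ℕ} (hp : p < D.nroots)
    (hs : s < D.nroots) (h : T.offThreeB p s = true) : OffThree D p s := by
  obtain ⟨a, ha, h'⟩ := anyBelow_spec h
  have ha' : a < D.nroots := (nroots_eq hA).symm ▸ ha
  have hna : T.neg a < D.nroots := by rw [Tab.neg, nroots_eq hA]; omega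
  rcases hb : T.tg (T.neg a) p with _ | b
  · simp [hb] at h'
  have hbn : b < D.nroots := tg_lt hA hP hna hp hb
  simp only [hb, Bool.and_eq_true, List.isEmpty_iff, okB_iff hA ha' hbn, okB_iff hA ha' hs,
    okB_iff hA hbn hs, ← terms_eq hA hC hF ha' hbn, ← terms_eq hA hC hF ha' hs,
    ← terms_eq hA hC hF hbn hs] at h'
  obtain ⟨⟨⟨⟨⟨h1, h2⟩, h3⟩, h4⟩, h5⟩, h6⟩ := h'
  rcases ht : D.commTerms a b with _ | ⟨⟨k, C, i, j⟩, _ | ⟨d, l⟩⟩ <;>
    simp only [ht, Bool.false_eq_true] at h6
  simp only [Bool.and_eq_true, Bool.not_eq_true', beq_eq_false_iff_ne, ne_eq] at h6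
  obtain rfl := Nat.eq_of_beq_eq_true h6.1.1.1
  obtain rfl := Nat.eq_of_beq_eq_true h6.1.1.2
  obtain rfl := Nat.eq_of_beq_eq_true h6.1.2
  exact ⟨a, b, C, h1, ht, fun hd => h6.2 (Int.emod_eq_zero_of_dvd hd), ⟨h2, h3⟩, h4, h5⟩

theorem pairThree_of_chk (hP : T.chkPairs = true) (h : T.chkPairThree = true) : PairThree D := by
  intro r s hok
  obtain ⟨hr, hs, -, -⟩ := id hok
  have hn := nroots_eq hA
  have h1 := allBelow_spec (allBelow_spec h r (hn ▸ hr)) s (hn ▸ hs)
  simp only [(okB_iff hA hr hs).2 hok, cond_true, Bool.or_eq_true, Bool.and_eq_true, List.isEmpty_iff,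
    ← terms_eq hA hC hF hr hs, ← terms_eq hA hC hF hs hr] at h1
  rcases h1 with (h1 | h1) | ⟨⟨h1, h2⟩, h3⟩
  · exact Or.inl (sepOdd_of_sepOddB hA hr hs h1)
  · exact Or.inr (Or.inl (sepOdd_of_sepOddB hA hs hr h1))
  · exact Or.inr (Or.inr ⟨h1, h2, h3.imp (offThree_of_offThreeB hA hC hF hP hr hs)
      (offThree_of_offThreeB hA hC hF hP hs hr)⟩)

omit hC hF in
theorem pairBig_of_chk {m : ℕ} (h : T.chkPairBig m = true) : PairBig D m := by
  intro r s hok
  obtain ⟨hr, hs, -, -⟩ := id hok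
  have hn := nroots_eq hA
  have h1 := allBelow_spec (allBelow_spec h r (hn ▸ hr)) s (hn ▸ hs)
  simp only [(okB_iff hA hr hs).2 hok, cond_true, Bool.or_eq_true] at h1
  exact h1.imp (sep_of_sepB hA hr hs) (sep_of_sepB hA hs hr)

omit hC hF in
theorem unitPairing_of_chk (h : T.chkUnitPairing = true) : ∀ r < D.nroots, UnitPairing D r := by
  intro r hr
  obtain ⟨k, hk, h'⟩ := anyBelow_spec (allBelow_spec h r (nroots_eq hA ▸ hr))
  have hkn : k < D.nroots := (nroots_eq hA).symm ▸ hk
  exact ⟨k, hkn, by rw [pr_eq hA hkn hr]; exact beq_iff_eq.1 h'⟩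

end CfsgLib.Chev.Lift
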