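import Cfsg.Agent.Lib.Known.SL2Lift

/-!
# Commutators of lifts in a central extension
-/

set_option autoImplicit false

namespace CfsgLib.Known.CentralComm

open CfsgLib.Known.SL2Lift
open scoped commutatorElement

variable {E G : Type*} [Group E] [Group G] {σ : E →* G}
  (hσ : Function.Surjective σ) (hc : σ.ker ≤ Subgroup.center E)

/-- A lift. -/
noncomputable def pre (g : G) : E := Function.surjInv hσ g

theorem σ_pre (g : G) : σ (pre hσ g) = g := Function.surjInv_eq hσ g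

/-- The commutator of lifts. -/
noncomputable def cm (g h : G) : E := ⁅pre hσ g, pre hσ h⁆

theorem σ_cm (g h : G) : σ (cm hσ g h) = ⁅g, h⁆ := by
  rw [cm, map_commutatorElement, σ_pre, σ_pre]

theorem cm_inv (g h : G) : (cm hσ g h)⁻¹ = cm hσ h g := commutatorElement_inv _ _

include hσ hc

theorem cm_eq {a b : E} {g h : G} (ha : σ a = g) (hb : σ b = h) : ⁅a, b⁆ = cm hσ g h := by
  rw [cm, comm_central_left hc (ha.trans (σ_pre hσ g).symm),
    comm_central_right hc (hb.trans (σ_pre hσ h).symm)]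

theorem cm_one_left (h : G) : cm hσ 1 h = 1 := by
  rw [← cm_eq hσ hc (map_one σ) (σ_pre hσ h), commutatorElement_one_left]

theorem cm_one_right (g : G) : cm hσ g 1 = 1 := by
  rw [← cm_eq hσ hc (σ_pre hσ g) (map_one σ), commutatorElement_one_right]

theorem conj_cm (x g h : G) :
    pre hσ x * cm hσ g h * (pre hσ x)⁻¹ = cm hσ (x * g * x⁻¹) (x * h * x⁻¹) := by
  have e := map_commutatorElement (MulAut.conj (pre hσ x)).toMonoidHom (pre hσ g) (pre hσ h)
  simp only [MulEquiv.coe_toMonoidHom, MulAut.conj_apply] at e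
  rw [cm, e]
  exact cm_eq hσ hc (by simp [σ_pre]) (by simp [σ_pre])

theorem conj_cm' {y : E} {x : G} (hy : σ y = x) (g h : G) :
    y * cm hσ g h * y⁻¹ = cm hσ (x * g * x⁻¹) (x * h * x⁻¹) := by
  have e := map_commutatorElement (MulAut.conj y).toMonoidHom (pre hσ g) (pre hσ h)
  simp only [MulEquiv.coe_toMonoidHom, MulAut.conj_apply] at e
  rw [cm, e]
  exact cm_eq hσ hc (by simp [hy, σ_pre]) (by simp [hy, σ_pre])

theorem cm_central {g h : G} (hgh : Commute g h) (a : E) : a * cm hσ g h = cm hσ g h * a := by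
  refine Subgroup.mem_center_iff.mp (hc ?_) a
  rw [MonoidHom.mem_ker, σ_cm, commutatorElement_eq_one_iff_mul_comm]
  exact hgh.eq

theorem cm_conj_eq {g h : G} (hgh : Commute g h) (x : G) :
    cm hσ (x * g * x⁻¹) (x * h * x⁻¹) = cm hσ g h := by
  rw [← conj_cm hσ hc, cm_central hσ hc hgh, mul_inv_cancel_right]

/-- Lifts commute when the commutator of lifts is trivial. -/
theorem commute_of_cm {g h : G} {a b : E} (ha : σ a = g) (hb : σ b = h) (h1 : cm hσ g h = 1) :
    Commute a b := by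
  show a * b = b * a
  rw [← commutatorElement_eq_one_iff_mul_comm, cm_eq hσ hc ha hb, h1]

theorem cm_mul_left {g g' h : G} (h1 : cm hσ g ⁅g', h⁆ = 1) :
    cm hσ (g * g') h = cm hσ g' h * cm hσ g h := by
  have hc' := commute_of_cm hσ hc (σ_pre hσ g) (σ_cm hσ g' h) h1
  rw [← cm_eq hσ hc (a := pre hσ g * pre hσ g') (by rw [map_mul, σ_pre, σ_pre]) (σ_pre hσ h),
    comm_mul_left, ← cm, ← cm, hc'.eq, mul_inv_cancel_right]

theorem cm_mul_right {g h h' : G} (h1 : cm hσ h ⁅g, h'⁆ = 1) :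
    cm hσ g (h * h') = cm hσ g h * cm hσ g h' := by
  have hc' := commute_of_cm hσ hc (σ_pre hσ h) (σ_cm hσ g h') h1
  rw [← cm_eq hσ hc (σ_pre hσ g) (b := pre hσ h * pre hσ h') (by rw [map_mul, σ_pre, σ_pre]),
    comm_mul_right, ← cm, ← cm, hc'.eq, mul_inv_cancel_right]

/-- A commutator of elements commuting with `h` has lifts commuting with those of `h`. -/
theorem cm_commutator_left {x y h : G} (hx : Commute x h) (hy : Commute y h) :
    cm hσ ⁅x, y⁆ h = 1 := by
  rw [← cm_inv, inv_eq_one, ← cm_eq hσ hc (σ_pre hσ h) (σ_cm hσ x y), commutatorElement_def, conj_cm hσ hc,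
    show h * x * h⁻¹ = x by rw [← hx.eq, mul_inv_cancel_right],
    show h * y * h⁻¹ = y by rw [← hy.eq, mul_inv_cancel_right], mul_inv_cancel]

/-- Associativity of commutators of lifts. -/
theorem cm_assoc {g h k : G} (h1 : cm hσ g k = 1) (h2 : cm hσ ⁅g, h⁆ ⁅h, k⁆ = 1)
    (h3 : cm hσ ⁅⁅g, h⁆, k⁆ ⁅h, k⁆ = 1) : cm hσ ⁅g, h⁆ k = cm hσ g ⁅h, k⁆ := by
  set a := pre hσ g with ha
  set b := pre hσ h with hb
  set c := pre hσ k with hc0
  have hx : σ ⁅a, b⁆ = ⁅g, h⁆ := by rw [map_commutatorElement, σ_pre, σ_pre]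
  have hy : σ ⁅b, c⁆ = ⁅h, k⁆ := by rw [map_commutatorElement, σ_pre, σ_pre]
  have hz : σ ⁅⁅a, b⁆, c⁆ = ⁅⁅g, h⁆, k⁆ := by rw [map_commutatorElement, hx, σ_pre]
  rw [← cm_eq hσ hc hx (σ_pre hσ k), ← hc0, ← cm_eq hσ hc (σ_pre hσ g) hy, ← ha]
  set x := ⁅a, b⁆ with hx'
  set y := ⁅b, c⁆ with hy'
  have hac : a * c = c * a := (commute_of_cm hσ hc (σ_pre hσ g) (σ_pre hσ k) h1).eq
  have hxy : x * y = y * x := (commute_of_cm hσ hc hx hy h2).eq
  have hzy : ⁅x, c⁆ * y = y * ⁅x, c⁆ := (commute_of_cm hσ hc hz hy h3).eq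
  have e1 : a * y * a⁻¹ = ⁅x * b, c⁆ := by
    have hac' : a * c * a⁻¹ = c := by rw [hac, mul_inv_cancel_right]
    have e := map_commutatorElement (MulAut.conj a).toMonoidHom b c
    simp only [MulEquiv.coe_toMonoidHom, MulAut.conj_apply] at e
    rw [hy', e, hac']
    congr 1
    rw [hx', commutatorElement_def]; group
  rw [comm_mul_left, ← hy', hxy, mul_inv_cancel_right, ← hzy] at e1
  rw [commutatorElement_def (G := E) a y, e1, mul_inv_cancel_right]

end CfsgLib.Known.CentralComm
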