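import Cfsg.Agent.Lib.Known.ChevLift.Embed
import Cfsg.Agent.Lib.Known.SLLift.Multiplier
import Cfsg.Agent.Lib.Schur.Trivial

/-!
# Multipliers of Steinberg groups and Chevalley groups of simply laced type
-/

set_option autoImplicit false

namespace CfsgLib.Known.SplitCover

universe u w

/-- A group over which every central extension splits. -/
def CentralSplits.{a, b} (S : Type a) [Group S] : Prop :=
  ∀ (E : Type b) [Group E] (σ : E →* S), Function.Surjective σ → σ.ker ≤ Subgroup.center E →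
    ∃ s : S →* E, σ.comp s = MonoidHom.id S

/-- If central extensions of `S` split, every homomorphism from `S` lifts. -/
theorem exists_lift {S : Type u} [Group S] {E : Type u} [Group E] {G : Type w} [Group G]
    (hS : CentralSplits.{u, u} S) (σ : E →* G) (hσ : Function.Surjective σ)
    (hc : σ.ker ≤ Subgroup.center E) (ψ : S →* G) : ∃ s : S →* E, σ.comp s = ψ := by
  let P : Subgroup (S × E) :=
    { carrier := {p | ψ p.1 = σ p.2}
      one_mem' := by simp
      mul_mem' := fun {a b} ha hb => by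
        simp only [Set.mem_setOf_eq, Prod.fst_mul, Prod.snd_mul, map_mul] at *
        rw [ha, hb]
      inv_mem' := fun {a} ha => by
        simp only [Set.mem_setOf_eq, Prod.fst_inv, Prod.snd_inv, map_inv] at *
        rw [ha] }
  let π : P →* S := (MonoidHom.fst _ _).comp P.subtype
  have hπ : Function.Surjective π := fun g => by
    obtain ⟨a, ha⟩ := hσ (ψ g)
    exact ⟨⟨(g, a), ha.symm⟩, rfl⟩
  have hπc : π.ker ≤ Subgroup.center P := fun p hp => by
    have h1 : p.1.1 = 1 := hp
    have h2 : p.1.2 ∈ σ.ker := by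
      have h := p.2
      show σ p.1.2 = 1
      rw [← (h : ψ p.1.1 = σ p.1.2), h1, map_one]
    refine Subgroup.mem_center_iff.mpr fun r => Subtype.ext (Prod.ext ?_ ?_)
    · show r.1.1 * p.1.1 = p.1.1 * r.1.1
      rw [h1, mul_one, one_mul]
    · exact Subgroup.mem_center_iff.mp (hc h2) r.1.2
  obtain ⟨s, hs⟩ := hS P π hπ hπc
  refine ⟨((MonoidHom.snd _ _).comp P.subtype).comp s, MonoidHom.ext fun g => ?_⟩
  have h1 : (s g).1.1 = g := DFunLike.congr_fun hs g
  have h2 : ψ (s g).1.1 = σ (s g).1.2 := (s g).2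
  show σ (s g).1.2 = ψ g
  rw [← h2, h1]

/-- If central extensions split, the multiplier is trivial. -/
theorem hasTrivial {S : Type u} [Group S] [Finite S] (hS : CentralSplits.{u, u} S) :
    Cfsg.HasCyclicSchurMultiplier S 1 := by
  refine CfsgLib.Schur.hasCyclicSchurMultiplier_one fun Γ _ _ σ hσ => ?_
  obtain ⟨s, hs⟩ := hS Γ σ hσ.1 hσ.2.1
  rw [← MonoidHom.ker_eq_bot_iff, eq_bot_iff]
  refine (CfsgLib.Known.SLLift.ker_le_map hσ Function.surjective_id (ψ := MonoidHom.id S) hs).trans ?_
  rw [MonoidHom.ker_id, Subgroup.map_bot]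

/-- A perfect group over which central extensions split covers its central quotient. -/
theorem multiplier {S G : Type u} [Group S] [Finite S] [Group G] (hS : CentralSplits.{u, u} S)
    (hperf : commutator S = ⊤) (π : S →* G) (hπ : Function.Surjective π)
    (hker : π.ker = Subgroup.center S) (hcyc : IsCyclic (Subgroup.center S)) :
    Cfsg.HasCyclicSchurMultiplier G (Nat.card (Subgroup.center S)) := by
  refine ⟨⟨S, inferInstance, inferInstance, π, ⟨hπ, hker.le, by rw [hperf]; exact le_top⟩, ?_⟩,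
    fun E _ _ σ hσ => ?_⟩
  · exact ⟨(MulEquiv.subgroupCongr hker).trans
      (zmodMulEquivOfGenerator (Classical.choose_spec (IsCyclic.exists_generator (α := Subgroup.center S))) rfl).symm⟩
  · obtain ⟨s, hs⟩ := exists_lift hS σ hσ.1 hσ.2.1 π
    have hmem : ∀ z : Subgroup.center S, s z ∈ σ.ker := fun z => by
      rw [MonoidHom.mem_ker, ← MonoidHom.comp_apply, hs, ← MonoidHom.mem_ker, hker]
      exact z.2
    let f : Subgroup.center S →* σ.ker := (s.comp (Subgroup.center S).subtype).codRestrict σ.ker hmem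
    have hf : Function.Surjective f := fun y => by
      obtain ⟨x, hx, hxy⟩ := CfsgLib.Known.SLLift.ker_le_map hσ hπ hs y.2
      rw [hker] at hx
      exact ⟨⟨x, hx⟩, Subtype.ext hxy⟩
    let g := zmodMulEquivOfGenerator (Classical.choose_spec (IsCyclic.exists_generator (α := Subgroup.center S))) rfl
    exact ⟨f.comp g.toMonoidHom, hf.comp g.surjective⟩

end CfsgLib.Known.SplitCover

namespace CfsgLib.Chev.Lift

open Cfsg.Lie CfsgLib.Known.SplitCover
open scoped commutatorElement

universe v w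

variable {D : ChevalleyDatum} {co : ℕ → ℕ → ℤ}

/-- Everything needed about a simply laced datum. -/
structure Laced.{u} (D : ChevalleyDatum) : Prop where
  facts : ∃ co, Facts D co
  comm : CommF.{u} D
  nbr : HasNbr D
  unit : UnitChains D
  base : ∀ i < D.rank, BaseCert D (D.simple i)

theorem splits_of_off (h : Laced.{v} D) (hO : OffCert D) (K : Type v) [Field K] [Finite K] :
    CentralSplits.{v, w} (D.SteinbergGroup K) := by
  intro E _ σ hσ hc
  obtain ⟨co, hF⟩ := h.facts
  obtain ⟨φ, hφ⟩ := hF.exists_theta h.comm (K := K)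
  refine exists_section hσ hc hF h.nbr h.unit hφ ?_ h.base
  exact commLift_of_base hσ hc hF h.nbr h.unit hφ fun i hi s hs hneg hcm t u =>
    commLift_base hσ hc hF h.unit hφ hO hi hs hneg hcm t u

theorem finite_steinberg (h : Laced.{v} D) (K : Type v) [Field K] [Finite K] :
    Finite (D.SteinbergGroup K) := by
  obtain ⟨co, hF⟩ := h.facts
  obtain ⟨φ, hφ⟩ := hF.exists_theta h.comm (K := K)
  obtain ⟨f, -, hf⟩ := hF.st_torus_hom h.nbr hφ
  haveI : Finite φ.ker := by
    refine Finite.of_injective (fun z : φ.ker => (hf z.1 (hF.st_ker hφ h.nbr z.2).1).choose) fun a b e => ?_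
    refine Subtype.ext ?_
    rw [← (hf a.1 (hF.st_ker hφ h.nbr a.2).1).choose_spec, ← (hf b.1 (hF.st_ker hφ h.nbr b.2).1).choose_spec]
    exact congrArg f e
  haveI : Finite (D.SteinbergGroup K ⧸ φ.ker) :=
    Finite.of_equiv _ (QuotientGroup.quotientKerEquivRange φ).toEquiv.symm
  exact Finite.of_subgroup_quotient φ.ker

theorem commutator_steinberg (h : Laced.{v} D) (K : Type v) [Field K] :
    commutator (D.SteinbergGroup K) = ⊤ := by
  obtain ⟨co, hF⟩ := h.facts
  obtain ⟨φ, hφ⟩ := hF.exists_theta h.comm (K := K)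
  have key : ∀ r, r < D.nroots → ∃ a b k, a < D.nroots ∧ b < D.nroots ∧ k = r ∧ tgt D a b = some k := by
    intro r hr
    refine hF.root_induction (P := fun r => ∃ a b k, a < D.nroots ∧ b < D.nroots ∧ k = r ∧ tgt D a b = some k)
      (fun i hi => ?_) (fun i hi s hs ih => ?_) hr
    · obtain ⟨a, b, ha, hb, hab, -⟩ := h.base i hi
      exact ⟨a, b, _, ha, hb, rfl, hab⟩
    · obtain ⟨a, b, k, ha, hb, rfl, hab⟩ := ih
      obtain ⟨c, hm⟩ := exists_moves_simple hF h.nbr hφ hi (K := K)
      obtain ⟨hv, hk⟩ := valid_of_tgt hF h.unit ha hb hab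
      obtain ⟨pr, ne⟩ := pr_of_tgt (K := K) hF h.unit ha hb hab
      have hp := hm.pr (a := ⟨a, ha⟩) (b := ⟨b, hb⟩) (k := ⟨k, hk⟩) pr
      have hv' : Valid D (sP D ⟨i, hi⟩ ⟨a, ha⟩).val (sP D ⟨i, hi⟩ ⟨b, hb⟩).val := by
        refine ⟨Fin.is_lt _, Fin.is_lt _, fun e => hv.2.2.1 ?_, fun e => hv.2.2.2 ?_⟩
        · exact congrArg Fin.val ((sP D ⟨i, hi⟩).injective (Fin.ext e))
        · have : sP D ⟨i, hi⟩ ⟨b, hb⟩ = sP D ⟨i, hi⟩ ⟨D.neg a, hF.neg_lt ha⟩ := Fin.ext (by
            rw [e, hF.sP_val, hF.sP_val, hF.refl_neg i hi _ ha])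
          exact congrArg Fin.val ((sP D ⟨i, hi⟩).injective this)
      refine ⟨_, _, _, Fin.is_lt _, Fin.is_lt _, hF.sP_val _ _,
        tgt_of_pr hF hφ h.unit hv' (Fin.is_lt _) ?_ hp⟩
      exact div_ne_zero (mul_ne_zero (hm.1 _) ne) (mul_ne_zero (hm.1 _) (hm.1 _))
  rw [eq_top_iff, ← stClosure_top, stClosure, Subgroup.closure_le]
  rintro x ⟨r, t, hr, -, rfl⟩
  obtain ⟨a, b, k, ha, hb, rfl, hab⟩ := key r hr
  obtain ⟨pr, ne⟩ := pr_of_tgt (K := K) hF h.unit ha hb hab
  have e := pr (t / (str D a b : K)) 1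
  rw [mul_one, mul_div_cancel₀ _ ne] at e
  rw [← e]
  exact Subgroup.commutator_mem_commutator (Subgroup.mem_top _) (Subgroup.mem_top _)

theorem multiplier_steinberg (h : Laced.{v} D) (hO : OffCert D) (K : Type v) [Field K] [Finite K] :
    Cfsg.HasCyclicSchurMultiplier (D.SteinbergGroup K) 1 :=
  haveI := finite_steinberg h K
  hasTrivial (splits_of_off h hO K)

theorem multiplier_group (h : Laced.{v} D) (hO : OffCert D) (K : Type v) [Field K] [Finite K] {n : ℕ}
    (hcard : Nat.card (Subgroup.center (D.SteinbergGroup K)) = n) (hn : n = 1 ∨ n.Prime) :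
    Cfsg.HasCyclicSchurMultiplier ↥(D.group K) n := by
  obtain ⟨co, hF⟩ := h.facts
  haveI := finite_steinberg h K
  obtain ⟨θ, hθ, hker, -⟩ := hF.exists_surj h.comm h.nbr (K := K)
  have hcyc : IsCyclic (Subgroup.center (D.SteinbergGroup K)) := by
    rcases hn with rfl | hp
    · haveI := (Nat.card_eq_one_iff_unique.1 hcard).1
      infer_instance
    · haveI := Fact.mk hp
      exact isCyclic_of_prime_card hcard
  rw [← hcard]
  exact multiplier (splits_of_off h hO K) (commutator_steinberg h K) θ hθ hker hcyc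

end CfsgLib.Chev.Lift
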