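import Cfsg.Agent.Lib.Chev.All
import Cfsg.Agent.Lib.Known.ChevLift.Multiplier

/-!
# Type E7: lifting certificates
-/

set_option autoImplicit false
set_option maxRecDepth 20000

namespace CfsgLib.Chev.Lift

open Cfsg.Lie CfsgLib.Chev.Table

theorem chkUnit_E7 : DataE7.tab.chkUnit = true := by decide +kernel

theorem chkOff_E7 : DataE7.tab.chkOff = true := by decide +kernel

theorem chkBase_E7 : DataE7.tab.chkBase = true := by decide +kernel

theorem laced_E7.{u} : Laced.{u} chevE7 :=
  ⟨⟨_, DataE7.facts⟩, good_E7.comm, hasNbr_of_mem (by simp),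
    unitChains_of_chk DataE7.chk_arrays DataE7.chk_chain DataE7.chk_pairs chkUnit_E7,
    baseCert_of_chk DataE7.chk_arrays DataE7.chk_chain DataE7.chk_pairs chkBase_E7⟩

theorem offCert_E7 : OffCert chevE7 :=
  offCert_of_chk DataE7.chk_arrays DataE7.chk_chain DataE7.chk_pairs chkOff_E7

end CfsgLib.Chev.Lift
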