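import Cfsg.Agent.Lib.Chev.All
import Cfsg.Agent.Lib.Known.ChevLift.Multiplier

/-!
# Type E8: lifting certificates
-/

set_option autoImplicit false
set_option maxRecDepth 20000

namespace CfsgLib.Chev.Lift

open Cfsg.Lie CfsgLib.Chev.Table

theorem chkUnit_E8 : DataE8.tab.chkUnit = true := by decide +kernel

theorem chkOff_E8 : DataE8.tab.chkOff = true := by decide +kernel

theorem chkBase_E8 : DataE8.tab.chkBase = true := by decide +kernel

theorem laced_E8.{u} : Laced.{u} chevE8 :=
  ⟨⟨_, DataE8.facts⟩, good_E8.comm, hasNbr_of_mem (by simp),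
    unitChains_of_chk DataE8.chk_arrays DataE8.chk_chain DataE8.chk_pairs chkUnit_E8,
    baseCert_of_chk DataE8.chk_arrays DataE8.chk_chain DataE8.chk_pairs chkBase_E8⟩

theorem offCert_E8 : OffCert chevE8 :=
  offCert_of_chk DataE8.chk_arrays DataE8.chk_chain DataE8.chk_pairs chkOff_E8

end CfsgLib.Chev.Lift
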