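import Cfsg.Agent.Lib.Known.ChevLift.E6
import Cfsg.Agent.Lib.Known.ChevLift.E7
import Cfsg.Agent.Lib.Known.ChevLift.E8
import Cfsg.Agent.Lib.Chev.Data.Smith

/-!
# Centres of the universal groups of type E
-/

set_option autoImplicit false
set_option maxRecDepth 20000

namespace CfsgLib.Chev.Lift

open Cfsg.Lie CfsgLib.Chev.Table

universe v

/-- The roots of E6 among those of E8. -/
def iota68 (r : ℕ) : ℕ := slot 0xcc00c200bc00b900b800b200af00ae00ab00aa00a900a600a500a400a300a2009c009900980095009400930090008f008e008d008a008900880087008400830082007f007e007b007400710070006d006c006b0068006700660065006200610060005f005c005b005a005700560053004d004c004b004a004900460045004400410040003d003700360033002d0023 r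

/-- The roots of E7 among those of E8. -/
def iota78 (r : ℕ) : ℕ := slot 0xe200db00d600d200cf00cd00cc00c800c500c300c200bf00bd00bc00ba00b900b800b500b300b200b000af00ae00ac00ab00aa00a900a700a600a500a400a300a2009f009d009c009a00990098009600950094009300910090008f008e008d008b008a00890088008700850084008300820080007f007e007c007b007900760074007300710070006f006d006c006b006a00680067006600650064006200610060005f005e005c005b005a0059005700560055005300520050004d004c004b004a00490048004600450044004300410040003f003d003c003a003700360035003300320030002d002c002a0027002300220020001d00190014000d r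

theorem chkEmb_E6 : DataE6.tab.chkEmb DataE8.tab iota68 = true := by decide +kernel

theorem chkEmb_E7 : DataE7.tab.chkEmb DataE8.tab iota78 = true := by decide +kernel

theorem card_center_E6 (K : Type v) [Field K] [Fintype K] :
    Nat.card (Subgroup.center (chevE6.SteinbergGroup K)) = Nat.gcd 3 (Fintype.card K - 1) := by
  rw [card_center (co := _) DataE6.facts good_E6.comm (hasNbr_of_mem (by simp)) fun c hc =>
    stT_injective DataE6.facts laced_E6.{v}.unit DataE8.facts laced_E8.{v}.unit good_E8.comm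
      (hasNbr_of_mem (by simp))
      (embeds_of_chk DataE6.chk_arrays DataE6.chk_chain DataE8.chk_arrays DataE8.chk_chain chkEmb_E6)
      (M := (!![4, 5, 7, 10, 8, 6, 4, 2; 5, 8, 10, 15, 12, 9, 6, 3; 7, 10, 14, 20, 16, 12, 8, 4; 10, 15, 20, 30, 24, 18, 12, 6; 8, 12, 16, 24, 20, 15, 10, 5; 6, 9, 12, 18, 15, 12, 8, 4; 4, 6, 8, 12, 10, 8, 6, 3; 2, 3, 4, 6, 5, 4, 3, 2] : Matrix (Fin 8) (Fin 8) ℤ)) (by decide +kernel) hc]
  rw [card_actM_ker (A := Kˣ) (M := cartanMat chevE6)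
    (P := (!![-1, 0, 0, 0, 0, 0; 0, -1, 0, 0, 0, 0; 1, -2, 0, -1, 0, 0; 2, -3, 0, -2, -1, 0; -2, 1, -1, 0, 0, 0; -5, 0, -4, -3, -2, -1] : Matrix (Fin 6) (Fin 6) ℤ))
    (P' := (!![-1, 0, 0, 0, 0, 0; 0, -1, 0, 0, 0, 0; 2, -1, 0, 0, -1, 0; -1, 2, -1, 0, 0, 0; 0, -1, 2, -1, 0, 0; 0, 0, -1, 2, 4, -1] : Matrix (Fin 6) (Fin 6) ℤ))
    (Q := (!![0, 0, 0, 0, 1, -2; 0, 0, 0, 0, 2, -3; 1, 0, 0, 0, 2, -4; 0, 1, 0, 0, 4, -6; 0, 0, 1, 0, 4, -5; 0, 0, 0, 1, 4, -4] : Matrix (Fin 6) (Fin 6) ℤ))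
    (Q' := (!![-2, 0, 1, 0, 0, 0; 0, -2, 0, 1, 0, 0; 2, -3, 0, 0, 1, 0; 4, -4, 0, 0, 0, 1; -3, 2, 0, 0, 0, 0; -2, 1, 0, 0, 0, 0] : Matrix (Fin 6) (Fin 6) ℤ))
    (![1, 1, 1, 1, 1, 3] : Fin 6 → ℕ) (by decide +kernel) (by decide +kernel) (by decide +kernel) (by decide +kernel),
    Nat.card_units, Nat.card_eq_fintype_card]
  show (∏ i : Fin 6, (Fintype.card K - 1).gcd ((![1, 1, 1, 1, 1, 3] : Fin 6 → ℕ) i)) = _
  rw [Nat.gcd_comm]
  simp [Fin.prod_univ_succ]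

theorem card_center_E7 (K : Type v) [Field K] [Fintype K] :
    Nat.card (Subgroup.center (chevE7.SteinbergGroup K)) = Nat.gcd 2 (Fintype.card K - 1) := by
  rw [card_center (co := _) DataE7.facts good_E7.comm (hasNbr_of_mem (by simp)) fun c hc =>
    stT_injective DataE7.facts laced_E7.{v}.unit DataE8.facts laced_E8.{v}.unit good_E8.comm
      (hasNbr_of_mem (by simp))
      (embeds_of_chk DataE7.chk_arrays DataE7.chk_chain DataE8.chk_arrays DataE8.chk_chain chkEmb_E7)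
      (M := (!![4, 5, 7, 10, 8, 6, 4, 2; 5, 8, 10, 15, 12, 9, 6, 3; 7, 10, 14, 20, 16, 12, 8, 4; 10, 15, 20, 30, 24, 18, 12, 6; 8, 12, 16, 24, 20, 15, 10, 5; 6, 9, 12, 18, 15, 12, 8, 4; 4, 6, 8, 12, 10, 8, 6, 3; 2, 3, 4, 6, 5, 4, 3, 2] : Matrix (Fin 8) (Fin 8) ℤ)) (by decide +kernel) hc]
  rw [card_actM_ker (A := Kˣ) (M := cartanMat chevE7)
    (P := (!![-1, 0, 0, 0, 0, 0, 0; 0, -1, 0, 0, 0, 0, 0; 1, -2, 0, -1, 0, 0, 0; 2, -3, 0, -2, -1, 0, 0; 3, -4, 0, -3, -2, -1, 0; -2, 1, -1, 0, 0, 0, 0; -4, -1, -4, -4, -3, -2, -1] : Matrix (Fin 7) (Fin 7) ℤ))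
    (P' := (!![-1, 0, 0, 0, 0, 0, 0; 0, -1, 0, 0, 0, 0, 0; 2, -1, 0, 0, 0, -1, 0; -1, 2, -1, 0, 0, 0, 0; 0, -1, 2, -1, 0, 0, 0; 0, 0, -1, 2, -1, 0, 0; 0, 0, 0, -1, 2, 4, -1] : Matrix (Fin 7) (Fin 7) ℤ))
    (Q := (!![0, 0, 0, 0, 0, 1, -2; 0, 0, 0, 0, 0, 2, -3; 1, 0, 0, 0, 0, 2, -4; 0, 1, 0, 0, 0, 4, -6; 0, 0, 1, 0, 0, 4, -5; 0, 0, 0, 1, 0, 4, -4; 0, 0, 0, 0, 1, 4, -3] : Matrix (Fin 7) (Fin 7) ℤ))
    (Q' := (!![-2, 0, 1, 0, 0, 0, 0; 0, -2, 0, 1, 0, 0, 0; 2, -3, 0, 0, 1, 0, 0; 4, -4, 0, 0, 0, 1, 0; 6, -5, 0, 0, 0, 0, 1; -3, 2, 0, 0, 0, 0, 0; -2, 1, 0, 0, 0, 0, 0] : Matrix (Fin 7) (Fin 7) ℤ))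
    (![1, 1, 1, 1, 1, 1, 2] : Fin 7 → ℕ) (by decide +kernel) (by decide +kernel) (by decide +kernel) (by decide +kernel),
    Nat.card_units, Nat.card_eq_fintype_card]
  show (∏ i : Fin 7, (Fintype.card K - 1).gcd ((![1, 1, 1, 1, 1, 1, 2] : Fin 7 → ℕ) i)) = _
  rw [Nat.gcd_comm]
  simp [Fin.prod_univ_succ]

end CfsgLib.Chev.Lift
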