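import Cfsg.Agent.Lib.Known.ChevLift.Main

/-!
# Reading the checks of the packed tables
-/

set_option autoImplicit false

namespace CfsgLib.Chev.Lift

open Cfsg.Lie CfsgLib.Chev.Table

variable {D : ChevalleyDatum} {T : Tab} (hA : T.chkArrays D = true) (hC : T.chkChain D = true)
  (hP : T.chkPairs = true)
include hA hC hP

theorem unitChains_of_chk (h : T.chkUnit = true) : UnitChains D := by
  intro r hr s hs k hk
  rw [tgt_eq hA hC hr hs] at hk
  by_cases h0 : T.ent r s = 0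
  · simp [Tab.tg, h0] at hk
  rw [tg_of_ne h0, Option.some.injEq] at hk
  have hc := allBelow_spec (allBelow_spec h r (nroots_eq hA ▸ hr)) s (nroots_eq hA ▸ hs)
  rw [beq_eq_false_iff_ne.2 h0, cond_false, Bool.and_eq_true, beq_iff_eq, beq_iff_eq] at hc
  rw [str_eq hA hC hr hs]
  refine ⟨?_, ?_⟩
  · rw [chainEntry_eq hA hC hr hs]
    rw [← hk]
    simp [Tab.gen, Tab.go, beq_eq_false_iff_ne.2 h0, hc.1]
  · omega

omit hP in
theorem cmB_spec {a b : ℕ} (ha : a < D.nroots) (hb : b < D.nroots) (h : T.cmB a b = true) :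
    tgt D a b = none ∧ b ≠ D.neg a := by
  simp only [Tab.cmB, Bool.and_eq_true, beq_iff_eq, Bool.not_eq_true'] at h
  refine ⟨by rw [tgt_eq hA hC ha hb, tg_of_eq h.1], fun e => ?_⟩
  rw [neg_eq hA ha] at e
  simp [e] at h

omit hP in
theorem cmB_of {a b : ℕ} (ha : a < D.nroots) (hb : b < D.nroots) (h : tgt D a b = none)
    (h' : b ≠ D.neg a) : T.cmB a b = true := by
  rw [tgt_eq hA hC ha hb] at h
  rw [neg_eq hA ha] at h'
  simp only [Tab.cmB, Bool.and_eq_true, beq_iff_eq, Bool.not_eq_true']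
  refine ⟨?_, ?_⟩
  · by_contra h0
    simp [tg_of_ne h0] at h
  · rw [Bool.eq_false_iff]
    exact fun e => h' (Nat.eq_of_beq_eq_true e)

theorem tg_spec {a b k : ℕ} (ha : a < D.nroots) (hb : b < D.nroots) (h : T.tg a b = some k) :
    k < D.nroots ∧ tgt D a b = some k :=
  ⟨tg_lt hA hP ha hb h, by rw [tgt_eq hA hC ha hb, h]⟩

theorem offCert_of_chk (h : T.chkOff = true) : OffCert D := by
  intro i hi s hs ht hneg
  have hn := nroots_eq hA
  have hi' : i < T.rank := rank_eq hA ▸ hi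
  have hc := allBelow_spec (allBelow_spec h i hi') s (hn ▸ hs)
  have hs0 : T.smp i = D.simple i := (simple_eq hA hi).symm
  have hp : D.simple i < D.nroots := (simple_bounds hA hi).2
  rw [hs0, cmB_of hA hC hp hs ht hneg, cond_true] at hc
  obtain ⟨a, ha, hab⟩ := anyBelow_spec hc
  have ha' : a < D.nroots := hn.symm ▸ ha
  have hna : T.neg a < D.nroots := by rw [Tab.neg, hn]; omega
  rcases hb : T.tg (T.neg a) (D.simple i) with _ | b
  · rw [hb] at hab; simp at hab
  rw [hb] at hab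
  simp only [Bool.and_eq_true, beq_iff_eq] at hab
  obtain ⟨⟨h1, h2⟩, h3⟩ := hab
  have hbn := (tg_spec hA hC hP hna hp hb).1
  exact ⟨a, ha', b, hbn, (tg_spec hA hC hP ha' hbn h1).2, cmB_spec hA hC ha' hs h2,
    cmB_spec hA hC hbn hs h3⟩

theorem tri_of_triB {p a b a' c : ℕ} (hp : p < D.nroots) (ha : a < D.nroots) (hb : b < D.nroots)
    (ha' : a' < D.nroots) (hc : c < D.nroots) (h : T.triB p a b a' c = true) :
    ∃ m, Tri D p a b a' c m := by
  have hn := nroots_eq hA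
  have hna : T.neg a < D.nroots := by rw [Tab.neg, hn]; omega
  rcases hm : T.tg (T.neg a) a' with _ | m
  · simp [Tab.triB, hm] at h
  simp only [Tab.triB, hm, Bool.and_eq_true, beq_iff_eq] at h
  obtain ⟨⟨⟨⟨⟨⟨h1, h2⟩, h3⟩, h4⟩, h5⟩, h6⟩, h7⟩ := h
  have hmn := (tg_spec hA hC hP hna ha' hm).1
  exact ⟨m, ha, hb, ha', hc, hmn, (tg_spec hA hC hP ha hmn h1).2, (tg_spec hA hC hP hmn hc h2).2,
    (tg_spec hA hC hP ha' hc h3).2, (tg_spec hA hC hP ha hb h4).2, cmB_spec hA hC ha hc h5,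
    cmB_spec hA hC ha' hb h6, cmB_spec hA hC hp hb h7⟩

theorem step_of_stepB {p a b a' c : ℕ} (hp : p < D.nroots) (ha : a < D.nroots) (hb : b < D.nroots)
    (ha' : a' < D.nroots) (hc : c < D.nroots) (h : T.stepB p a b a' c = true) :
    Step D p a b a' c := by
  rw [Tab.stepB, Bool.or_eq_true] at h
  rcases h with h | h
  · obtain ⟨m, hm⟩ := tri_of_triB hA hC hP hp ha hb ha' hc h
    exact ⟨m, Or.inl hm⟩
  · obtain ⟨m, hm⟩ := tri_of_triB hA hC hP hp ha' hc ha hb h
    exact ⟨m, Or.inr hm⟩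

theorem conn_of_connB {p a0 b0 a b : ℕ} (hp : p < D.nroots) (ha : a < D.nroots) (hb : b < D.nroots)
    (ha0 : a0 < D.nroots) (hb0 : b0 < D.nroots) (h : T.connB p a0 b0 a b = true) :
    Conn D p a0 b0 a b := by
  have hn := nroots_eq hA
  rw [Tab.connB, Bool.or_eq_true, Bool.or_eq_true] at h
  rcases h with (h | h) | h
  · rw [Bool.and_eq_true] at h
    exact Or.inl ⟨Nat.eq_of_beq_eq_true h.1, Nat.eq_of_beq_eq_true h.2⟩
  · exact Or.inr (Or.inl (step_of_stepB hA hC hP hp ha hb ha0 hb0 h))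
  · obtain ⟨a', ha', hh⟩ := anyBelow_spec h
    have ha'' : a' < D.nroots := hn.symm ▸ ha'
    have hna : T.neg a' < D.nroots := by rw [Tab.neg, hn]; omega
    rcases hc : T.tg (T.neg a') p with _ | c
    · rw [hc] at hh; simp at hh
    rw [hc] at hh
    simp only [Bool.and_eq_true, beq_iff_eq] at hh
    have hcn := (tg_spec hA hC hP hna hp hc).1
    exact Or.inr (Or.inr ⟨a', c, step_of_stepB hA hC hP hp ha hb ha'' hcn hh.1.2,
      step_of_stepB hA hC hP hp ha'' hcn ha0 hb0 hh.2⟩)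

theorem baseCert_of_chk (h : T.chkBase = true) : ∀ i < D.rank, BaseCert D (D.simple i) := by
  intro i hi
  have hn := nroots_eq hA
  have hc := allBelow_spec h i (rank_eq hA ▸ hi)
  obtain ⟨a0, ha0, hh⟩ := anyBelow_spec hc
  have hs0 : T.smp i = D.simple i := (simple_eq hA hi).symm
  have hp : D.simple i < D.nroots := (simple_bounds hA hi).2
  rw [hs0] at hh
  have ha0' : a0 < D.nroots := hn.symm ▸ ha0
  have hna : T.neg a0 < D.nroots := by rw [Tab.neg, hn]; omega
  rcases hb : T.tg (T.neg a0) (D.simple i) with _ | b0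
  · rw [hb] at hh; simp at hh
  rw [hb] at hh
  simp only [Bool.and_eq_true, beq_iff_eq, Tab.baseB] at hh
  obtain ⟨⟨h1, h2⟩, h3, h4⟩ := hh
  have hb0 := (tg_spec hA hC hP hna hp hb).1
  refine ⟨a0, b0, ha0', hb0, (tg_spec hA hC hP ha0' hb0 h1).2, cmB_spec hA hC ha0' hp h2, ?_, ?_⟩
  · obtain ⟨a', ha', hh⟩ := anyBelow_spec h3
    have ha'' : a' < D.nroots := hn.symm ▸ ha'
    have hna' : T.neg a' < D.nroots := by rw [Tab.neg, hn]; omega
    rcases hc' : T.tg (T.neg a') (D.simple i) with _ | c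
    · rw [hc'] at hh; simp at hh
    rw [hc'] at hh
    obtain ⟨m, hm⟩ := tri_of_triB hA hC hP hp ha0' hb0 ha'' (tg_spec hA hC hP hna' hp hc').1 hh
    exact ⟨a', c, m, hm⟩
  · intro a ha b hb' hab
    have := allBelow_spec (allBelow_spec h4 a (hn ▸ ha)) b (hn ▸ hb')
    rw [tgt_eq hA hC ha hb'] at hab
    rw [hab, beq_self_eq_true, cond_true, Bool.or_eq_true] at this
    rcases this with h5 | h5
    · exact Or.inl (conn_of_connB hA hC hP hp ha hb' ha0' hb0 h5)
    · exact Or.inr (conn_of_connB hA hC hP hp hb' ha ha0' hb0 h5)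

end CfsgLib.Chev.Lift
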