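import Cfsg.Agent.Lib.Chev.Table

/-!
# Combinatorial checks for lifting the Steinberg relations of a simply laced datum
-/

set_option autoImplicit false

namespace CfsgLib.Chev.Table.Tab

variable (T : Tab)

/-- All chains have length at most one and constants of absolute value one. -/
def chkUnit : Bool :=
  allBelow T.nroots fun r => allBelow T.nroots fun s =>
    bif T.ent r s == 0 then true
    else T.ent r (T.ent r s / 16) == 0 && ((T.nn r s).natAbs == 1)

/-- Two roots with commuting root subgroups. -/
def cmB (a b : ℕ) : Bool := T.ent a b == 0 && !(Nat.beq b (T.neg a))

/-- The root `p` is a sum of two roots whose root subgroups commute with that of `s`. -/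
def offB (p s : ℕ) : Bool :=
  anyBelow T.nroots fun a => anyBelow T.nroots fun b =>
    (T.tg a b == some p) && T.cmB a s && T.cmB b s

/-- As `offB`, with the second root computed from the first. -/
def offB' (p s : ℕ) : Bool :=
  anyBelow T.nroots fun a =>
    match T.tg (T.neg a) p with
    | none => false
    | some b => (T.tg a b == some p) && T.cmB a s && T.cmB b s

/-- Every root with root subgroup commuting with that of a fundamental root is covered by `offB'`. -/
def chkOff : Bool :=
  allBelow T.rank fun i => allBelow T.nroots fun s =>
    bif T.cmB (T.smp i) s then T.offB' (T.smp i) s else true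

/-- The ordered pairs `(a, b)`, `(a', c)` with sum `p` differ by a root `m`: `a' = a + m`, `b = m + c`. -/
def triB (p a b a' c : ℕ) : Bool :=
  match T.tg (T.neg a) a' with
  | none => false
  | some m => (T.tg a m == some a') && (T.tg m c == some b) && (T.tg a' c == some p) &&
      (T.tg a b == some p) && T.cmB a c && T.cmB a' b && T.cmB p b

/-- One step between ordered pairs with sum `p`, in either direction. -/
def stepB (p a b a' c : ℕ) : Bool := T.triB p a b a' c || T.triB p a' c a b

/-- At most two steps to the base pair. -/
def connB (p a0 b0 a b : ℕ) : Bool :=
  (Nat.beq a a0 && Nat.beq b b0) || T.stepB p a b a0 b0 ||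
    anyBelow T.nroots fun a' =>
      match T.tg (T.neg a') p with
      | none => false
      | some c => (T.tg a' c == some p) && T.stepB p a b a' c && T.stepB p a' c a0 b0

/-- The pair `(a0, b0)` is a base for all pairs with sum `p`. -/
def baseB (p a0 b0 : ℕ) : Bool :=
  (anyBelow T.nroots fun a' =>
      match T.tg (T.neg a') p with
      | none => false
      | some c => T.triB p a0 b0 a' c) &&
    allBelow T.nroots fun a => allBelow T.nroots fun b =>
      bif T.tg a b == some p then T.connB p a0 b0 a b || T.connB p a0 b0 b a else true

/-- Each fundamental root has a base pair. -/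
def chkBase : Bool :=
  allBelow T.rank fun i => anyBelow T.nroots fun a0 =>
    match T.tg (T.neg a0) (T.smp i) with
    | none => false
    | some b0 => (T.tg a0 b0 == some (T.smp i)) && T.cmB a0 (T.smp i) && T.baseB (T.smp i) a0 b0

end CfsgLib.Chev.Table.Tab
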