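import Cfsg.Agent.Lib.Known.ChevLift.Check

/-!
# Orthogonal pairs in type D4
-/

set_option autoImplicit false

namespace CfsgLib.Chev.Table.Tab

variable (T : Tab)

/-- Two decompositions of `p` carrying `(p, s)` to the same pair in the two orders, with equal signs. -/
def crossB (p s : ℕ) : Bool :=
  anyBelow T.nroots fun a =>
    match T.tg (T.neg a) p with
    | none => false
    | some b => (T.tg a b == some p) && T.cmB a s && T.cmB a p &&
      match T.tg s b with
      | none => false
      | some k => T.cmB k s && T.cmB k p && T.cmB a k && T.offB' p a && T.offB' p k &&
        match T.tg (T.neg k) p with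
        | none => false
        | some b' => (T.tg k b' == some p) && (T.tg s b' == some a) &&
          (T.nn a b * T.nn s b == T.nn k b' * T.nn s b')

/-- Every commuting root is covered by `offB'` or by `crossB`. -/
def chkOffCross : Bool :=
  allBelow T.rank fun i => allBelow T.nroots fun s =>
    bif T.cmB (T.smp i) s then T.offB' (T.smp i) s || ((T.aa i s == 0) && T.crossB (T.smp i) s) else true

end CfsgLib.Chev.Table.Tab
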