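import Cfsg.Agent.Lib.Chev.StTheta
import Cfsg.Agent.Lib.Known.ChevLift.Check

/-!
# Root elements of the Steinberg group of a simply laced datum

Commutator relations between root elements, phrased in the group, and their transport by Weyl elements.
-/

set_option autoImplicit false

namespace CfsgLib.Chev.Lift

open Cfsg.Lie
open scoped commutatorElement

universe v

variable {D : ChevalleyDatum} {co : ℕ → ℕ → ℤ} {K : Type v} [Field K]

/-- Two different, non opposite roots. -/
def Valid (D : ChevalleyDatum) (a b : ℕ) : Prop :=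
  a < D.nroots ∧ b < D.nroots ∧ a ≠ b ∧ b ≠ D.neg a

/-- The commutator of the root elements of `a` and `b` is the root element of `k` with coefficient `κ`. -/
def Pr (D : ChevalleyDatum) (K : Type v) [Field K] (a b k : ℕ) (κ : K) : Prop :=
  ∀ t u : K, ⁅D.stGen K a t, D.stGen K b u⁆ = D.stGen K k (κ * t * u)

/-- The root elements of `a` and `b` commute. -/
def Cm (D : ChevalleyDatum) (K : Type v) [Field K] (a b : ℕ) : Prop :=
  ∀ t u : K, Commute (D.stGen K a t) (D.stGen K b u)

/-- All chains have length at most one with constants `±1`. -/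
def UnitChains (D : ChevalleyDatum) : Prop :=
  ∀ r < D.nroots, ∀ s < D.nroots, ∀ k, tgt D r s = some k →
    D.chainEntry r s = [(k, str D r s)] ∧ (str D r s = 1 ∨ str D r s = -1)

theorem chainEntry_nil {r s : ℕ} (h : tgt D r s = none) : D.chainEntry r s = [] := by
  rcases hl : D.chainEntry r s with _ | ⟨x, l⟩
  · rfl
  · simp [tgt, ChevalleyDatum.chainRoot, hl] at h

theorem Cm.symm {a b : ℕ} (h : Cm D K a b) : Cm D K b a := fun t u => (h u t).symm

/-- Roots with the same coefficients are equal. -/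
theorem eq_of_co (hF : Facts D co) {r s : ℕ} (hr : r < D.nroots) (hs : s < D.nroots)
    (h : ∀ j < D.rank, co r j = co s j) : r = s := by
  have e : omega D co r = omega D co s := by
    unfold omega
    exact congrArg List.sum (List.map_congr_left fun j hj => by rw [h j (List.mem_range.1 hj)])
  have mono : ∀ a b, a < b → b < D.nroots → omega D co a < omega D co b := by
    intro a b hab hb
    induction b with
    | zero => omega
    | succ b ih =>
      rcases Nat.lt_succ_iff_lt_or_eq.1 hab with h' | rfl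
      · exact (ih h' (by omega)).trans (hF.omega_lt b hb)
      · exact hF.omega_lt a hb
  rcases lt_trichotomy r s with h' | h' | h'
  · exact absurd e (mono r s h' hs).ne
  · exact h'
  · exact absurd e.symm (mono s r h' hr).ne

section unit

variable (hF : Facts D co) (hU : UnitChains D)
include hF hU

theorem commTerms_none {r s : ℕ} (hr : r < D.nroots) (hs : s < D.nroots) (h : tgt D r s = none) :
    D.commTerms r s = [] := by
  have h' : tgt D s r = none := by rw [(hF.tgt_symm r hr s hs).1, h]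
  have _ := hU
  simp [ChevalleyDatum.commTerms, ChevalleyDatum.chainRoot, chainEntry_nil h, chainEntry_nil h']

theorem commTerms_some {r s k : ℕ} (hr : r < D.nroots) (hs : s < D.nroots) (h : tgt D r s = some k) :
    D.commTerms r s = [(k, str D r s, 1, 1)] := by
  have h' : tgt D s r = some k := by rw [(hF.tgt_symm r hr s hs).1, h]
  simp [ChevalleyDatum.commTerms, ChevalleyDatum.chainRoot, ChevalleyDatum.chainM, (hU r hr s hs k h).1,
    (hU s hs r hr k h').1]

theorem valid_of_tgt {a b k : ℕ} (ha : a < D.nroots) (hb : b < D.nroots) (h : tgt D a b = some k) :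
    Valid D a b ∧ k < D.nroots := by
  have _ := hU
  refine ⟨⟨ha, hb, fun e => ?_, fun e => ?_⟩, (hF.tgt_spec a ha b hb k h).1⟩
  · rw [← e, (hF.tgt_self a ha).1] at h; simp at h
  · rw [e, (hF.tgt_self a ha).2] at h; simp at h

theorem pr_of_tgt {a b k : ℕ} (ha : a < D.nroots) (hb : b < D.nroots) (h : tgt D a b = some k) :
    Pr D K a b k (str D a b : K) ∧ (str D a b : K) ≠ 0 := by
  obtain ⟨⟨-, -, hab, hneg⟩, -⟩ := valid_of_tgt hF hU ha hb h
  refine ⟨fun t u => ?_, ?_⟩
  · have hab' : a ≠ D.neg b := fun e => hneg (by rw [e, hF.neg_neg hb])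
    have h' : tgt D b a = some k := by rw [(hF.tgt_symm a ha b hb).1, h]
    have hrel := stGen_comm hb ha hab hab' (-u) (-t)
    rw [cwR, commTerms_some hF hU hb ha h'] at hrel
    simp only [List.map_cons, List.map_nil, stW, List.prod_cons, List.prod_nil, mul_one, pow_one,
      neg_neg] at hrel
    rw [(hF.tgt_symm a ha b hb).2, Int.cast_neg, neg_mul, mul_neg, neg_mul, neg_neg,
      show (str D a b : K) * u * t = (str D a b : K) * t * u by ring, ← stGen_inv ha, ← stGen_inv hb] at hrel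
    rw [commutatorElement_def]
    calc D.stGen K a t * D.stGen K b u * (D.stGen K a t)⁻¹ * (D.stGen K b u)⁻¹
        = D.stGen K a t * D.stGen K b u * ((D.stGen K a t)⁻¹ * (D.stGen K b u)⁻¹) := by group
      _ = _ := by rw [hrel]; group
  · rcases (hU a ha b hb k h).2 with e | e <;> simp [e]

theorem cm_of_tgt {a b : ℕ} (ha : a < D.nroots) (hb : b < D.nroots) (h : tgt D a b = none)
    (hneg : b ≠ D.neg a) : Cm D K a b := by
  intro t u
  by_cases hab : b = a
  · subst hab
    show _ = _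
    rw [stGen_add ha, stGen_add ha, add_comm]
  have hrel := stGen_comm ha hb hab hneg t u
  rw [cwR, commTerms_none hF hU ha hb h] at hrel
  simp only [List.map_nil, stW, List.prod_nil, mul_one] at hrel
  exact hrel.symm

end unit

section theta

variable (hF : Facts D co) (hN : HasNbr D) {φ : D.SteinbergGroup K →* GL D.Idx K} (hφ : IsTheta D φ)
include hF hφ

theorem stGen_ne_one {r : ℕ} (hr : r < D.nroots) {t : K} (ht : t ≠ 0) : D.stGen K r t ≠ 1 := fun h =>
  ht (hF.xU_eq_one hr (by rw [← hφ r t hr, h, map_one]))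

theorem stGen_inj {r : ℕ} (hr : r < D.nroots) {t u : K} (h : D.stGen K r t = D.stGen K r u) : t = u := by
  refine hF.xU_left_inj hr ?_
  rw [← hφ r t hr, ← hφ r u hr, h]

theorem stGen_root_unique {r s : ℕ} (hr : r < D.nroots) (hs : s < D.nroots) {t u : K} (ht : t ≠ 0)
    (h : D.stGen K r t = D.stGen K s u) : r = s :=
  hF.xU_root_unique hr hs ht (by rw [← hφ r t hr, ← hφ s u hs, h])

theorem not_cm_pr {a b k : ℕ} (hk : k < D.nroots) {κ : K} (hκ : κ ≠ 0) (h : Pr D K a b k κ)
    (hc : Cm D K a b) : False := by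
  refine stGen_ne_one hF hφ hk hκ ?_
  have e := h 1 1
  rw [mul_one, mul_one, (commutatorElement_eq_one_iff_mul_comm).2 (hc 1 1).eq] at e
  exact e.symm

theorem tgt_of_pr (hU : UnitChains D) {a b k : ℕ} (hv : Valid D a b) (hk : k < D.nroots) {κ : K}
    (hκ : κ ≠ 0) (h : Pr D K a b k κ) : tgt D a b = some k := by
  rcases ht : tgt D a b with _ | k'
  · exact (not_cm_pr hF hφ hk hκ h (cm_of_tgt hF hU hv.1 hv.2.1 ht hv.2.2.2)).elim
  · obtain ⟨hp, hne⟩ := pr_of_tgt (K := K) hF hU hv.1 hv.2.1 ht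
    have e := (h 1 1).symm.trans (hp 1 1)
    rw [mul_one, mul_one, mul_one, mul_one] at e
    rw [stGen_root_unique hF hφ hk (valid_of_tgt hF hU hv.1 hv.2.1 ht).2 hκ e]

/-- An element sending root subgroups to root subgroups, with factors. -/
def Moves (D : ChevalleyDatum) {K : Type v} [Field K] (z : D.SteinbergGroup K)
    (w : Equiv.Perm (Fin D.nroots)) (c : Fin D.nroots → K) : Prop :=
  (∀ s, c s ≠ 0) ∧ ∀ (s : Fin D.nroots) (t : K),
    z * D.stGen K s.val t * z⁻¹ = D.stGen K (w s).val (c s * t)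

include hN

theorem exists_moves {z : D.SteinbergGroup K} (hz : z ∈ stN' D K) {w : Equiv.Perm (Fin D.nroots)}
    (hw : PermAct (φ z) w) : ∃ c, Moves D z w c := by
  choose c hc0 hc hc' using hw
  exact ⟨c, hc0, fun s t => hF.stTr_eq hφ (hF.stTr_N hφ hN hz) s.isLt (w s).isLt (hc s t)⟩

omit hN hF hφ in
theorem Moves.cm {z : D.SteinbergGroup K} {w : Equiv.Perm (Fin D.nroots)} {c : Fin D.nroots → K}
    (hm : Moves D z w c) {a b : Fin D.nroots} (h : Cm D K a.val b.val) :
    Cm D K (w a).val (w b).val := by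
  intro t u
  have ea := hm.2 a (t / c a)
  have eb := hm.2 b (u / c b)
  rw [mul_div_cancel₀ _ (hm.1 a)] at ea
  rw [mul_div_cancel₀ _ (hm.1 b)] at eb
  rw [← ea, ← eb]
  exact (h (t / c a) (u / c b)).map (MulAut.conj z).toMonoidHom

omit hN hF hφ in
theorem Moves.pr {z : D.SteinbergGroup K} {w : Equiv.Perm (Fin D.nroots)} {c : Fin D.nroots → K}
    (hm : Moves D z w c) {a b k : Fin D.nroots} {κ : K} (h : Pr D K a.val b.val k.val κ) :
    Pr D K (w a).val (w b).val (w k).val (c k * κ / (c a * c b)) := by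
  intro t u
  have ea := hm.2 a (t / c a)
  have eb := hm.2 b (u / c b)
  have ek := hm.2 k (κ * (t / c a) * (u / c b))
  rw [mul_div_cancel₀ _ (hm.1 a)] at ea
  rw [mul_div_cancel₀ _ (hm.1 b)] at eb
  rw [← ea, ← eb, ← h (t / c a) (u / c b)] at *
  rw [show c k * κ / (c a * c b) * t * u = c k * (κ * (t / c a) * (u / c b)) by
    field_simp [hm.1 a, hm.1 b], ← ek]
  exact (map_commutatorElement (MulAut.conj z).toMonoidHom _ _).symm

omit hN hF hφ in
theorem Moves.inv {z : D.SteinbergGroup K} {w : Equiv.Perm (Fin D.nroots)} {c : Fin D.nroots → K}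
    (hm : Moves D z w c) : Moves D z⁻¹ w⁻¹ fun s => (c (w⁻¹ s))⁻¹ := by
  refine ⟨fun s => inv_ne_zero (hm.1 _), fun s t => ?_⟩
  have e := hm.2 (w⁻¹ s) ((c (w⁻¹ s))⁻¹ * t)
  rw [← mul_assoc (c _), mul_inv_cancel₀ (hm.1 _), one_mul, show w (w⁻¹ s) = s from w.apply_symm_apply s] at e
  rw [← e]
  group

omit hN hφ in
theorem permAct_simple {i : ℕ} (hi : i < D.rank) :
    PermAct (nU D (D.simple i) (1 : K)) (sP D ⟨i, hi⟩) :=
  hF.permAct_nS (F := K) ⟨i, hi⟩

/-- The simple reflection is realised in the presented group. -/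
theorem exists_moves_simple {i : ℕ} (hi : i < D.rank) :
    ∃ c, Moves D (stNG D (D.simple i) (1 : K)) (sP D ⟨i, hi⟩) c := by
  refine exists_moves hF hN hφ (hF.st_gen_mem hi one_ne_zero) ?_
  rw [hφ.map_stNG hF (hF.simple_lt' hi)]
  exact permAct_simple hF hi

theorem stNG_mem {r : ℕ} (hr : r < D.nroots) : ∀ {c : K}, c ≠ 0 → stNG D r c ∈ stN' D K := by
  refine hF.root_induction (P := fun r => ∀ {c : K}, c ≠ 0 → stNG D r c ∈ stN' D K)
    (fun i hi c hc => hF.st_gen_mem hi hc) (fun i hi s hs ih c hc => ?_) hr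
  obtain ⟨e, hm⟩ := exists_moves_simple hF hN hφ hi (K := K)
  set z := stNG D (D.simple i) (1 : K)
  set w := sP D ⟨i, hi⟩
  have hwv : ∀ x : Fin D.nroots, (w x).val = D.reflectRoot i x.val := fun x => hF.sP_val _ _
  have hs' : (w ⟨s, hs⟩).val = D.reflectRoot i s := hwv _
  have hn' : (w ⟨D.neg s, hF.neg_lt hs⟩).val = D.neg (D.reflectRoot i s) := by
    rw [hwv, hF.refl_neg i hi s hs]
  set es := e ⟨s, hs⟩ with hes
  set en := e ⟨D.neg s, hF.neg_lt hs⟩ with hen
  have h1 : ∀ t, z * D.stGen K s t * z⁻¹ = D.stGen K (D.reflectRoot i s) (es * t) := fun t => by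
    rw [← hs']; exact hm.2 ⟨s, hs⟩ t
  have h2 : ∀ t, z * D.stGen K (D.neg s) t * z⁻¹ = D.stGen K (D.neg (D.reflectRoot i s)) (en * t) :=
    fun t => by rw [← hn']; exact hm.2 ⟨_, hF.neg_lt hs⟩ t
  have hprod : es * en = 1 := by
    have hlt := hF.refl_lt i hi s hs
    obtain ⟨η, he1, he2, he3⟩ := hF.exists_eta (F := K) hi
    have k1 : ∀ {x : ℕ} (hx : x < D.nroots), e ⟨x, hx⟩ = (η x : K) := by
      intro x hx
      have e1 : z * D.stGen K x 1 * z⁻¹ = D.stGen K (D.reflectRoot i x) (η x : K) := by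
        refine hF.stTr_eq hφ (hF.stTr_N hφ hN (hF.st_gen_mem hi one_ne_zero)) hx (hF.refl_lt i hi x hx) ?_
        rw [hφ.map_stNG hF (hF.simple_lt' hi), he3 x hx, mul_one, mul_inv_cancel_right]
      have e2 := hm.2 ⟨x, hx⟩ 1
      rw [hwv, mul_one] at e2
      exact stGen_inj hF hφ (hF.refl_lt i hi x hx) (e2.symm.trans e1)
    rw [hes, hen, k1 hs, k1 (hF.neg_lt hs), he2 s hs]
    rcases he1 s hs with h | h <;> simp [h]
  have hes0 : es ≠ 0 := hm.1 _
  have key : stNG D (D.reflectRoot i s) c = z * stNG D s (c / es) * z⁻¹ := by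
    have hz : z * stNG D s (c / es) * z⁻¹ = (z * D.stGen K s (c / es) * z⁻¹) *
        (z * D.stGen K (D.neg s) (-(c / es)⁻¹) * z⁻¹) * (z * D.stGen K s (c / es) * z⁻¹) := by
      simp only [stNG]; group
    have hen' : en = es⁻¹ := eq_inv_of_mul_eq_one_right hprod
    rw [hz, h1, h2, stNG, mul_div_cancel₀ _ hes0, hen']
    congr 3
    field_simp
  rw [key]
  exact mul_mem (mul_mem (hF.st_gen_mem hi one_ne_zero) (ih (div_ne_zero hc hes0)))
    (inv_mem (hF.st_gen_mem hi one_ne_zero))

/-- The Weyl element of a root sends it to its negative. -/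
theorem exists_moves_root {r : ℕ} (hr : r < D.nroots) {c : K} (hc : c ≠ 0) :
    ∃ (w : Equiv.Perm (Fin D.nroots)) (e : Fin D.nroots → K), Moves D (stNG D r c) w e ∧
      w ⟨r, hr⟩ = ⟨D.neg r, hF.neg_lt hr⟩ ∧
      ∀ a b : Fin D.nroots, Valid D a.val b.val → Valid D (w a).val (w b).val := by
  obtain ⟨w, hw, hco⟩ := hF.exists_reflection (F := K) hr
  obtain ⟨e, he⟩ := exists_moves hF hN hφ (stNG_mem hF hN hφ hr hc) (w := w)
    (by rw [hφ.map_stNG hF hr]; exact hw c hc)
  refine ⟨w, e, he, Fin.ext (eq_of_co hF (w _).isLt (hF.neg_lt hr) fun j hj => ?_), fun a b hab => ?_⟩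
  · rw [hco _ j hj, hF.co_neg r hr j hj, show prE D r r = 2 from hF.cor_pair r hr]
    ring
  · refine ⟨(w a).isLt, (w b).isLt, fun h => hab.2.2.1 ?_, fun h => hab.2.2.2 ?_⟩
    · rw [w.injective (Fin.ext h)]
    · have hn := hF.neg_lt a.isLt
      have : w b = w ⟨D.neg a.val, hn⟩ := by
        refine Fin.ext (eq_of_co hF (w b).isLt (w _).isLt fun j hj => ?_)
        rw [h, hF.co_neg _ (w a).isLt j hj, hco a j hj, hco ⟨_, hn⟩ j hj, hF.co_neg _ a.isLt j hj,
          (hF.isWeight_prE hr).neg _ a.isLt]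
        ring
      rw [w.injective this]

/-- The rank one relation. -/
theorem stNG_conj_self {r : ℕ} (hr : r < D.nroots) {c : K} (hc : c ≠ 0) (u : K) :
    stNG D r c * D.stGen K r u * (stNG D r c)⁻¹ = D.stGen K (D.neg r) (-(c⁻¹ ^ 2 * u)) := by
  refine hF.stTr_eq hφ (hF.stTr_N hφ hN (stNG_mem hF hN hφ hr hc)) hr (hF.neg_lt hr) ?_
  rw [hφ.map_stNG hF hr]
  have e : nU D r c = hU D r c * nU D r (1 : K) := by rw [hU, ← hF.nU_inv hr, inv_mul_cancel_right]
  rw [e, show hU D r c * nU D r 1 * xU D r u * (hU D r c * nU D r 1)⁻¹ =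
    hU D r c * (nU D r 1 * xU D r u * (nU D r 1)⁻¹) * (hU D r c)⁻¹ by group, hF.nU_conj_self hr,
    show c = ((Units.mk0 c hc : Kˣ) : K) from rfl, hF.hU_conj_xU hr (hF.neg_lt hr),
    show prE D r (D.neg r) = -prE D r r from (hF.isWeight_prE hr).neg _ hr,
    show prE D r r = 2 from hF.cor_pair r hr]
  congr 1
  simp [_root_.zpow_neg]

end theta

end CfsgLib.Chev.Lift
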