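import Cfsg.Agent.Lib.Chev.StTheta
import Cfsg.Agent.Lib.Chev.Poincare
import Cfsg.Agent.Lib.Known.ChevLift.Roots
import Cfsg.Agent.Lib.Known.ChevLift.TorusCheck
import Cfsg.Agent.Lib.Known.SL2Lift
import Cfsg.Agent.Lib.SLSteinberg.Basic

/-!
# Families satisfying the additivity and commutator relations

A family of root elements over a Steinberg group with the relations (R1) and (R2) also satisfies (R3): the map
downwards is faithful on half spaces, hence the Weyl elements of the family move the family as below.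
-/

set_option autoImplicit false

namespace CfsgLib.Chev.Lift

open Cfsg.Lie

universe v w

variable {D : ChevalleyDatum} {co : ℕ → ℕ → ℤ} {K : Type v} [Field K] {E : Type w} [Group E]

/-- A weight is a linear function of the coefficients. -/
theorem weight_all (hF : Facts D co) {w : ℕ → ℤ} (hw : IsWeight D w) {r : ℕ} (hr : r < D.nroots) :
    w r = ∑ j ∈ Finset.range D.rank, co r j * w (D.simple j) := by
  rcases Nat.lt_or_ge r (D.nroots / 2) with h | h
  · have h1 := hF.weight_expand hw _ (hF.neg_lt hr) ((hF.neg_lt_half hr).2 h)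
    rw [hw.neg r hr, neg_eq_iff_eq_neg] at h1
    rw [h1, ← Finset.sum_neg_distrib]
    exact Finset.sum_congr rfl fun j hj => by rw [hF.co_neg r hr j (Finset.mem_range.1 hj)]; ring
  · exact hF.weight_expand hw r hr h

/-- A family over the root elements, additive in the parameter. -/
structure IsRootFam (σ : E →* D.SteinbergGroup K) (e : ℕ → K → E) : Prop where
  proj : ∀ r < D.nroots, ∀ t, σ (e r t) = D.stGen K r t
  add : ∀ r < D.nroots, ∀ t u, e r (t + u) = e r t * e r u

/-- The product of the family along a word. -/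
def eW (e : ℕ → K → E) (w : List (ℕ × K)) : E := (w.map fun p => e p.1 p.2).prod

/-- The commutator relation of the pair `(r, s)`. -/
def RelAt (D : ChevalleyDatum) (e : ℕ → K → E) (r s : ℕ) : Prop :=
  ∀ t u : K, e s u * e r t = e r t * e s u * eW e (cwR D r s t u)

/-- The subgroup generated by the family on the roots in `P`. -/
def eCl (D : ChevalleyDatum) (e : ℕ → K → E) (P : ℕ → Prop) : Subgroup E :=
  Subgroup.closure {g | ∃ (r : ℕ) (t : K), r < D.nroots ∧ P r ∧ g = e r t}

theorem mem_eCl {e : ℕ → K → E} {P : ℕ → Prop} {r : ℕ} (hr : r < D.nroots) (h : P r) (t : K) :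
    e r t ∈ eCl D e P :=
  Subgroup.subset_closure ⟨r, t, hr, h, rfl⟩

theorem eW_mem {e : ℕ → K → E} {S : Subgroup E} {w : List (ℕ × K)}
    (h : ∀ p ∈ w, e p.1 p.2 ∈ S) : eW e w ∈ S :=
  Subgroup.list_prod_mem _ fun g hg => by
    obtain ⟨p, hp, rfl⟩ := List.mem_map.1 hg
    exact h p hp

variable {σ : E →* D.SteinbergGroup K} {e : ℕ → K → E} (hA : IsRootFam σ e)
include hA

theorem fam_zero {r : ℕ} (hr : r < D.nroots) : e r 0 = 1 := by
  have := hA.add r hr 0 0
  rw [add_zero] at this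
  exact left_eq_mul.1 this

theorem fam_inv {r : ℕ} (hr : r < D.nroots) (t : K) : (e r t)⁻¹ = e r (-t) := by
  rw [inv_eq_iff_mul_eq_one, ← hA.add r hr, add_neg_cancel, fam_zero hA hr]

theorem σ_eW {w : List (ℕ × K)} (h : ∀ p ∈ w, p.1 < D.nroots) : σ (eW e w) = stW D w := by
  rw [eW, stW, map_list_prod, List.map_map]
  exact congrArg List.prod (List.map_congr_left fun p hp => hA.proj p.1 (h p hp) p.2)

variable (hF : Facts D co)
include hF

theorem eCl_conj_mem {P : ℕ → Prop} {i : ℕ} (hi : i < D.nroots)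
    (h : ∀ j < D.nroots, P j → i ≠ j → RelAt D e i j ∧ ∀ c ∈ D.commTerms i j, P c.1) (u : K)
    {x : E} (hx : x ∈ eCl D e P) : e i u * x * (e i u)⁻¹ ∈ eCl D e P := by
  induction hx using Subgroup.closure_induction with
  | mem y hy =>
    obtain ⟨j, t, hj, hP, rfl⟩ := hy
    by_cases hij : i = j
    · subst hij
      rw [fam_inv hA hi, ← hA.add i hi, ← hA.add i hi, show u + t + -u = t by ring]
      exact mem_eCl hi hP t
    · obtain ⟨h1, h2⟩ := h j hj hP hij
      rw [fam_inv hA hi, mul_assoc, h1, ← mul_assoc, ← mul_assoc, ← hA.add i hi, add_neg_cancel,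
        fam_zero hA hi, one_mul]
      refine Subgroup.mul_mem _ (mem_eCl hj hP t) (eW_mem fun p hp => ?_)
      obtain ⟨c, hc, rfl⟩ := List.mem_map.1 hp
      exact mem_eCl (hF.commTerms_wt hF.isWeight_omega hi hj hc).1 (h2 c hc) _
  | one => simp
  | mul a b _ _ ha hb =>
    rw [show e i u * (a * b) * (e i u)⁻¹ = (e i u * a * (e i u)⁻¹) * (e i u * b * (e i u)⁻¹) by group]
    exact Subgroup.mul_mem _ ha hb
  | inv a _ ha =>
    rw [show e i u * a⁻¹ * (e i u)⁻¹ = (e i u * a * (e i u)⁻¹)⁻¹ by group]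
    exact Subgroup.inv_mem _ ha

theorem eCl_split {P : ℕ → Prop} {m : ℕ} (hm : m < D.nroots)
    (h : ∀ j < D.nroots, P j ∧ j ≠ m → m ≠ j →
      RelAt D e m j ∧ ∀ c ∈ D.commTerms m j, P c.1 ∧ c.1 ≠ m)
    {g : E} (hg : g ∈ eCl D e P) :
    ∃ a : K, ∃ g' ∈ eCl D e (fun r => P r ∧ r ≠ m), g = e m a * g' := by
  induction hg using Subgroup.closure_induction with
  | mem x hx =>
    obtain ⟨r, t, hr, hP, rfl⟩ := hx
    by_cases e' : r = m
    · exact ⟨t, 1, Subgroup.one_mem _, by rw [e', mul_one]⟩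
    · exact ⟨0, _, mem_eCl hr ⟨hP, e'⟩ t, by rw [fam_zero hA hm, one_mul]⟩
  | one => exact ⟨0, 1, Subgroup.one_mem _, by rw [fam_zero hA hm, one_mul]⟩
  | mul x y _ _ hx hy =>
    obtain ⟨a, x', hx', rfl⟩ := hx
    obtain ⟨b, y', hy', rfl⟩ := hy
    refine ⟨a + b, (e m b)⁻¹ * x' * e m b * y', Subgroup.mul_mem _ ?_ hy', ?_⟩
    · rw [fam_inv hA hm]
      have := eCl_conj_mem hA hF hm h (-b) hx'
      rwa [fam_inv hA hm, neg_neg] at this
    · rw [hA.add m hm]; group
  | inv x _ hx =>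
    obtain ⟨a, x', hx', rfl⟩ := hx
    refine ⟨-a, e m a * x'⁻¹ * (e m a)⁻¹, eCl_conj_mem hA hF hm h a (Subgroup.inv_mem _ hx'), ?_⟩
    rw [← fam_inv hA hm]; group

variable {φ : D.SteinbergGroup K →* GL D.Idx K} (hφ : IsTheta D φ)
include hφ

theorem map_eCl {P : ℕ → Prop} {g : E} (hg : g ∈ eCl D e P) : φ (σ g) ∈ rootClosure D K P := by
  induction hg using Subgroup.closure_induction with
  | mem x hx =>
    obtain ⟨r, t, hr, hP, rfl⟩ := hx
    rw [hA.proj r hr, hφ r t hr]; exact xU_mem_rootClosure hr hP t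
  | one => rw [map_one, map_one]; exact Subgroup.one_mem _
  | mul x y _ _ hx hy => rw [map_mul, map_mul]; exact Subgroup.mul_mem _ hx hy
  | inv x _ hx => rw [map_inv, map_inv]; exact Subgroup.inv_mem _ hx

/-- The map downwards is injective on a closed set of positive weight. -/
theorem eCl_injective {P : ℕ → Prop} {f : ℕ → ℤ} (hf : IsWeight D f)
    (hpos : ∀ r < D.nroots, P r → 0 < f r)
    (hcl : ∀ r < D.nroots, ∀ s < D.nroots, P r → P s → r ≠ s →
      RelAt D e r s ∧ ∀ c ∈ D.commTerms r s, P c.1)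
    {g g' : E} (hg : g ∈ eCl D e P) (hg' : g' ∈ eCl D e P) (hgg : σ g = σ g') : g = g' := by
  classical
  suffices key : ∀ x ∈ eCl D e P, φ (σ x) = 1 → x = 1 from
    inv_mul_eq_one.1 (key _ (Subgroup.mul_mem _ (Subgroup.inv_mem _ hg) hg')
      (by rw [map_mul, map_inv, hgg, inv_mul_cancel, map_one]))
  obtain ⟨w, hw, hwpos, hwinj⟩ := hF.exists_injective_weight hf
  suffices ∀ (n : ℕ) (P : ℕ → Prop),
      ((Finset.range D.nroots).filter P).card = n → (∀ r < D.nroots, P r → 0 < w r) →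
      (∀ r < D.nroots, ∀ s < D.nroots, P r → P s → r ≠ s →
        RelAt D e r s ∧ ∀ c ∈ D.commTerms r s, P c.1) →
      ∀ x ∈ eCl D e P, φ (σ x) = 1 → x = 1 from
    this _ P rfl (fun r hr hP => hwpos r hr (hpos r hr hP)) hcl
  intro n
  induction n with
  | zero =>
    intro P hn _ _ x hx _
    have : eCl D e P = ⊥ := by
      rw [eq_bot_iff]
      refine (Subgroup.closure_le _).2 ?_
      rintro y ⟨r, t, hr, hP, -⟩
      have : r ∈ (Finset.range D.nroots).filter P := Finset.mem_filter.2 ⟨Finset.mem_range.2 hr, hP⟩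
      rw [Finset.card_eq_zero.1 hn] at this
      simp at this
    rwa [this, Subgroup.mem_bot] at hx
  | succ n ih =>
    intro P hn hp hc x hx hx1
    obtain ⟨m, hmem, hmin⟩ := ((Finset.range D.nroots).filter P).exists_min_image w
      (Finset.card_pos.1 (by omega))
    rw [Finset.mem_filter, Finset.mem_range] at hmem
    obtain ⟨hm, hPm⟩ := hmem
    have hlt : ∀ j < D.nroots, P j → j ≠ m → w m < w j := fun j hj hP hne =>
      lt_of_le_of_ne (hmin j (Finset.mem_filter.2 ⟨Finset.mem_range.2 hj, hP⟩))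
        fun e' => hne (hwinj m hm j hj e').symm
    have hterm : ∀ r < D.nroots, ∀ s < D.nroots, P r → P s → r ≠ s →
        RelAt D e r s ∧ ∀ c ∈ D.commTerms r s, P c.1 ∧ c.1 ≠ m := by
      intro r hr s hs hPr hPs hrs
      refine ⟨(hc r hr s hs hPr hPs hrs).1, fun c hc' =>
        ⟨(hc r hr s hs hPr hPs hrs).2 c hc', fun e' => ?_⟩⟩
      obtain ⟨-, hi, hj, hwc⟩ := hF.commTerms_wt hw hr hs hc'
      have h1 := hmin r (Finset.mem_filter.2 ⟨Finset.mem_range.2 hr, hPr⟩)
      have h2 := hp s hs hPs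
      simp only [nsmul_eq_mul] at hwc
      have := le_mul_of_one_le_left (hp r hr hPr).le (show (1 : ℤ) ≤ (c.2.2.1 : ℤ) by omega)
      have := le_mul_of_one_le_left h2.le (show (1 : ℤ) ≤ (c.2.2.2 : ℤ) by omega)
      rw [e'] at hwc
      omega
    obtain ⟨a, g', hg', rfl⟩ := eCl_split hA hF hm (P := P)
      (fun j hj hjP hne => hterm m hm j hj hPm hjP.1 hne) hx
    rw [map_mul, map_mul, hA.proj m hm, hφ m a hm] at hx1
    have hut : UT (wt D w) (w m + 1) ((xU D m a : GL D.Idx K) : Matrix D.Idx D.Idx K) := by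
      rw [eq_inv_of_mul_eq_one_left hx1, ← map_inv, ← map_inv]
      refine ut_closure (by have := hp m hm hPm; omega) ?_
        (map_eCl hA hF hφ (Subgroup.inv_mem _ hg'))
      rintro y ⟨r, t, hr, ⟨hPr, hne⟩, rfl⟩
      have := hlt r hr hPr hne
      have := hp r hr hPr
      rw [hF.xU_inv hr]
      exact ⟨hF.xU_ut_gen hw hr (by omega) (by omega) t,
        hF.xU_ut_gen hw hr (by omega) (by omega) (-t)⟩
    have ha : a = 0 := hF.xU_eq_zero_gen hw hm hut
    subst ha
    rw [hF.xU_zero hm, one_mul] at hx1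
    rw [fam_zero hA hm, one_mul]
    refine ih _ ?_ (fun r hr h => hp r hr h.1)
      (fun r hr s hs h1 h2 hne => hterm r hr s hs h1.1 h2.1 hne) g' hg' hx1
    refine (congrArg Finset.card (Finset.ext fun x => ?_)).trans
      ((Finset.card_erase_of_mem (Finset.mem_filter.2 ⟨Finset.mem_range.2 hm, hPm⟩)).trans
        (by omega))
    simp only [Finset.mem_filter, Finset.mem_erase]
    tauto

variable (hR : ∀ r s, OkPair D r s → RelAt D e r s)
include hR

theorem halfspace_injective {f : ℕ → ℤ} (hf : IsWeight D f) {g g' : E}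
    (hg : g ∈ eCl D e (fun x => 0 < f x)) (hg' : g' ∈ eCl D e (fun x => 0 < f x))
    (h : σ g = σ g') : g = g' := by
  refine eCl_injective hA hF hφ hf (fun r _ h => h) (fun r hr s hs h1 h2 hne => ?_) hg hg' h
  refine ⟨hR r s ⟨hr, hs, Ne.symm hne, fun e' => ?_⟩, fun c hc => ?_⟩
  · rw [e', hf.neg r hr] at h2; omega
  · obtain ⟨-, -, hj, hw⟩ := hF.commTerms_wt hf hr hs hc
    simp only [nsmul_eq_mul] at hw
    rw [hw]; positivity

/-- The Weyl word of the family. -/
theorem fam_transport {r : ℕ} (hr : r < D.nroots) {c : K} (hc : c ≠ 0) {s : ℕ} (hs : s < D.nroots)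
    (h1 : s ≠ r) (h2 : s ≠ D.neg r) (t : K) :
    ∃ q < D.nroots, ∃ v : K, (∀ j < D.rank, co q j = co s j - prE D r s * co r j) ∧
      e r c * e (D.neg r) (-c⁻¹) * e r c * e s t * (e r c * e (D.neg r) (-c⁻¹) * e r c)⁻¹ = e q v := by
  obtain ⟨q, hq, v, hco, hst⟩ := hF.stNG_transport hφ hr hc hs h1 h2 t
  obtain ⟨f, hf, hfr, hfs, hfq⟩ := hF.exists_halfspace hr hs h1 h2
  refine ⟨q, hq, v, hco, ?_⟩
  have hfq' : 0 < f q := by rw [hfq q hq _ hco]; exact hfs
  have hnorm : ∀ i, i < D.nroots → f i = 0 → ∀ (u : K) (x : E),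
      x ∈ eCl D e (fun y => 0 < f y) → e i u * x * (e i u)⁻¹ ∈ eCl D e (fun y => 0 < f y) := by
    intro i hi hfi u x hx
    refine eCl_conj_mem hA hF hi (fun j hj hfj hne => ⟨hR i j ⟨hi, hj, Ne.symm hne, fun e' => ?_⟩,
      fun d hd => ?_⟩) u hx
    · rw [e', hf.neg i hi] at hfj; omega
    · obtain ⟨-, -, hj', hw⟩ := hF.commTerms_wt hf hi hj hd
      simp only [nsmul_eq_mul, hfi, mul_zero, zero_add] at hw
      rw [hw]; positivity
  have hn := hF.neg_lt hr
  have hfn : f (D.neg r) = 0 := by rw [hf.neg r hr, hfr, neg_zero]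
  refine halfspace_injective hA hF hφ hR hf ?_ (mem_eCl hq hfq' v) ?_
  · have := hnorm r hr hfr c _ (hnorm _ hn hfn (-c⁻¹) _ (hnorm r hr hfr c _ (mem_eCl hs hfs t)))
    simpa [mul_assoc] using this
  · simp only [map_mul, map_inv, hA.proj r hr, hA.proj _ hn, hA.proj s hs, hA.proj q hq]
    exact hst

variable (hN : HasNbr D) (hL : LinCert D)
include hN hL

/-- The Weyl word of a root moves its own family. -/
theorem fam_weyl {r : ℕ} (hr : r < D.nroots) {t : K} (ht : t ≠ 0) (u : K) :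
    e r t * e (D.neg r) (-t⁻¹) * e r t * e r u * (e r t * e (D.neg r) (-t⁻¹) * e r t)⁻¹ =
      e (D.neg r) (-(t⁻¹ ^ 2 * u)) := by
  obtain ⟨a, b, ⟨k, C, i, j⟩, ⟨ha, hb, hab, hab'⟩, hmem, hk, hi, hC, hnd⟩ := hL r hr
  dsimp only at hk hi hC
  subst hk hi
  set n := e k t * e (D.neg k) (-t⁻¹) * e k t with hn
  have hnk := hF.neg_lt hr
  -- a weight positive on `a` and `b`
  obtain ⟨f1, hf1, hf1a, hf1b, -⟩ := hF.exists_halfspace ha hb hab hab'
  obtain ⟨f2, hf2, hf2b, hf2a, -⟩ := hF.exists_halfspace hb ha (Ne.symm hab)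
    (fun e' => hab' (by rw [e', hF.neg_neg hb]))
  have hg : IsWeight D (fun x => f1 x + f2 x) :=
    ⟨fun x hx => by simp only [hf1.neg x hx, hf2.neg x hx]; ring,
      fun x hx y hy z hz => by simp only [hf1.add x hx y hy z hz, hf2.add x hx y hy z hz]; ring⟩
  set g := fun x => f1 x + f2 x with hgdef
  have hga : 0 < g a := by show 0 < f1 a + f2 a; omega
  have hgb : 0 < g b := by show 0 < f1 b + f2 b; omega
  obtain ⟨hkn, -, hj0, hgk⟩ := hF.commTerms_wt hg ha hb hmem
  dsimp only at hj0 hgk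
  simp only [nsmul_eq_mul, Nat.cast_one, one_mul] at hgk
  have hgbj : g b ≤ (j : ℤ) * g b := le_mul_of_one_le_left hgb.le (by exact_mod_cast hj0)
  have hak : a ≠ k := fun e' => by rw [e'] at hga hgk; omega
  have hak' : a ≠ D.neg k := fun e' => by rw [e', hg.neg k hkn] at hga hgk; omega
  obtain ⟨f3, hf3, hf3a, hf3b, -⟩ := hF.exists_halfspace ha hb hab hab'
  have hbk : b ≠ k := fun e' => by
    obtain ⟨-, -, -, h3⟩ := hF.commTerms_wt hf2 ha hb hmem
    dsimp only at h3
    simp only [nsmul_eq_mul, hf2b, mul_zero, add_zero, Nat.cast_one, one_mul] at h3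
    rw [← e', hf2b] at h3; omega
  have hbk' : b ≠ D.neg k := fun e' => by
    have h4 := congrArg g e'
    rw [hg.neg k hkn] at h4
    omega
  -- the weight after the reflection
  have hlin : ∀ q < D.nroots, ∀ s < D.nroots,
      (∀ j < D.rank, co q j = co s j - prE D k s * co k j) →
      g q = g s - prE D k s * g k ∧ prE D k q = -prE D k s := by
    intro q hq s hs hco
    have hlinear : ∀ w : ℕ → ℤ, IsWeight D w → ∃ c : ℕ → ℤ, ∀ p < D.nroots,
        w p = ∑ j ∈ Finset.range D.rank, co p j * c j := fun w hw =>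
      ⟨fun j => w (D.simple j), fun p hp => weight_all hF hw hp⟩
    constructor
    · obtain ⟨c, hc⟩ := hlinear g hg
      rw [hc q hq, hc s hs, hc k hkn, Finset.mul_sum, ← Finset.sum_sub_distrib]
      exact Finset.sum_congr rfl fun j hj => by rw [hco j (Finset.mem_range.1 hj)]; ring
    · obtain ⟨c, hc⟩ := hlinear _ (hF.isWeight_prE hr)
      have h2 : prE D k k = 2 := hF.cor_pair k hr
      rw [hc q hq, show ∑ j ∈ Finset.range D.rank, co q j * c j =
        ∑ j ∈ Finset.range D.rank, co s j * c j - prE D k s * ∑ j ∈ Finset.range D.rank, co k j * c j by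
          rw [Finset.mul_sum, ← Finset.sum_sub_distrib]
          exact Finset.sum_congr rfl fun j hj => by rw [hco j (Finset.mem_range.1 hj)]; ring,
        ← hc s hs, ← hc k hkn, h2]
      ring
  set f := fun x => g x - prE D k x * g k with hfdef
  have hf : IsWeight D f :=
    ⟨fun x hx => by simp only [hfdef, hg.neg x hx, (hF.isWeight_prE hr).neg x hx]; ring,
      fun x hx y hy z hz => by
        simp only [hfdef, hg.add x hx y hy z hz, (hF.isWeight_prE hr).add x hx y hy z hz]; ring⟩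
  have hfk : 0 < f (D.neg k) := by
    show 0 < g (D.neg k) - prE D k (D.neg k) * g k
    rw [hg.neg k hkn, (hF.isWeight_prE hr).neg k hkn, show prE D k k = 2 from hF.cor_pair k hr]
    have hgk0 : 0 < g k := by rw [hgk]; omega
    omega
  set S := eCl D e (fun x => 0 < f x)
  have himg : ∀ s, s < D.nroots → s ≠ k → s ≠ D.neg k → 0 < g s → ∀ w, n * e s w * n⁻¹ ∈ S := by
    intro s hs h1 h2 hgs w
    obtain ⟨q, hq, v, hco, he⟩ := fam_transport hA hF hφ hR hr ht hs h1 h2 w
    rw [hn, he]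
    refine mem_eCl hq ?_ v
    obtain ⟨e1, e2⟩ := hlin q hq s hs hco
    show 0 < g q - prE D k q * g k
    rw [e1, e2]
    linarith
  -- the commutator
  obtain ⟨L1, L2, hsplit⟩ := List.append_of_mem hmem
  have hother : ∀ d, d ∈ L1 ∨ d ∈ L2 → ∀ w, n * e d.1 w * n⁻¹ ∈ S := by
    intro d hd w
    have hdm : d ∈ D.commTerms a b := by
      rw [hsplit]; rcases hd with hd | hd <;> simp [hd]
    obtain ⟨hdn, hdi, hdj, hgd⟩ := hF.commTerms_wt hg ha hb hdm
    simp only [nsmul_eq_mul] at hgd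
    have hd0 : 0 < g d.1 := by rw [hgd]; positivity
    refine himg d.1 hdn (fun e' => ?_) (fun e' => ?_) hd0 w
    · rw [termRoots, hsplit, List.map_append, List.map_cons, List.nodup_append] at hnd
      rcases hd with hd | hd
      · exact hnd.2.2 d.1 (List.mem_map_of_mem hd) k (by simp) e'
      · have hd1 : d.1 ∈ List.map Prod.fst L2 := List.mem_map_of_mem hd
        rw [e'] at hd1
        exact (List.nodup_cons.1 hnd.2.1).1 hd1
    · rw [e', hg.neg k hkn] at hd0
      rw [hgk] at hd0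
      omega
  have hmem' : ∀ w : K, n * e k w * n⁻¹ ∈ S := by
    intro w
    obtain ⟨T, hT⟩ : ∃ T : K, (C : K) * (-T) ^ 1 * (1 : K) ^ j = w := by
      rcases hC with rfl | rfl
      · exact ⟨-w, by simp⟩
      · exact ⟨w, by simp⟩
    have hrel := hR a b ⟨ha, hb, hab, hab'⟩ T 1
    set W1 := eW e (L1.map fun c => (c.1, (c.2.1 : K) * (-T) ^ c.2.2.1 * (1 : K) ^ c.2.2.2)) with hW1
    set W2 := eW e (L2.map fun c => (c.1, (c.2.1 : K) * (-T) ^ c.2.2.1 * (1 : K) ^ c.2.2.2)) with hW2
    have hW : eW e (cwR D a b T 1) = W1 * e k w * W2 := by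
      rw [cwR, hsplit, hW1, hW2, List.map_append, List.map_cons]
      dsimp only
      rw [hT]
      simp only [eW, List.map_append, List.map_cons, List.prod_append, List.prod_cons, ← mul_assoc]
    have hWS : ∀ L : List (ℕ × ℤ × ℕ × ℕ), (∀ d ∈ L, ∀ w, n * e d.1 w * n⁻¹ ∈ S) →
        n * eW e (L.map fun c => (c.1, (c.2.1 : K) * (-T) ^ c.2.2.1 * (1 : K) ^ c.2.2.2)) * n⁻¹ ∈ S :=
      fun L hL' => by
        induction L with
        | nil => simp [eW]
        | cons d L ih =>
          have h1 := hL' d (by simp) ((d.2.1 : K) * (-T) ^ d.2.2.1 * (1 : K) ^ d.2.2.2)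
          have h2 := ih fun d' hd' => hL' d' (List.mem_cons_of_mem _ hd')
          have := Subgroup.mul_mem _ h1 h2
          simpa [eW, mul_assoc] using this
    have hA' := himg a ha hak hak' hga T
    have hB' := himg b hb hbk hbk' hgb 1
    have hL1 := hWS L1 fun d hd => hother d (Or.inl hd)
    have hL2 := hWS L2 fun d hd => hother d (Or.inr hd)
    rw [← hW1] at hL1
    rw [← hW2] at hL2
    have h5 : n * eW e (cwR D a b T 1) * n⁻¹ ∈ S := by
      have e5 : eW e (cwR D a b T 1) = (e b 1)⁻¹ * (e a T)⁻¹ * (e b 1 * e a T) := by rw [hrel]; group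
      rw [e5, show n * ((e b 1)⁻¹ * (e a T)⁻¹ * (e b 1 * e a T)) * n⁻¹ =
        (n * e b 1 * n⁻¹)⁻¹ * (n * e a T * n⁻¹)⁻¹ * (n * e b 1 * n⁻¹) * (n * e a T * n⁻¹) by group]
      exact Subgroup.mul_mem _ (Subgroup.mul_mem _ (Subgroup.mul_mem _ (Subgroup.inv_mem _ hB')
        (Subgroup.inv_mem _ hA')) hB') hA'
    rw [hW] at h5
    rw [show n * e k w * n⁻¹ = (n * W1 * n⁻¹)⁻¹ * (n * (W1 * e k w * W2) * n⁻¹) * (n * W2 * n⁻¹)⁻¹
      by group]
    exact Subgroup.mul_mem _ (Subgroup.mul_mem _ (Subgroup.inv_mem _ hL1) h5) (Subgroup.inv_mem _ hL2)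
  refine halfspace_injective hA hF hφ hR hf (hmem' u) (mem_eCl hnk hfk _) ?_
  simp only [hn, map_mul, map_inv, hA.proj k hr, hA.proj _ hnk]
  exact stNG_conj_self hF hN hφ hr ht u

open CfsgLib.SL2Pres CfsgLib.SLSteinberg in
/-- The homomorphism from the Steinberg group determined by the family. -/
theorem exists_hom_of_rel [Finite K] :
    ∃ s : D.SteinbergGroup K →* E, ∀ r < D.nroots, ∀ t, s (D.stGen K r t) = e r t := by
  classical
  have hst2 : ∀ r, r < D.nroots → St2 (fun b : Bool => if b then e r else e (D.neg r)) := by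
    intro r hr
    have hn := hF.neg_lt hr
    refine ⟨fun b t u => ?_, fun b t u ht => ?_⟩
    · cases b
      · simpa using hA.add _ hn t u
      · simpa using hA.add r hr t u
    · cases b
      · simpa [hF.neg_neg hr] using fam_weyl hA hF hφ hR hN hL hn ht u
      · simpa using fam_weyl hA hF hφ hR hN hL hr ht u
  have hX : ∀ r, r < D.nroots → ∀ t : K,
      FreeGroup.lift (fun p : Fin D.nroots × K => e p.1.val p.2) (D.stX r t) = e r t :=
    fun r hr t => by simp [ChevalleyDatum.stX, hr]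
  have key : ∀ g ∈ D.steinbergRels K,
      FreeGroup.lift (fun p : Fin D.nroots × K => e p.1.val p.2) g = 1 := by
    rintro g ((⟨r, t₁, t₂, hr, rfl⟩ | ⟨r, s, t, u, hr, hs, hsr, hsn, rfl⟩) | ⟨r, t₁, t₂, hr, ht₁, ht₂, rfl⟩)
    · rw [map_mul, map_mul, map_inv, hX r hr, hX r hr, hX r hr, ← hA.add r hr, mul_inv_cancel]
    · rw [map_mul, map_mul, map_mul, map_mul, map_inv, map_inv, map_inv, hX s hs, hX r hr]
      change _ * (FreeGroup.lift _ (D.stWord (cwR D r s t u)))⁻¹ = 1
      have hW : FreeGroup.lift (fun p : Fin D.nroots × K => e p.1.val p.2) (D.stWord (cwR D r s t u)) =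
          eW e (cwR D r s t u) := by
        rw [ChevalleyDatum.stWord, map_list_prod, List.map_map, eW]
        refine congrArg List.prod (List.map_congr_left fun p hp => ?_)
        obtain ⟨c, hc, rfl⟩ := List.mem_map.1 hp
        exact hX _ (hF.commTerms_wt hF.isWeight_omega hr hs hc).1 _
      rw [hW, mul_assoc _ (e s u), hR r s ⟨hr, hs, hsr, hsn⟩ t u]
      group
    · obtain ⟨ψ, hψ⟩ := exists_hom_of_st2 (hst2 r hr)
      have hn := hF.neg_lt hr
      have hw : ∀ c : K, e r c * e (D.neg r) (-c⁻¹) * e r c = ψ (w2 c) := by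
        intro c
        rw [w2, map_mul, map_mul,
          show xHom K (Multiplicative.ofAdd c) = Cfsg.Agent.S2426.root (true, c) from rfl, hψ, hψ]
        simp
      have hH : ∀ c : K, c ≠ 0 →
          FreeGroup.lift (fun p : Fin D.nroots × K => e p.1.val p.2) (D.stH r c) = ψ (w2 c * w2 (-1)) := by
        intro c _
        rw [map_mul ψ, ← hw c, ← hw (-1)]
        simp [ChevalleyDatum.stH, ChevalleyDatum.stWord, ChevalleyDatum.hWord, ChevalleyDatum.nWord,
          hX r hr, hX _ hn, mul_assoc]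
      rw [map_mul, map_mul, map_inv, hH _ ht₁, hH _ ht₂, hH _ (mul_ne_zero ht₁ ht₂), ← map_mul,
        mul_inv_eq_one]
      congr 1
      refine Matrix.SpecialLinearGroup.ext _ _ fun i j => ?_
      simp only [Matrix.SpecialLinearGroup.coe_mul, w2_val ht₁, w2_val ht₂,
        w2_val (mul_ne_zero ht₁ ht₂), w2_val (neg_ne_zero.2 (one_ne_zero (α := K)))]
      fin_cases i <;> fin_cases j <;> simp [Matrix.mul_apply, Fin.sum_univ_two, mul_comm]
  refine ⟨PresentedGroup.toGroup key, fun r hr t => ?_⟩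
  rw [show D.stGen K r t = PresentedGroup.of ((⟨r, hr⟩ : Fin D.nroots), t) by
    simp [ChevalleyDatum.stGen, ChevalleyDatum.stX, hr, PresentedGroup.of]]
  exact PresentedGroup.toGroup.of key

/-- A family with the two relations gives a section. -/
theorem exists_section_of_rel [Finite K] :
    ∃ s : D.SteinbergGroup K →* E, σ.comp s = MonoidHom.id _ := by
  obtain ⟨s, hs⟩ := exists_hom_of_rel hA hF hφ hR hN hL
  refine ⟨s, PresentedGroup.ext fun ⟨⟨r, hr⟩, t⟩ => ?_⟩
  have hg : D.stGen K r t = PresentedGroup.of ((⟨r, hr⟩ : Fin D.nroots), t) := by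
    simp [ChevalleyDatum.stGen, ChevalleyDatum.stX, hr, PresentedGroup.of]
  rw [MonoidHom.comp_apply, MonoidHom.id_apply, ← hg, hs r hr, hA.proj r hr]

end CfsgLib.Chev.Lift
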