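import Cfsg.Agent.Lib.Chev.All
import Cfsg.Prelude.Def_SteinbergCover
import Cfsg.Agent.Lib.Known.ChevLift.RootFam

/-!
# The torus relations follow from additivity and the commutator relations
-/

set_option autoImplicit false
set_option maxRecDepth 20000

namespace CfsgLib.Chev.Lift

open Cfsg.Lie CfsgLib.Chev.Table

universe v

variable {D : ChevalleyDatum} {K : Type v} [Field K]

theorem sc_add {r : ℕ} (hr : r < D.nroots) (t u : K) :
    D.scGen K r (t + u) = D.scGen K r t * D.scGen K r u := by
  have h := PresentedGroup.one_of_mem (rels := D.steinbergRelsAB K) (Or.inl ⟨r, t, u, hr, rfl⟩)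
  rw [map_mul, map_mul, map_inv, mul_inv_eq_one] at h
  exact h.symm

theorem sc_rel {co : ℕ → ℕ → ℤ} (hF : Facts D co) {r s : ℕ} (hok : OkPair D r s) :
    RelAt D (D.scGen K) r s := by
  obtain ⟨hr, hs, h1, h2⟩ := hok
  intro t u
  have h := PresentedGroup.one_of_mem (rels := D.steinbergRelsAB K)
    (Or.inr ⟨r, s, t, u, hr, hs, h1, h2, rfl⟩)
  rw [map_mul, map_mul, map_mul, map_mul, map_inv, map_inv, map_inv, mul_inv_eq_one] at h
  have e : PresentedGroup.mk (D.steinbergRelsAB K) (D.stWord (D.commWord K r s t u)) =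
      eW (D.scGen K) (cwR D r s t u) := by
    rw [ChevalleyDatum.stWord, map_list_prod, List.map_map]
    rfl
  have _ := hF
  rw [← e, ← h]
  show D.scGen K s u * D.scGen K r t = D.scGen K r t * D.scGen K s u *
    ((D.scGen K s u)⁻¹ * (D.scGen K r t)⁻¹ * D.scGen K s u * D.scGen K r t)
  group

theorem cover_equiv [Finite K] (hG : Good.{v} D) (hN : HasNbr D) (hL : LinCert D) :
    ∃ e : D.SteinbergCover K ≃* D.SteinbergGroup K, ∀ (r : ℕ) (t : K), e (D.scGen K r t) = D.stGen K r t := by
  obtain ⟨co, hF⟩ := hG.facts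
  obtain ⟨φ, hφ⟩ := hF.exists_theta hG.comm (K := K)
  have hlift : ∀ g, FreeGroup.lift (PresentedGroup.of (rels := D.steinbergRels K)) g =
      PresentedGroup.mk (D.steinbergRels K) g := fun g =>
    DFunLike.congr_fun (FreeGroup.ext_hom _ _ fun x => by simp [PresentedGroup.of] :
      FreeGroup.lift (PresentedGroup.of (rels := D.steinbergRels K)) = PresentedGroup.mk _) g
  let π : D.SteinbergCover K →* D.SteinbergGroup K :=
    PresentedGroup.toGroup (rels := D.steinbergRelsAB K) (f := PresentedGroup.of) fun g hg => by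
      rw [hlift]
      exact PresentedGroup.one_of_mem (by
        rcases hg with hg | hg
        · exact Or.inl (Or.inl hg)
        · exact Or.inl (Or.inr hg))
  have hπ : ∀ (r : ℕ) (t : K), π (D.scGen K r t) = D.stGen K r t := by
    intro r t
    by_cases hr : r < D.nroots
    · rw [show D.scGen K r t = PresentedGroup.of ((⟨r, hr⟩ : Fin D.nroots), t) by
        simp [ChevalleyDatum.scGen, ChevalleyDatum.stX, hr, PresentedGroup.of],
        show D.stGen K r t = PresentedGroup.of ((⟨r, hr⟩ : Fin D.nroots), t) by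
        simp [ChevalleyDatum.stGen, ChevalleyDatum.stX, hr, PresentedGroup.of]]
      exact PresentedGroup.toGroup.of _
    · simp [ChevalleyDatum.scGen, ChevalleyDatum.stGen, ChevalleyDatum.stX, hr]
  obtain ⟨s, hs⟩ := exists_hom_of_rel (σ := π) (e := D.scGen K)
    ⟨fun r _ t => hπ r t, fun r hr t u => sc_add hr t u⟩ hF hφ (fun r s hok => sc_rel hF hok) hN hL
  have h1 : π.comp s = MonoidHom.id _ := PresentedGroup.ext fun ⟨⟨r, hr⟩, t⟩ => by
    have hg : D.stGen K r t = PresentedGroup.of ((⟨r, hr⟩ : Fin D.nroots), t) := by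
      simp [ChevalleyDatum.stGen, ChevalleyDatum.stX, hr, PresentedGroup.of]
    rw [MonoidHom.comp_apply, MonoidHom.id_apply, ← hg, hs r hr, hπ]
  have h2 : s.comp π = MonoidHom.id _ := PresentedGroup.ext fun ⟨⟨r, hr⟩, t⟩ => by
    have hg : D.scGen K r t = PresentedGroup.of ((⟨r, hr⟩ : Fin D.nroots), t) := by
      simp [ChevalleyDatum.scGen, ChevalleyDatum.stX, hr, PresentedGroup.of]
    rw [MonoidHom.comp_apply, MonoidHom.id_apply, ← hg, hπ, hs r hr]
  exact ⟨π.toMulEquiv s h2 h1, hπ⟩

end CfsgLib.Chev.Lift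

namespace CfsgLib.Chev.Table.Tab

variable (T : Tab)

/-- As `chkLin`, the second root being determined by the first. -/
def chkLinAdd : Bool :=
  allBelow T.nroots fun r => anyBelow T.nroots fun a =>
    match T.tg (T.neg a) r with
    | none => false
    | some b => T.linB r a b

end CfsgLib.Chev.Table.Tab

namespace CfsgLib.Chev.Lift

open Cfsg.Lie CfsgLib.Chev.Table

variable {D : ChevalleyDatum} {co : ℕ → ℕ → ℤ} {T : Tab}

theorem linCert_of_chkAdd (hA : T.chkArrays D = true) (hC : T.chkChain D = true) (hP : T.chkPairs = true)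
    (hF : Facts D co) (h : T.chkLinAdd = true) : LinCert D := by
  intro r hr
  obtain ⟨a, ha, h'⟩ := anyBelow_spec (allBelow_spec h r (nroots_eq hA ▸ hr))
  have ha' : a < D.nroots := (nroots_eq hA).symm ▸ ha
  have hna : T.neg a < D.nroots := by rw [Tab.neg, nroots_eq hA]; omega
  rcases hb : T.tg (T.neg a) r with _ | b
  · simp [hb] at h'
  simp only [hb] at h'
  exact ⟨a, b, linTerm_of_linB hA hC hF ha' (tg_lt hA hP hna hr hb) h'⟩

theorem chkLin_cG2 : DataG2.tab.chkLin = true := by decide +kernel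
theorem chkLin_cB2 : DataB2.tab.chkLin = true := by decide +kernel
theorem chkLin_cF4 : DataF4.tab.chkLin = true := by decide +kernel
theorem chkLinAdd_D4 : DataD4.tab.chkLinAdd = true := by decide +kernel
theorem chkLinAdd_E6 : DataE6.tab.chkLinAdd = true := by decide +kernel
theorem chkLinAdd_E7 : DataE7.tab.chkLinAdd = true := by decide +kernel
theorem chkLinAdd_E8 : DataE8.tab.chkLinAdd = true := by decide +kernel

theorem linCert_of_mem {D : ChevalleyDatum}
    (hD : D ∈ [chevG2, chevB2, chevD4, chevF4, chevE6, chevE7, chevE8]) : LinCert D := by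
  simp only [List.mem_cons, List.not_mem_nil, or_false] at hD
  rcases hD with rfl | rfl | rfl | rfl | rfl | rfl | rfl
  · exact linCert_of_chk DataG2.chk_arrays DataG2.chk_chain DataG2.facts chkLin_cG2
  · exact linCert_of_chk DataB2.chk_arrays DataB2.chk_chain DataB2.facts chkLin_cB2
  · exact linCert_of_chkAdd DataD4.chk_arrays DataD4.chk_chain DataD4.chk_pairs DataD4.facts chkLinAdd_D4
  · exact linCert_of_chk DataF4.chk_arrays DataF4.chk_chain DataF4.facts chkLin_cF4
  · exact linCert_of_chkAdd DataE6.chk_arrays DataE6.chk_chain DataE6.chk_pairs DataE6.facts chkLinAdd_E6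
  · exact linCert_of_chkAdd DataE7.chk_arrays DataE7.chk_chain DataE7.chk_pairs DataE7.facts chkLinAdd_E7
  · exact linCert_of_chkAdd DataE8.chk_arrays DataE8.chk_chain DataE8.chk_pairs DataE8.facts chkLinAdd_E8

end CfsgLib.Chev.Lift
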