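import Cfsg.Agent.Lib.Known.ChevLift.Multiplier
import Cfsg.Agent.Lib.Known.ChevLift.CheckCross

/-!
# Orthogonal root subgroups in type D4

Over fields with at least four elements the torus separates two orthogonal roots; over the field with three
elements two decompositions of one of the roots lead to the same pair in both orders.
-/

set_option autoImplicit false

namespace CfsgLib.Chev.Lift

open Cfsg.Lie CfsgLib.Known.CentralComm
open scoped commutatorElement

universe v w

variable {D : ChevalleyDatum} {co : ℕ → ℕ → ℤ}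

/-- `p` is split by two roots with root subgroups commuting with that of `s`. -/
def Off (D : ChevalleyDatum) (p s : ℕ) : Prop :=
  ∃ a < D.nroots, ∃ b < D.nroots, tgt D a b = some p ∧
    (tgt D a s = none ∧ s ≠ D.neg a) ∧ (tgt D b s = none ∧ s ≠ D.neg b)

/-- The commuting pair `(p, s)` of the fundamental root `p` is split or crossed. -/
def OffCross (D : ChevalleyDatum) : Prop :=
  ∀ i < D.rank, ∀ s < D.nroots, tgt D (D.simple i) s = none → s ≠ D.neg (D.simple i) →
    Off D (D.simple i) s ∨ (D.cartan i s = 0 ∧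
      ∃ a b k b', a < D.nroots ∧ b < D.nroots ∧ k < D.nroots ∧ b' < D.nroots ∧
        tgt D a b = some (D.simple i) ∧ tgt D s b = some k ∧ tgt D k b' = some (D.simple i) ∧
        tgt D s b' = some a ∧ (tgt D a s = none ∧ s ≠ D.neg a) ∧ (tgt D k s = none ∧ s ≠ D.neg k) ∧
        (tgt D a k = none ∧ k ≠ D.neg a) ∧ Off D (D.simple i) a ∧ Off D (D.simple i) k ∧
        (tgt D (D.simple i) a = none ∧ a ≠ D.neg (D.simple i)) ∧
        (tgt D (D.simple i) k = none ∧ k ≠ D.neg (D.simple i)) ∧
        str D a b * str D s b = str D k b' * str D s b')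

section table

open CfsgLib.Chev.Table

variable {T : Tab} (hA : T.chkArrays D = true) (hC : T.chkChain D = true) (hP : T.chkPairs = true)
include hA hC hP

theorem off_of_offB' {p s : ℕ} (hp : p < D.nroots) (hs : s < D.nroots) (h : T.offB' p s = true) :
    Off D p s := by
  have hn := nroots_eq hA
  obtain ⟨a, ha, hab⟩ := anyBelow_spec h
  have ha' : a < D.nroots := hn.symm ▸ ha
  have hna : T.neg a < D.nroots := by rw [Tab.neg, hn]; omega
  rcases hb : T.tg (T.neg a) p with _ | b
  · rw [hb] at hab; simp at hab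
  rw [hb] at hab
  simp only [Bool.and_eq_true, beq_iff_eq] at hab
  obtain ⟨⟨h1, h2⟩, h3⟩ := hab
  have hbn := (tg_spec hA hC hP hna hp hb).1
  exact ⟨a, ha', b, hbn, (tg_spec hA hC hP ha' hbn h1).2, cmB_spec hA hC ha' hs h2,
    cmB_spec hA hC hbn hs h3⟩

theorem offCross_of_chk (hF : Facts D co) (h : T.chkOffCross = true) : OffCross D := by
  intro i hi s hs ht hneg
  have hn := nroots_eq hA
  have hi' : i < T.rank := rank_eq hA ▸ hi
  have hc := allBelow_spec (allBelow_spec h i hi') s (hn ▸ hs)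
  have hs0 : T.smp i = D.simple i := (simple_eq hA hi).symm
  have hp : D.simple i < D.nroots := (simple_bounds hA hi).2
  rw [hs0, cmB_of hA hC hp hs ht hneg, cond_true, Bool.or_eq_true] at hc
  rcases hc with hc | hc
  · exact Or.inl (off_of_offB' hA hC hP hp hs hc)
  rw [Bool.and_eq_true, beq_iff_eq, ← cartan_eq hA hi hs] at hc
  obtain ⟨hc0, hc⟩ := hc
  obtain ⟨a, ha, hab⟩ := anyBelow_spec hc
  have ha' : a < D.nroots := hn.symm ▸ ha
  have hna : T.neg a < D.nroots := by rw [Tab.neg, hn]; omega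
  rcases hb : T.tg (T.neg a) (D.simple i) with _ | b
  · rw [hb] at hab; simp at hab
  rw [hb] at hab
  have hbn := (tg_spec hA hC hP hna hp hb).1
  simp only [Bool.and_eq_true, beq_iff_eq] at hab
  obtain ⟨⟨⟨h1, h2⟩, h2'⟩, hab⟩ := hab
  rcases hk : T.tg s b with _ | k
  · rw [hk] at hab; simp at hab
  rw [hk] at hab
  obtain ⟨hkn, hk'⟩ := tg_spec hA hC hP hs hbn hk
  simp only [Bool.and_eq_true] at hab
  obtain ⟨⟨⟨⟨⟨h3, h4⟩, h5⟩, h6⟩, h7⟩, hab⟩ := hab
  have hnk : T.neg k < D.nroots := by rw [Tab.neg, hn]; omega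
  rcases hb' : T.tg (T.neg k) (D.simple i) with _ | b'
  · rw [hb'] at hab; simp at hab
  rw [hb'] at hab
  have hb'n := (tg_spec hA hC hP hnk hp hb').1
  simp only [Bool.and_eq_true, beq_iff_eq] at hab
  obtain ⟨⟨h8, h9⟩, h10⟩ := hab
  have flip : ∀ {x : ℕ}, x < D.nroots → T.cmB x (D.simple i) = true →
      tgt D (D.simple i) x = none ∧ x ≠ D.neg (D.simple i) := by
    intro x hx hxp
    obtain ⟨e1, e2⟩ := cmB_spec hA hC hx hp hxp
    exact ⟨by rw [(hF.tgt_symm x hx _ hp).1, e1], fun e => e2 (by rw [e, hF.neg_neg hp])⟩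
  refine Or.inr ⟨hc0, a, b, k, b', ha', hbn, hkn, hb'n, (tg_spec hA hC hP ha' hbn h1).2, hk',
    (tg_spec hA hC hP hkn hb'n h8).2, (tg_spec hA hC hP hs hb'n h9).2, cmB_spec hA hC ha' hs h2,
    cmB_spec hA hC hkn hs h3, cmB_spec hA hC ha' hkn h5, off_of_offB' hA hC hP hp ha' h6,
    off_of_offB' hA hC hP hp hkn h7, flip ha' h2', flip hkn h4, ?_⟩
  rw [str_eq hA hC ha' hbn, str_eq hA hC hs hbn, str_eq hA hC hkn hb'n, str_eq hA hC hs hb'n, h10]

end table

variable {K : Type v} [Field K] {E : Type w} [Group E] {σ : E →* D.SteinbergGroup K}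
  (hσ : Function.Surjective σ) (hc : σ.ker ≤ Subgroup.center E)
  (hF : Facts D co) (hN : HasNbr D) (hU : UnitChains D)
  {φ : D.SteinbergGroup K →* GL D.Idx K} (hφ : IsTheta D φ)
include hc hF hU

theorem cm_off {p s : ℕ} (hs : s < D.nroots) (h : Off D p s) (t u : K) :
    cm hσ (D.stGen K p t) (D.stGen K s u) = 1 := by
  obtain ⟨a, ha, b, hb, hab, ⟨h1, h1'⟩, ⟨h2, h2'⟩⟩ := h
  obtain ⟨pr, ne⟩ := pr_of_tgt (K := K) hF hU ha hb hab
  have e := pr (t / (str D a b : K)) 1
  rw [mul_one, mul_div_cancel₀ _ ne] at e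
  rw [← e]
  exact cm_commutator_left hσ hc (cm_of_tgt hF hU ha hs h1 h1' _ _) (cm_of_tgt hF hU hb hs h2 h2' _ _)

omit hU hF in
theorem cm_add_left {p s : ℕ} (hp : p < D.nroots) (h : Cm D K p s) (t t' u : K) :
    cm hσ (D.stGen K p (t + t')) (D.stGen K s u) =
      cm hσ (D.stGen K p t') (D.stGen K s u) * cm hσ (D.stGen K p t) (D.stGen K s u) := by
  rw [← stGen_add hp, cm_mul_left hσ hc]
  rw [(commutatorElement_eq_one_iff_mul_comm).2 (h t' u).eq]
  exact cm_one_right hσ hc _

omit hU in
theorem cm_neg_left {p s : ℕ} (hp : p < D.nroots) (h : Cm D K p s) (t u : K) :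
    cm hσ (D.stGen K p (-t)) (D.stGen K s u) = (cm hσ (D.stGen K p t) (D.stGen K s u))⁻¹ := by
  rw [eq_inv_iff_mul_eq_one, ← cm_add_left hσ hc hp h, add_neg_cancel, stGen_zero hp]
  exact cm_one_left hσ hc _

omit hU in
theorem cm_neg_right {p s : ℕ} (hs : s < D.nroots) (h : Cm D K p s) (t u : K) :
    cm hσ (D.stGen K p t) (D.stGen K s (-u)) = (cm hσ (D.stGen K p t) (D.stGen K s u))⁻¹ := by
  rw [← cm_inv, cm_neg_left hσ hc hF hs h.symm, cm_inv]

include hN hφ

theorem commLift_cross_base (hO : OffCross D) [Finite K] (h2 : Nat.card K ≠ 2) {i : ℕ} (hi : i < D.rank)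
    {s : ℕ} (hs : s < D.nroots) (hneg : s ≠ D.neg (D.simple i)) (h : Cm D K (D.simple i) s) (t u : K) :
    cm hσ (D.stGen K (D.simple i) t) (D.stGen K s u) = 1 := by
  classical
  haveI := Fintype.ofFinite K
  have hp := hF.simple_lt' hi
  rcases ht : tgt D (D.simple i) s with _ | k0
  swap
  · obtain ⟨pr, ne⟩ := pr_of_tgt (K := K) hF hU hp hs ht
    exact (not_cm_pr hF hφ (valid_of_tgt hF hU hp hs ht).2 ne pr h).elim
  rcases hO i hi s hs ht hneg with h' | ⟨hc0, a, b, k, b', ha, hb, hk, hb', h1, h3, h4, h5,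
    ⟨h6, h6'⟩, ⟨h7, h7'⟩, ⟨h8, h8'⟩, h9, h10, -, -, hsign⟩
  · exact cm_off hσ hc hF hU hs h' t u
  have hone : 2 ≤ Fintype.card K := Fintype.one_lt_card
  rw [Nat.card_eq_fintype_card] at h2
  by_cases hq : Fintype.card K = 3
  · -- three elements
    set p := D.simple i
    obtain ⟨q1, n1⟩ := pr_of_tgt (K := K) hF hU ha hb h1
    obtain ⟨q2, -⟩ := pr_of_tgt (K := K) hF hU hs hb h3
    obtain ⟨q3, n3⟩ := pr_of_tgt (K := K) hF hU hk hb' h4
    obtain ⟨q4, -⟩ := pr_of_tgt (K := K) hF hU hs hb' h5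
    have key : ∀ (x y : ℕ), x < D.nroots → y < D.nroots → tgt D x s = none → s ≠ D.neg x →
        ∀ (z : ℕ) (κ μ : K), z < D.nroots → Pr D K x y p κ → Pr D K s y z μ → Off D p z → ∀ w v : K,
          cm hσ (D.stGen K s v) (D.stGen K p (κ * w)) = cm hσ (D.stGen K x w) (D.stGen K z (μ * v)) := by
      intro x y hx hy hxs hxs' z κ μ hz hxy hsy hoff w v
      have hgh : ⁅D.stGen K x w, D.stGen K y 1⁆ = D.stGen K p (κ * w) := by rw [hxy, mul_one]
      rw [← cm_eq hσ hc (σ_pre hσ (D.stGen K s v)) ((σ_cm hσ _ _).trans hgh), commutatorElement_def,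
        conj_cm hσ hc]
      have e1 : D.stGen K s v * D.stGen K x w * (D.stGen K s v)⁻¹ = D.stGen K x w := by
        rw [(cm_of_tgt hF hU hx hs hxs hxs' w v).symm.eq, mul_inv_cancel_right]
      have e2 : D.stGen K s v * D.stGen K y 1 * (D.stGen K s v)⁻¹ =
          D.stGen K z (μ * v) * D.stGen K y 1 := by
        rw [← mul_one (μ * v), ← hsy v 1, commutatorElement_def]
        group
      rw [e1, e2, cm_mul_right hσ hc (by
        rw [hgh, ← cm_inv, inv_eq_one]
        exact cm_off hσ hc hF hU hz hoff _ _), mul_inv_cancel_right]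
    have hak : Cm D K a k := cm_of_tgt hF hU ha hk h8 h8'
    have hsp : Cm D K s p := h.symm
    set c := cm hσ (D.stGen K a 1) (D.stGen K k 1) with hcdef
    -- the two expansions
    have e1 := key a b ha hb h6 h6' k _ _ hk q1 q2 h10
    have e2 := key k b' hk hb' h7 h7' a _ _ ha q3 q4 h9
    have hu1 := (hU a ha b hb _ h1).2
    have hu2 := (hU s hs b hb _ h3).2
    have hu3 := (hU k hk b' hb' _ h4).2
    have hu4 := (hU s hs b' hb' _ h5).2
    have nl := fun x y => cm_neg_left (hσ := hσ) hc hF ha hak x y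
    have nr := fun x y => cm_neg_right (hσ := hσ) hc hF hk hak x y
    have nl' := fun x y => cm_neg_left (hσ := hσ) hc hF hk hak.symm x y
    have nr' := fun x y => cm_neg_right (hσ := hσ) hc hF ha hak.symm x y
    have hsw : cm hσ (D.stGen K k 1) (D.stGen K a 1) = c⁻¹ := by rw [hcdef, cm_inv]
    set d := cm hσ (D.stGen K s 1) (D.stGen K p 1)
    have hd1 : d = if str D a b * str D s b = 1 then c else c⁻¹ := by
      rcases hu1 with e | e <;> rcases hu2 with e' | e' <;>
        · have := e1 (str D a b : K) 1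
          rw [e, e'] at this ⊢
          simp [nl, nr] at this ⊢
          exact this
    have hd2 : d = if str D k b' * str D s b' = 1 then c⁻¹ else c := by
      rcases hu3 with e | e <;> rcases hu4 with e' | e' <;>
        · have := e2 (str D k b' : K) 1
          rw [e, e'] at this ⊢
          simp [nl', nr', hsw] at this ⊢
          exact this
    have hcc : c = c⁻¹ := by
      rw [← hsign] at hd2
      rw [hd1] at hd2
      split_ifs at hd2 with hif
      · exact hd2
      · exact hd2.symm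
    have h3' : (3 : K) = 0 := by
      have := FiniteField.cast_card_eq_zero K
      rw [hq] at this
      exact_mod_cast this
    have hc1 : c = 1 := by
      have hcube : c * c * c = 1 := by
        rw [hcdef, ← cm_add_left hσ hc ha hak]
        rw [← cm_add_left hσ hc ha hak]
        rw [show (1 + (1 + 1) : K) = 3 by ring, h3', stGen_zero ha]
        exact cm_one_left hσ hc _
      have hsq : c * c = 1 := by nth_rewrite 2 [hcc]; exact mul_inv_cancel c
      rwa [hsq, one_mul] at hcube
    have hd : cm hσ (D.stGen K p 1) (D.stGen K s 1) = 1 := by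
      rw [← cm_inv, inv_eq_one]
      show d = 1
      rw [hd1, hc1]; simp
    have hthree : ∀ x : K, x = 0 ∨ x = 1 ∨ x = -1 := by
      intro x
      have hne : (1 : K) ≠ -1 := fun e =>
        one_ne_zero (α := K) (by linear_combination h3' - e)
      have hset : ({0, 1, -1} : Finset K) = Finset.univ := by
        refine Finset.eq_univ_of_card _ ?_
        rw [hq, Finset.card_insert_of_notMem (by simp [eq_comm]), Finset.card_pair hne]
      have := hset ▸ Finset.mem_univ x
      simpa using this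
    rcases hthree t with rfl | rfl | rfl <;> rcases hthree u with rfl | rfl | rfl <;>
      simp [stGen_zero hp, stGen_zero hs, cm_one_left hσ hc, cm_one_right hσ hc,
        cm_neg_left hσ hc hF hp h, cm_neg_right hσ hc hF hs h, hd]
  · -- the torus
    have hq4 : 4 ≤ Fintype.card K := by omega
    obtain ⟨x, hx⟩ := CfsgLib.Known.SLLift.exists_pow_ne_one K 2 (fun hd => by
      have := Nat.le_of_dvd (by norm_num) hd
      omega)
    set z := stHG D (D.simple i) (x : K)
    have hz : z ∈ stN' D K := hF.stH_le_N (hF.stHG_mem hi x.ne_zero)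
    have hact : ∀ r, r < D.nroots → ∀ w : K,
        z * D.stGen K r w * z⁻¹ = D.stGen K r (((x ^ D.cartan i r : Kˣ) : K) * w) := by
      intro r hr w
      refine hF.stTr_eq hφ (hF.stTr_N hφ hN hz) hr hr ?_
      rw [show z = stNG D (D.simple i) (x : K) * stNG D (D.simple i) (-1) from rfl, map_mul,
        hφ.map_stNG hF hp, hφ.map_stNG hF hp, ← hF.prE_simple hi r]
      exact hF.hU_conj_xU hp hr x w
    refine CfsgLib.Known.SLLift.eq_one_of_homothety
      (fun w => cm hσ (D.stGen K (D.simple i) w) (D.stGen K s u)) (fun w w' => ?_) ((x : K) ^ 2) ?_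
      (fun w => ?_) t
    · rw [cm_add_left hσ hc hp h, cm_central hσ hc (h w u)]
    · intro e; exact hx (Units.ext (by simpa using e))
    · conv_rhs => rw [← cm_conj_eq hσ hc (h w u) z, hact _ hp, hact s hs, hc0,
        hF.cartan_simple hi]
      simp

omit hU hF hN hφ hc in
/-- The lifting theorem from split or crossed commuting pairs. -/
theorem splits_of_cross (h : Laced.{v} D) (hO : OffCross D) (K : Type v) [Field K] [Finite K]
    (h2 : Nat.card K ≠ 2) : CfsgLib.Known.SplitCover.CentralSplits.{v, w} (D.SteinbergGroup K) := by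
  intro E _ σ hσ hc
  obtain ⟨co, hF⟩ := h.facts
  obtain ⟨φ, hφ⟩ := hF.exists_theta h.comm (K := K)
  refine exists_section hσ hc hF h.nbr h.unit hφ ?_ h.base
  exact commLift_of_base hσ hc hF h.nbr h.unit hφ fun i hi s hs hneg hcm t u =>
    commLift_cross_base hσ hc hF h.nbr h.unit hφ hO h2 hi hs hneg hcm t u

end CfsgLib.Chev.Lift
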