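import Cfsg.Agent.Lib.Chev.All
import Cfsg.Agent.Lib.Known.ChevLift.Cross

/-!
# Type D4: lifting certificates
-/

set_option autoImplicit false
set_option maxRecDepth 20000

namespace CfsgLib.Chev.Lift

open Cfsg.Lie CfsgLib.Chev.Table

theorem chkUnit_D4 : DataD4.tab.chkUnit = true := by decide +kernel

theorem chkOffCross_D4 : DataD4.tab.chkOffCross = true := by decide +kernel

theorem chkBase_D4 : DataD4.tab.chkBase = true := by decide +kernel

theorem laced_D4.{u} : Laced.{u} chevD4 :=
  ⟨⟨_, DataD4.facts⟩, good_D4.comm, hasNbr_of_mem (by simp),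
    unitChains_of_chk DataD4.chk_arrays DataD4.chk_chain DataD4.chk_pairs chkUnit_D4,
    baseCert_of_chk DataD4.chk_arrays DataD4.chk_chain DataD4.chk_pairs chkBase_D4⟩

theorem offCross_D4 : OffCross chevD4 :=
  offCross_of_chk DataD4.chk_arrays DataD4.chk_chain DataD4.chk_pairs DataD4.facts chkOffCross_D4

end CfsgLib.Chev.Lift
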