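import Cfsg.Agent.Lib.Chev.All
import Cfsg.Agent.Lib.Known.ChevLift.Multiplier

/-!
# Type E6: lifting certificates
-/

set_option autoImplicit false
set_option maxRecDepth 20000

namespace CfsgLib.Chev.Lift

open Cfsg.Lie CfsgLib.Chev.Table

theorem chkUnit_E6 : DataE6.tab.chkUnit = true := by decide +kernel

theorem chkOff_E6 : DataE6.tab.chkOff = true := by decide +kernel

theorem chkBase_E6 : DataE6.tab.chkBase = true := by decide +kernel

theorem laced_E6.{u} : Laced.{u} chevE6 :=
  ⟨⟨_, DataE6.facts⟩, good_E6.comm, hasNbr_of_mem (by simp),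
    unitChains_of_chk DataE6.chk_arrays DataE6.chk_chain DataE6.chk_pairs chkUnit_E6,
    baseCert_of_chk DataE6.chk_arrays DataE6.chk_chain DataE6.chk_pairs chkBase_E6⟩

theorem offCert_E6 : OffCert chevE6 :=
  offCert_of_chk DataE6.chk_arrays DataE6.chk_chain DataE6.chk_pairs chkOff_E6

end CfsgLib.Chev.Lift
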