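import Cfsg.Agent.Lib.Known.ChevLift.Certificates

/-!
# Subsystems: the torus of a universal group inside a larger adjoint group

If the tables of `D` sit inside those of a datum with unimodular Cartan matrix, the torus parametrisation
of the presented group of `D` is injective, so its centre is the kernel of the Cartan map.
-/

set_option autoImplicit false

namespace CfsgLib.Chev.Table.Tab

/-- The tables `S` sit inside the tables `T` along `ι`. -/
def chkEmb (S T : Tab) (ι : ℕ → ℕ) : Bool :=
  Nat.ble S.rank T.rank &&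
  (allBelow S.rank fun i => Nat.beq (ι (S.smp i)) (T.smp i)) &&
  (allBelow S.nroots fun r =>
    Nat.blt (ι r) T.nroots && Nat.beq (ι (S.neg r)) (T.neg (ι r)) &&
    allBelow S.nroots fun s =>
      (bif Nat.beq (ι r) (ι s) then Nat.beq r s else true) &&
      (bif S.ent r s == 0 then T.ent (ι r) (ι s) == 0
       else Nat.beq (T.ent (ι r) (ι s) / 16) (ι (S.ent r s / 16)) && !(T.ent (ι r) (ι s) == 0) &&
         (T.nn (ι r) (ι s) == S.nn r s)))

end CfsgLib.Chev.Table.Tab

namespace CfsgLib.Chev.Lift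

open Cfsg.Lie CfsgLib.Chev.Table

universe v

/-- The datum `D` sits inside `D'` along `ι`. -/
def Embeds (D D' : ChevalleyDatum) (ι : ℕ → ℕ) : Prop :=
  D.rank ≤ D'.rank ∧ (∀ i < D.rank, ι (D.simple i) = D'.simple i) ∧
  (∀ r < D.nroots, ι r < D'.nroots ∧ ι (D.neg r) = D'.neg (ι r)) ∧
  (∀ r < D.nroots, ∀ s < D.nroots, (ι r = ι s → r = s) ∧
    tgt D' (ι r) (ι s) = (tgt D r s).map ι ∧ ∀ k, tgt D r s = some k → str D' (ι r) (ι s) = str D r s)

theorem embeds_of_chk {D D' : ChevalleyDatum} {S T : Tab} {ι : ℕ → ℕ}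
    (hA : S.chkArrays D = true) (hC : S.chkChain D = true)
    (hA' : T.chkArrays D' = true) (hC' : T.chkChain D' = true) (h : S.chkEmb T ι = true) :
    Embeds D D' ι := by
  have hn := nroots_eq hA
  have hn' := nroots_eq hA'
  have hr0 := rank_eq hA
  have hr0' := rank_eq hA'
  simp only [Tab.chkEmb, Bool.and_eq_true] at h
  obtain ⟨⟨h1, h2⟩, h3⟩ := h
  refine ⟨by rw [hr0, hr0']; exact ble_iff.1 h1, fun i hi => ?_, fun r hr => ?_, fun r hr s hs => ?_⟩
  · have := Nat.eq_of_beq_eq_true (allBelow_spec h2 i (hr0 ▸ hi))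
    rw [simple_eq hA hi, this, simple_eq hA' (by rw [hr0']; exact lt_of_lt_of_le (hr0 ▸ hi) (ble_iff.1 h1))]
  · have := allBelow_spec h3 r (hn ▸ hr)
    simp only [Bool.and_eq_true] at this
    have hlt : ι r < D'.nroots := hn'.symm ▸ blt_iff.1 this.1.1
    refine ⟨hlt, ?_⟩
    rw [neg_eq hA hr, Nat.eq_of_beq_eq_true this.1.2, neg_eq hA' hlt]
  · have hrow := allBelow_spec h3 r (hn ▸ hr)
    simp only [Bool.and_eq_true] at hrow
    have hrow' := allBelow_spec h3 s (hn ▸ hs)
    simp only [Bool.and_eq_true] at hrow'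
    have hlt : ι r < D'.nroots := hn'.symm ▸ blt_iff.1 hrow.1.1
    have hlt' : ι s < D'.nroots := hn'.symm ▸ blt_iff.1 hrow'.1.1
    have hp := allBelow_spec hrow.2 s (hn ▸ hs)
    simp only [Bool.and_eq_true] at hp
    refine ⟨fun e => ?_, ?_⟩
    · have := hp.1
      rw [e, Nat.beq_refl, cond_true] at this
      exact Nat.eq_of_beq_eq_true this
    rw [tgt_eq hA hC hr hs, tgt_eq hA' hC' hlt hlt']
    by_cases h0 : S.ent r s = 0
    · rw [tg_of_eq h0]
      have := hp.2
      simp only [h0, beq_self_eq_true, cond_true, beq_iff_eq] at this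
      exact ⟨by rw [tg_of_eq this]; rfl, fun k hk => by simp at hk⟩
    · have := hp.2
      simp only [beq_eq_false_iff_ne.2 h0, cond_false, Bool.and_eq_true, beq_iff_eq,
        Bool.not_eq_true', beq_eq_false_iff_ne] at this
      obtain ⟨⟨e1, e2⟩, e3⟩ := this
      refine ⟨?_, fun k _ => ?_⟩
      · rw [tg_of_ne h0, tg_of_ne e2, Nat.eq_of_beq_eq_true e1]; rfl
      · rw [str_eq hA hC hr hs, str_eq hA' hC' hlt hlt', e3]

variable {D D' : ChevalleyDatum} {co co' : ℕ → ℕ → ℤ} {K : Type v} [Field K] {ι : ℕ → ℕ}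

theorem exists_embed (hF : Facts D co) (hU : UnitChains D) (hF' : Facts D' co') (hU' : UnitChains D')
    (hE : Embeds D D' ι) :
    ∃ g : D.SteinbergGroup K →* D'.SteinbergGroup K,
      ∀ r < D.nroots, ∀ t : K, g (D.stGen K r t) = D'.stGen K (ι r) t := by
  obtain ⟨-, -, hι, hp⟩ := hE
  let f : Fin D.nroots × K → D'.SteinbergGroup K := fun p => D'.stGen K (ι p.1.val) p.2
  have hX : ∀ r, r < D.nroots → ∀ t : K, FreeGroup.lift f (D.stX r t) = D'.stGen K (ι r) t :=
    fun r hr t => by simp [ChevalleyDatum.stX, hr, f]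
  have hH : ∀ r, r < D.nroots → ∀ c : K, FreeGroup.lift f (D.stH r c) = stHG D' (ι r) c := by
    intro r hr c
    simp [ChevalleyDatum.stH, ChevalleyDatum.stWord, ChevalleyDatum.hWord, ChevalleyDatum.nWord,
      hX r hr, hX _ (hF.neg_lt hr), (hι r hr).2, stHG, stNG, mul_assoc]
  have key : ∀ g ∈ D.steinbergRels K, FreeGroup.lift f g = 1 := by
    rintro g ((⟨r, t₁, t₂, hr, rfl⟩ | ⟨r, s, t, u, hr, hs, hsr, hsn, rfl⟩) | ⟨r, t₁, t₂, hr, ht₁, ht₂, rfl⟩)
    · rw [map_mul, map_mul, map_inv, hX r hr, hX r hr, hX r hr, stGen_add (hι r hr).1, mul_inv_cancel]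
    · rw [map_mul, map_mul, map_mul, map_mul, map_inv, map_inv, map_inv, hX s hs, hX r hr]
      change _ * (FreeGroup.lift f (D.stWord (cwR D r s t u)))⁻¹ = 1
      have hne : ι s ≠ ι r := fun e => hsr ((hp s hs r hr).1 e)
      have hne' : ι s ≠ D'.neg (ι r) := fun e =>
        hsn ((hp s hs _ (hF.neg_lt hr)).1 (e.trans (hι r hr).2.symm))
      have e := stGen_comm (K := K) (hι r hr).1 (hι s hs).1 hne hne' t u
      rcases hk : tgt D r s with _ | k
      · have hk' : tgt D' (ι r) (ι s) = none := by rw [(hp r hr s hs).2.1, hk]; rfl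
        rw [cwR, commTerms_none hF' hU' (hι r hr).1 (hι s hs).1 hk'] at e
        simp only [List.map_nil, stW, List.prod_nil, mul_one] at e
        rw [cwR, commTerms_none hF hU hr hs hk]
        simp only [List.map_nil, ChevalleyDatum.stWord, List.prod_nil, map_one, inv_one, mul_one]
        rw [mul_assoc _ (D'.stGen K (ι s) u), e]
        group
      · have hk' : tgt D' (ι r) (ι s) = some (ι k) := by rw [(hp r hr s hs).2.1, hk]; rfl
        have hkn := (valid_of_tgt hF hU hr hs hk).2
        rw [cwR, commTerms_some hF' hU' (hι r hr).1 (hι s hs).1 hk', (hp r hr s hs).2.2 k hk] at e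
        simp only [List.map_cons, List.map_nil, stW, List.prod_cons, List.prod_nil, mul_one] at e
        rw [cwR, commTerms_some hF hU hr hs hk]
        simp only [List.map_cons, List.map_nil, ChevalleyDatum.stWord, List.prod_cons, List.prod_nil,
          mul_one, hX k hkn]
        rw [mul_assoc _ (D'.stGen K (ι s) u), e]
        group
    · rw [map_mul, map_mul, map_inv, hH r hr, hH r hr, hH r hr,
        stHG_mul (fun _ h => h) (hι r hr).1 ht₁ ht₂, mul_inv_cancel]
  refine ⟨PresentedGroup.toGroup key, fun r hr t => ?_⟩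
  have : D.stGen K r t = PresentedGroup.of (⟨r, hr⟩, t) := by
    simp [ChevalleyDatum.stGen, ChevalleyDatum.stX, hr, PresentedGroup.of]
  rw [this, PresentedGroup.toGroup.of]

/-- The torus parametrisation is injective. -/
theorem stT_injective (hF : Facts D co) (hU : UnitChains D) (hF' : Facts D' co') (hU' : UnitChains D')
    (hC' : CommF.{v} D') (hN' : HasNbr D') (hE : Embeds D D' ι)
    {M : Matrix (Fin D'.rank) (Fin D'.rank) ℤ} (hM : M * cartanMat D' = 1) {c : Fin D.rank → Kˣ}
    (h : stT D c = 1) : c = 1 := by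
  obtain ⟨g, hg⟩ := exists_embed (K := K) hF hU hF' hU' hE
  obtain ⟨φ', hφ'⟩ := hF'.exists_theta hC' (K := K)
  obtain ⟨hle, hs, hι, -⟩ := hE
  let c' : Fin D'.rank → Kˣ := fun i => if h : i.val < D.rank then c ⟨i.val, h⟩ else 1
  obtain ⟨f', hf', -⟩ := hF'.st_torus_hom hN' hφ'
  have hsum : g (stT D c) = stT D' c' := by
    rw [stT, map_list_prod, List.map_map, stT]
    have e1 : ∀ i : Fin D.rank, g (stHG D (D.simple i.val) (c i : K)) = stHG D' (D'.simple i.val) (c i : K) := by
      intro i
      have hp := hF.simple_lt' i.isLt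
      simp only [stHG, stNG, map_mul, hg _ hp, hg _ (hF.neg_lt hp), (hι _ hp).2, hs _ i.isLt]
    let F' : ℕ → D'.SteinbergGroup K := fun i =>
      if h : i < D.rank then stHG D' (D'.simple i) (c ⟨i, h⟩ : K) else 1
    have hone : ∀ i, i < D'.rank → stHG D' (D'.simple i) (1 : K) = 1 := fun i hi => by
      have h := stHG_mul (K := K) (fun _ h => h) (hF'.simple_lt' hi) one_ne_zero one_ne_zero
      rw [mul_one] at h
      exact mul_eq_left.1 h
    have hA : (List.finRange D.rank).map (⇑g ∘ fun i => stHG D (D.simple i.val) (c i : K)) =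
        (List.range D.rank).map F' := by
      rw [← List.map_coe_finRange_eq_range, List.map_map]
      exact List.map_congr_left fun i _ => by simp [F', e1 i]
    have hB : (List.finRange D'.rank).map (fun i => stHG D' (D'.simple i.val) (c' i : K)) =
        (List.range D'.rank).map F' := by
      rw [← List.map_coe_finRange_eq_range, List.map_map]
      refine List.map_congr_left fun i _ => ?_
      by_cases hi : i.val < D.rank
      · simp [F', c', hi]
      · simp [F', c', hi, hone _ i.isLt]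
    rw [hA, hB]
    obtain ⟨d, hd⟩ := Nat.exists_eq_add_of_le hle
    have htail : ∀ m, ((List.range (D.rank + m)).map F').prod = ((List.range D.rank).map F').prod := by
      intro m
      induction m with
      | zero => rfl
      | succ m ih => rw [← add_assoc, List.prod_range_succ, ih]; simp [F']
    rw [hd, htail]
  rw [h, map_one] at hsum
  have h1 : hT D' (fun i => if h : i < D'.rank then c' ⟨i, h⟩ else 1) = 1 := by
    rw [← hF'.stT_map hN' hφ', ← hsum, map_one]
  have h2 := (hF'.hT_eq_one_iff _).1 h1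
  have h3 : c' = 1 := by
    rw [← actM_one c', ← hM, actM_mul]
    have : actM (cartanMat D') c' = 1 := by
      simpa using h2
    rw [this, map_one]
  funext i
  have := congrFun h3 ⟨i.val, lt_of_lt_of_le i.isLt hle⟩
  simpa [c', i.isLt] using this

/-- The centre is the kernel of the Cartan map. -/
theorem card_center (hF : Facts D co) (hC : CommF.{v} D) (hN : HasNbr D)
    (hinj : ∀ c : Fin D.rank → Kˣ, stT D c = 1 → c = 1) :
    Nat.card (Subgroup.center (D.SteinbergGroup K)) = Nat.card (actM (A := Kˣ) (cartanMat D)).ker := by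
  obtain ⟨φ, hφ⟩ := hF.exists_theta hC (K := K)
  obtain ⟨f, hf, -⟩ := hF.st_torus_hom hN hφ
  let g : (actM (A := Kˣ) (cartanMat D)).ker → Subgroup.center (D.SteinbergGroup K) := fun c =>
    ⟨f c.1, by
      refine (hF.st_ker hφ hN ?_).2
      rw [hf, hF.stT_map hN hφ, hF.hT_eq_one_iff]
      simp only [Fin.is_lt, dif_pos, Fin.eta]
      exact MonoidHom.mem_ker.1 c.2⟩
  refine (Nat.card_eq_of_bijective g ⟨fun a b e => Subtype.ext ?_, fun z => ?_⟩).symm
  · have e' : f a.1 = f b.1 := congrArg Subtype.val e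
    have : f (a.1 * b.1⁻¹) = 1 := by rw [map_mul, map_inv, e', mul_inv_cancel]
    rw [hf] at this
    exact mul_inv_eq_one.1 (hinj _ this)
  · obtain ⟨c, hc, e⟩ := hF.st_center_le hN hφ hC z.2
    exact ⟨⟨c, hc⟩, Subtype.ext (by show f c = _; rw [hf, e])⟩

end CfsgLib.Chev.Lift
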