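import Cfsg.Agent.Lib.Known.ChevLift.Roots
import Cfsg.Agent.Lib.Known.ChevLift.Central
import Cfsg.Agent.Lib.SLSteinberg.Basic

/-!
# Central extensions of Steinberg groups of simply laced type

If lifts of commuting root elements commute, commutators of lifts give a family satisfying the
relations (R1)–(R3), so the extension splits.
-/

set_option autoImplicit false

namespace CfsgLib.Chev.Lift

open Cfsg.Lie CfsgLib.Known.CentralComm
open scoped commutatorElement

universe v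

variable {D : ChevalleyDatum} {co : ℕ → ℕ → ℤ} {K : Type v} [Field K]

/-- The ordered pairs `(a, b)` and `(a', c)` with sum `p` differ by the root `m`. -/
def Tri (D : ChevalleyDatum) (p a b a' c m : ℕ) : Prop :=
  a < D.nroots ∧ b < D.nroots ∧ a' < D.nroots ∧ c < D.nroots ∧ m < D.nroots ∧
    tgt D a m = some a' ∧ tgt D m c = some b ∧ tgt D a' c = some p ∧ tgt D a b = some p ∧
    (tgt D a c = none ∧ c ≠ D.neg a) ∧ (tgt D a' b = none ∧ b ≠ D.neg a') ∧
    (tgt D p b = none ∧ b ≠ D.neg p)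

/-- One step between pairs with sum `p`. -/
def Step (D : ChevalleyDatum) (p a b a' c : ℕ) : Prop :=
  ∃ m, Tri D p a b a' c m ∨ Tri D p a' c a b m

/-- At most two steps. -/
def Conn (D : ChevalleyDatum) (p a0 b0 a b : ℕ) : Prop :=
  (a = a0 ∧ b = b0) ∨ Step D p a b a0 b0 ∨ ∃ a' c, Step D p a b a' c ∧ Step D p a' c a0 b0

/-- A base pair for the pairs with sum `p`. -/
def BaseCert (D : ChevalleyDatum) (p : ℕ) : Prop :=
  ∃ a0 b0, a0 < D.nroots ∧ b0 < D.nroots ∧ tgt D a0 b0 = some p ∧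
    (tgt D a0 p = none ∧ p ≠ D.neg a0) ∧ (∃ a' c m, Tri D p a0 b0 a' c m) ∧
    ∀ a < D.nroots, ∀ b < D.nroots, tgt D a b = some p → Conn D p a0 b0 a b ∨ Conn D p a0 b0 b a

/-- Decompositions of the fundamental roots splitting commuting pairs. -/
def OffCert (D : ChevalleyDatum) : Prop :=
  ∀ i < D.rank, ∀ s < D.nroots, tgt D (D.simple i) s = none → s ≠ D.neg (D.simple i) →
    ∃ a < D.nroots, ∃ b < D.nroots, tgt D a b = some (D.simple i) ∧
      (tgt D a s = none ∧ s ≠ D.neg a) ∧ (tgt D b s = none ∧ s ≠ D.neg b)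

variable {E : Type*} [Group E] {σ : E →* D.SteinbergGroup K}
  (hσ : Function.Surjective σ) (hc : σ.ker ≤ Subgroup.center E)
  (hF : Facts D co) (hN : HasNbr D) (hU : UnitChains D)
  {φ : D.SteinbergGroup K →* GL D.Idx K} (hφ : IsTheta D φ)

/-- Lifts of commuting root elements commute. -/
def CommLift (hσ : Function.Surjective σ) : Prop :=
  ∀ a b, a < D.nroots → b < D.nroots → b ≠ D.neg a → Cm D K a b →
    ∀ t u : K, cm hσ (D.stGen K a t) (D.stGen K b u) = 1

/-- All commutators of lifts with product in the root group of `r` agree. -/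
def Good (hσ : Function.Surjective σ) (r : ℕ) : Prop :=
  ∃ f : K → E, (∀ w w', f (w + w') = f w * f w') ∧ (∀ w, σ (f w) = D.stGen K r w) ∧
    (∃ (a b : ℕ) (κ : K), Valid D a b ∧ Pr D K a b r κ ∧ κ ≠ 0) ∧
    ∀ (a b : ℕ) (κ : K), Valid D a b → Pr D K a b r κ → κ ≠ 0 →
      ∀ t u : K, cm hσ (D.stGen K a t) (D.stGen K b u) = f (κ * t * u)

include hc hF hU

theorem step_eq (hL : CommLift hσ) {p a b a' c m : ℕ} (h : Tri D p a b a' c m) :
    ∃ κ₁ κ₂ : K, κ₁ ≠ 0 ∧ κ₂ ≠ 0 ∧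
      (∀ κ₃ κ₄ : K, Pr D K a' c p κ₃ → Pr D K a b p κ₄ →
        D.stGen K p (κ₃ * κ₁) = D.stGen K p (κ₄ * κ₂)) ∧
      ∀ t v w : K, cm hσ (D.stGen K a' (κ₁ * t * v)) (D.stGen K c w) =
        cm hσ (D.stGen K a t) (D.stGen K b (κ₂ * v * w)) := by
  obtain ⟨ha, hb, ha', hc', hm, h1, h2, h3, h4, ⟨h5, h5'⟩, ⟨h6, h6'⟩, ⟨h7, h7'⟩⟩ := h
  obtain ⟨p1, n1⟩ := pr_of_tgt (K := K) hF hU ha hm h1
  obtain ⟨p2, n2⟩ := pr_of_tgt (K := K) hF hU hm hc' h2
  obtain ⟨p3, -⟩ := pr_of_tgt (K := K) hF hU ha' hc' h3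
  have hp : p < D.nroots := (valid_of_tgt hF hU ha hb h4).2
  have key : ∀ t v w : K, cm hσ (D.stGen K a' ((str D a m : K) * t * v)) (D.stGen K c w) =
      cm hσ (D.stGen K a t) (D.stGen K b ((str D m c : K) * v * w)) := by
    intro t v w
    rw [← p1 t v, ← p2 v w]
    refine cm_assoc hσ hc (hL a c ha hc' h5' (cm_of_tgt hF hU ha hc' h5 h5') t w) ?_ ?_
    · rw [p1 t v, p2 v w]
      exact hL a' b ha' hb h6' (cm_of_tgt hF hU ha' hb h6 h6') _ _
    · rw [p1 t v, p3, p2 v w]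
      exact hL p b hp hb h7' (cm_of_tgt hF hU hp hb h7 h7') _ _
  refine ⟨_, _, n1, n2, fun κ₃ κ₄ q3 q4 => ?_, key⟩
  have e := congrArg σ (key 1 1 1)
  rw [σ_cm, σ_cm, q3, q4] at e
  simpa only [mul_one] using e

include hN hφ

theorem good_base (hL : CommLift hσ) {p : ℕ} (hC : BaseCert D p) : Good (σ := σ) hσ p := by
  obtain ⟨a0, b0, ha0, hb0, ht0, ⟨hap, hap'⟩, ⟨a1, c1, m1, htri⟩, hconn⟩ := hC
  obtain ⟨hv0, hp⟩ := valid_of_tgt hF hU ha0 hb0 ht0
  obtain ⟨pr0, n0⟩ := pr_of_tgt (K := K) hF hU ha0 hb0 ht0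
  set κ0 := (str D a0 b0 : K)
  let f : K → E := fun w => cm hσ (D.stGen K a0 (w / κ0)) (D.stGen K b0 1)
  have hproj : ∀ w, σ (f w) = D.stGen K p w := by
    intro w
    rw [σ_cm, pr0, mul_one, mul_div_cancel₀ _ n0]
  have hadd : ∀ w w', f (w + w') = f w * f w' := by
    intro w w'
    have e : f (w + w') = f w' * f w := by
      show cm hσ (D.stGen K a0 ((w + w') / κ0)) (D.stGen K b0 1) = _
      rw [add_div, ← stGen_add ha0, cm_mul_left hσ hc (by
        rw [pr0]; exact hL a0 p ha0 hp hap' (cm_of_tgt hF hU ha0 hp hap hap') _ _)]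
    rw [e]
    exact (commute_of_cm hσ hc (hproj w') (hproj w)
      (hL p p hp hp (hF.neg_ne hp).symm
        (cm_of_tgt hF hU hp hp (hF.tgt_self p hp).1 (hF.neg_ne hp).symm) _ _)).eq
  have hfneg : ∀ w, f (-w) = (f w)⁻¹ := by
    intro w
    have h0 : f 0 = 1 := by
      have := hadd 0 0
      rw [add_zero] at this
      exact left_eq_mul.1 this
    rw [eq_inv_iff_mul_eq_one, ← hadd, neg_add_cancel, h0]
  -- the pairs agreeing with the base
  let Q : ℕ → ℕ → Prop := fun a b => ∀ (κ : K), Pr D K a b p κ → κ ≠ 0 →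
    ∀ t u : K, cm hσ (D.stGen K a t) (D.stGen K b u) = f (κ * t * u)
  have hcoef : ∀ {x y : K}, D.stGen K p x = D.stGen K p y → x = y := fun h => stGen_inj hF hφ hp h
  have hQ0 : Q a0 b0 := by
    intro κ hκp hκ t u
    obtain ⟨κ1, κ2, m1', m2', -, key⟩ := step_eq hσ hc hF hU hL htri
    obtain rfl : κ = κ0 := by
      have e := (hκp 1 1).symm.trans (pr0 1 1)
      simpa only [mul_one] using hcoef e
    show _ = cm hσ (D.stGen K a0 (κ0 * t * u / κ0)) (D.stGen K b0 1)
    rw [show κ0 * t * u / κ0 = t * u by field_simp]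
    have e1 := key t u (κ2⁻¹)
    have e2 := key (t * u) 1 (κ2⁻¹)
    rw [show κ2 * u * κ2⁻¹ = u by field_simp] at e1
    rw [mul_one, mul_one, mul_inv_cancel₀ m2', show κ1 * (t * u) = κ1 * t * u by ring] at e2
    rw [← e1, e2]
  have hstep : ∀ a b a' c, Step D p a b a' c → Q a' c → Q a b := by
    rintro a b a' c ⟨m, hT | hT⟩ hQ κ hκp hκ t u
    · obtain ⟨κ1, κ2, m1', m2', hco, key⟩ := step_eq hσ hc hF hU hL hT
      obtain ⟨-, -, ha', hc', -, -, -, h3, -⟩ := hT
      obtain ⟨q3, n3⟩ := pr_of_tgt (K := K) hF hU ha' hc' h3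
      have hk := hcoef (hco _ _ q3 hκp)
      have e := key t 1 (u / κ2)
      rw [mul_one κ2, mul_div_cancel₀ _ m2', mul_one] at e
      rw [← e, hQ _ q3 n3]
      congr 1
      field_simp
      linear_combination (t * u) * hk
    · obtain ⟨κ1, κ2, m1', m2', hco, key⟩ := step_eq hσ hc hF hU hL hT
      obtain ⟨ha', hc', -, -, -, -, -, -, h4, -⟩ := hT
      obtain ⟨q4, n4⟩ := pr_of_tgt (K := K) hF hU ha' hc' h4
      have hk := hcoef (hco _ _ hκp q4)
      have e := key (t / κ1) 1 u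
      rw [mul_one, mul_div_cancel₀ _ m1', mul_one] at e
      rw [e, hQ _ q4 n4]
      congr 1
      field_simp
      linear_combination -(t * u) * hk
  have hall : ∀ a b, Conn D p a0 b0 a b → Q a b := by
    rintro a b (⟨rfl, rfl⟩ | h | ⟨a', c, h, h'⟩)
    · exact hQ0
    · exact hstep _ _ _ _ h hQ0
    · exact hstep _ _ _ _ h (hstep _ _ _ _ h' hQ0)
  refine ⟨f, hadd, hproj, ⟨a0, b0, κ0, hv0, pr0, n0⟩, fun a b κ hab hpr hκ => ?_⟩
  have ht := tgt_of_pr hF hφ hU hab hp hκ hpr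
  rcases hconn a hab.1 b hab.2.1 ht with h | h
  · exact hall a b h κ hpr hκ
  · intro t u
    have hpr' : Pr D K b a p (-κ) := by
      intro t' u'
      rw [← commutatorElement_inv, hpr, stGen_inv hp]
      congr 1
      ring
    rw [← cm_inv, hall b a h (-κ) hpr' (neg_ne_zero.2 hκ) u t, ← hfneg]
    congr 1
    ring

theorem good_all (hL : CommLift hσ) (hB : ∀ i < D.rank, BaseCert D (D.simple i)) {r : ℕ}
    (hr : r < D.nroots) : Good (σ := σ) hσ r := by
  refine hF.root_induction (P := fun r => Good (σ := σ) hσ r)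
    (fun i hi => good_base hσ hc hF hN hU hφ hL (hB i hi)) (fun i hi s hs ih => ?_) hr
  obtain ⟨f, hadd, hproj, ⟨a0, b0, κ0, hv0, hp0, hκ0⟩, hall⟩ := ih
  obtain ⟨c, hm⟩ := exists_moves_simple hF hN hφ hi (K := K)
  set z := stNG D (D.simple i) (1 : K)
  set w := sP D ⟨i, hi⟩ with hw
  have hwv : ∀ x : Fin D.nroots, (w x).val = D.reflectRoot i x.val := fun x => hF.sP_val _ _
  have hinvol : ∀ x : Fin D.nroots, w (w x) = x := fun x => Fin.ext (by
    rw [hwv, hwv, hF.refl_invol i hi _ x.isLt])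
  have hvalid : ∀ x y : Fin D.nroots, Valid D x.val y.val → Valid D (w x).val (w y).val := by
    intro x y hxy
    refine ⟨(w x).isLt, (w y).isLt, fun h => hxy.2.2.1 (by rw [w.injective (Fin.ext h)]), fun h => ?_⟩
    apply hxy.2.2.2
    have : w y = w ⟨D.neg x.val, hF.neg_lt x.isLt⟩ := Fin.ext (by
      rw [h, hwv, hwv, hF.refl_neg i hi _ x.isLt])
    rw [w.injective this]
  set S : Fin D.nroots := ⟨s, hs⟩
  have hS : (w S).val = D.reflectRoot i s := hwv S
  set y := pre hσ z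
  let g : K → E := fun v => y * f (v / c S) * y⁻¹
  have gproj : ∀ v, σ (g v) = D.stGen K (D.reflectRoot i s) v := by
    intro v
    simp only [g, map_mul, map_inv, hproj, y, σ_pre]
    have e := hm.2 S (v / c S)
    rw [mul_div_cancel₀ _ (hm.1 S), hS] at e
    exact e
  refine ⟨g, fun v v' => ?_, gproj, ⟨(w ⟨a0, hv0.1⟩).val, (w ⟨b0, hv0.2.1⟩).val,
    c S * κ0 / (c ⟨a0, hv0.1⟩ * c ⟨b0, hv0.2.1⟩), hvalid _ _ hv0, ?_, ?_⟩, ?_⟩
  · simp only [g]
    rw [add_div, hadd]
    group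
  · rw [← hS]; exact hm.pr (k := S) hp0
  · exact div_ne_zero (mul_ne_zero (hm.1 S) hκ0) (mul_ne_zero (hm.1 _) (hm.1 _))
  intro a b κ hab hpr hκ t u
  set A : Fin D.nroots := w ⟨a, hab.1⟩
  set B : Fin D.nroots := w ⟨b, hab.2.1⟩
  have hA : w A = ⟨a, hab.1⟩ := hinvol _
  have hB' : w B = ⟨b, hab.2.1⟩ := hinvol _
  -- pull the pair back
  have hAB : Valid D A.val B.val := hvalid _ _ hab
  have hback : Pr D K A.val B.val s (κ * c A * c B / c S) := by
    intro T U
    have eA := hm.2 A T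
    have eB := hm.2 B U
    have eS := hm.2 S (κ * c A * c B / c S * T * U)
    rw [hA] at eA; rw [hB'] at eB; rw [hS] at eS
    have h1 := hpr (c A * T) (c B * U)
    rw [← eA, ← eB] at h1
    rw [show c S * (κ * c A * c B / c S * T * U) = κ * (c A * T) * (c B * U) by
      field_simp [hm.1 S], ← h1] at eS
    refine ((MulAut.conj z).injective ?_).symm
    simpa [commutatorElement_def, mul_assoc] using eS
  have hne : κ * c A * c B / c S ≠ 0 :=
    div_ne_zero (mul_ne_zero (mul_ne_zero hκ (hm.1 A)) (hm.1 B)) (hm.1 S)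
  have e1 := hall A.val B.val _ hAB hback hne (t / c A) (u / c B)
  have eA := hm.2 A (t / c A)
  have eB := hm.2 B (u / c B)
  rw [hA, mul_div_cancel₀ _ (hm.1 A)] at eA
  rw [hB', mul_div_cancel₀ _ (hm.1 B)] at eB
  show _ = y * f (κ * t * u / c S) * y⁻¹
  rw [show κ * t * u / c S = κ * c A * c B / c S * (t / c A) * (u / c B) by
    field_simp [hm.1 A, hm.1 B], ← e1, conj_cm hσ hc, eA, eB]

omit hN in
theorem commLift_base (hO : OffCert D) {i : ℕ} (hi : i < D.rank) {s : ℕ} (hs : s < D.nroots)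
    (hneg : s ≠ D.neg (D.simple i)) (h : Cm D K (D.simple i) s) (t u : K) :
    cm hσ (D.stGen K (D.simple i) t) (D.stGen K s u) = 1 := by
  have hp := hF.simple_lt' hi
  rcases ht : tgt D (D.simple i) s with _ | k
  · obtain ⟨a, ha, b, hb, hab, ⟨h1, h1'⟩, ⟨h2, h2'⟩⟩ := hO i hi s hs ht hneg
    obtain ⟨pr, ne⟩ := pr_of_tgt (K := K) hF hU ha hb hab
    have e := pr (t / (str D a b : K)) 1
    rw [mul_one, mul_div_cancel₀ _ ne] at e
    rw [← e]
    exact cm_commutator_left hσ hc (cm_of_tgt hF hU ha hs h1 h1' _ _) (cm_of_tgt hF hU hb hs h2 h2' _ _)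
  · obtain ⟨pr, ne⟩ := pr_of_tgt (K := K) hF hU hp hs ht
    exact (not_cm_pr hF hφ (valid_of_tgt hF hU hp hs ht).2 ne pr h).elim

theorem commLift_of_base
    (hb : ∀ i < D.rank, ∀ s < D.nroots, s ≠ D.neg (D.simple i) → Cm D K (D.simple i) s →
      ∀ t u : K, cm hσ (D.stGen K (D.simple i) t) (D.stGen K s u) = 1) : CommLift (σ := σ) hσ := by
  have _ := hU
  intro a b ha hb' hneg hcm
  revert b
  refine hF.root_induction (P := fun a => ∀ b, b < D.nroots → b ≠ D.neg a → Cm D K a b →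
      ∀ t u : K, cm hσ (D.stGen K a t) (D.stGen K b u) = 1)
    (fun i hi b hb' hneg hcm => hb i hi b hb' hneg hcm) (fun i hi s hs ih b hb' hneg hcm t u => ?_) ha
  obtain ⟨c, hm⟩ := exists_moves_simple hF hN hφ hi (K := K)
  set w := sP D ⟨i, hi⟩
  have hwv : ∀ x : Fin D.nroots, (w x).val = D.reflectRoot i x.val := fun x => hF.sP_val _ _
  have hinvol : ∀ x : Fin D.nroots, w (w x) = x := fun x => Fin.ext (by
    rw [hwv, hwv, hF.refl_invol i hi _ x.isLt])
  set S : Fin D.nroots := ⟨s, hs⟩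
  have hS : (w S).val = D.reflectRoot i s := hwv S
  set B : Fin D.nroots := w ⟨b, hb'⟩
  have hB : w B = ⟨b, hb'⟩ := hinvol _
  have hcm' : Cm D K s B.val := by
    intro T U
    have h0 := hcm (c S * T) (c B * U)
    have eS := hm.2 S T
    have eB := hm.2 B U
    rw [hS] at eS; rw [hB] at eB
    rw [← eS, ← eB] at h0
    exact Commute.of_map (MulAut.conj (stNG D (D.simple i) (1 : K))).injective (by
      simpa only [MulAut.conj_apply] using h0)
  have hneg' : B.val ≠ D.neg s := fun e => hneg (by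
    have : B = ⟨D.neg s, hF.neg_lt hs⟩ := Fin.ext e
    have e2 := congrArg (fun x => (w x).val) this
    simp only [hB, hwv] at e2
    rw [e2, hF.refl_neg i hi s hs])
  have e1 := ih B.val B.isLt hneg' hcm' (t / c S) (u / c B)
  have eS := hm.2 S (t / c S)
  have eB := hm.2 B (u / c B)
  rw [hS, mul_div_cancel₀ _ (hm.1 S)] at eS
  rw [hB, mul_div_cancel₀ _ (hm.1 B)] at eB
  rw [← eS, ← eB, cm_conj_eq hσ hc (hcm' _ _), e1]

open CfsgLib.SL2Pres CfsgLib.SLSteinberg in
theorem exists_section [Finite K] (hL : CommLift hσ) (hB : ∀ i < D.rank, BaseCert D (D.simple i)) :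
    ∃ s : D.SteinbergGroup K →* E, σ.comp s = MonoidHom.id _ := by
  classical
  have hG : ∀ r, r < D.nroots → Good (σ := σ) hσ r := fun r hr => good_all hσ hc hF hN hU hφ hL hB hr
  let e : ℕ → K → E := fun r => if h : r < D.nroots then (hG r h).choose else fun _ => 1
  have espec : ∀ r, r < D.nroots → (∀ w w', e r (w + w') = e r w * e r w') ∧
      (∀ w, σ (e r w) = D.stGen K r w) ∧
      (∃ (a b : ℕ) (κ : K), Valid D a b ∧ Pr D K a b r κ ∧ κ ≠ 0) ∧
      ∀ (a b : ℕ) (κ : K), Valid D a b → Pr D K a b r κ → κ ≠ 0 →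
        ∀ t u : K, cm hσ (D.stGen K a t) (D.stGen K b u) = e r (κ * t * u) := fun r hr => by
    simp only [e, dif_pos hr]; exact (hG r hr).choose_spec
  have eadd := fun r hr => (espec r hr).1
  have eproj := fun r hr => (espec r hr).2.1
  have ezero : ∀ r, r < D.nroots → e r 0 = 1 := fun r hr => by
    have := eadd r hr 0 0
    rw [add_zero] at this
    exact left_eq_mul.1 this
  have eneg : ∀ r, r < D.nroots → ∀ w, e r (-w) = (e r w)⁻¹ := fun r hr w => by
    rw [eq_inv_iff_mul_eq_one, ← eadd r hr, neg_add_cancel, ezero r hr]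
  -- the Weyl elements act on the lifts
  have hrel : ∀ r, r < D.nroots → ∀ t u : K, t ≠ 0 →
      (e r t * e (D.neg r) (-t⁻¹) * e r t) * e r u * (e r t * e (D.neg r) (-t⁻¹) * e r t)⁻¹ =
        e (D.neg r) (-(t⁻¹ ^ 2 * u)) := by
    intro r hr t u ht
    have hn := hF.neg_lt hr
    obtain ⟨a, b, κ, hab, hpr, hκ⟩ := (espec r hr).2.2.1
    obtain ⟨w, c, hm, hwr, hwv⟩ := exists_moves_root hF hN hφ hr ht (K := K)
    have hy : σ (e r t * e (D.neg r) (-t⁻¹) * e r t) = stNG D r t := by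
      simp only [map_mul, eproj r hr, eproj _ hn, stNG]
    have e0 : e r u = cm hσ (D.stGen K a (u / κ)) (D.stGen K b 1) := by
      rw [(espec r hr).2.2.2 a b κ hab hpr hκ]
      congr 1
      field_simp
    have eA := hm.2 ⟨a, hab.1⟩ (u / κ)
    have eB := hm.2 ⟨b, hab.2.1⟩ 1
    have hpr' := hm.pr (a := ⟨a, hab.1⟩) (b := ⟨b, hab.2.1⟩) (k := ⟨r, hr⟩) hpr
    rw [hwr] at hpr'
    have hne' : c ⟨r, hr⟩ * κ / (c ⟨a, hab.1⟩ * c ⟨b, hab.2.1⟩) ≠ 0 :=
      div_ne_zero (mul_ne_zero (hm.1 _) hκ) (mul_ne_zero (hm.1 _) (hm.1 _))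
    rw [e0, conj_cm' hσ hc hy, eA, eB,
      (espec _ hn).2.2.2 _ _ _ (hwv _ _ hab) hpr' hne']
    congr 1
    have e1 := hm.2 ⟨r, hr⟩ u
    rw [hwr, stNG_conj_self hF hN hφ hr ht] at e1
    rw [stGen_inj hF hφ hn e1]
    field_simp [hm.1 ⟨a, hab.1⟩, hm.1 ⟨b, hab.2.1⟩]
  have hst2 : ∀ r, r < D.nroots → St2 (fun b : Bool => if b then e r else e (D.neg r)) := by
    intro r hr
    have hn := hF.neg_lt hr
    refine ⟨fun b t u => ?_, fun b t u ht => ?_⟩
    · cases b
      · simpa using eadd _ hn t u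
      · simpa using eadd r hr t u
    · cases b
      · simpa [hF.neg_neg hr] using hrel _ hn t u ht
      · simpa using hrel r hr t u ht
  have key : ∀ g ∈ D.steinbergRels K,
      FreeGroup.lift (fun p : Fin D.nroots × K => e p.1.val p.2) g = 1 := by
    have hX : ∀ r, r < D.nroots → ∀ t : K,
        FreeGroup.lift (fun p : Fin D.nroots × K => e p.1.val p.2) (D.stX r t) = e r t :=
      fun r hr t => by simp [ChevalleyDatum.stX, hr]
    rintro g ((⟨r, t₁, t₂, hr, rfl⟩ | ⟨r, s, t, u, hr, hs, hsr, hsn, rfl⟩) | ⟨r, t₁, t₂, hr, ht₁, ht₂, rfl⟩)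
    · rw [map_mul, map_mul, map_inv, hX r hr, hX r hr, hX r hr, ← eadd r hr, mul_inv_cancel]
    · rw [map_mul, map_mul, map_mul, map_mul, map_inv, map_inv, map_inv, hX s hs, hX r hr]
      change _ * (FreeGroup.lift _ (D.stWord (cwR D r s t u)))⁻¹ = 1
      rcases hk : tgt D r s with _ | k
      · rw [cwR, commTerms_none hF hU hr hs hk]
        simp only [List.map_nil, ChevalleyDatum.stWord, List.prod_nil, map_one, inv_one, mul_one]
        have hcc := commute_of_cm hσ hc (eproj s hs u) (eproj r hr t)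
          (hL s r hs hr (fun e' => hsn (by rw [e', hF.neg_neg hs])) (cm_of_tgt hF hU hr hs hk hsn).symm u t)
        rw [mul_assoc _ (e s u), hcc.eq]
        group
      · obtain ⟨hvrs, hkn⟩ := valid_of_tgt hF hU hr hs hk
        have hk' : tgt D s r = some k := by rw [(hF.tgt_symm r hr s hs).1, hk]
        obtain ⟨hvsr, -⟩ := valid_of_tgt hF hU hs hr hk'
        obtain ⟨pr, ne⟩ := pr_of_tgt (K := K) hF hU hs hr hk'
        rw [cwR, commTerms_some hF hU hr hs hk]
        simp only [List.map_cons, List.map_nil, ChevalleyDatum.stWord, List.prod_cons, List.prod_nil, mul_one,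
          pow_one, hX k hkn]
        have h := (espec k hkn).2.2.2 s r _ hvsr pr ne (-u) (-t)
        rw [← cm_eq hσ hc (a := (e s u)⁻¹) (b := (e r t)⁻¹)
          (by rw [map_inv, eproj s hs, stGen_inv hs]) (by rw [map_inv, eproj r hr, stGen_inv hr]),
          commutatorElement_def, inv_inv, inv_inv] at h
        rw [h, mul_inv_eq_one]
        congr 1
        rw [(hF.tgt_symm r hr s hs).2, Int.cast_neg]
        ring
    · obtain ⟨ψ, hψ⟩ := exists_hom_of_st2 (hst2 r hr)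
      have hn := hF.neg_lt hr
      have hw : ∀ c : K, e r c * e (D.neg r) (-c⁻¹) * e r c = ψ (w2 c) := by
        intro c
        rw [w2, map_mul, map_mul, show xHom K (Multiplicative.ofAdd c) = Cfsg.Agent.S2426.root (true, c) from rfl,
          hψ, hψ]
        simp
      have hH : ∀ c : K, c ≠ 0 →
          FreeGroup.lift (fun p : Fin D.nroots × K => e p.1.val p.2) (D.stH r c) = ψ (w2 c * w2 (-1)) := by
        intro c _
        rw [map_mul ψ, ← hw c, ← hw (-1)]
        simp [ChevalleyDatum.stH, ChevalleyDatum.stWord, ChevalleyDatum.hWord, ChevalleyDatum.nWord,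
          hX r hr, hX _ hn, mul_assoc]
      rw [map_mul, map_mul, map_inv, hH _ ht₁, hH _ ht₂, hH _ (mul_ne_zero ht₁ ht₂), ← map_mul,
        mul_inv_eq_one]
      congr 1
      refine Matrix.SpecialLinearGroup.ext _ _ fun i j => ?_
      simp only [Matrix.SpecialLinearGroup.coe_mul, w2_val ht₁, w2_val ht₂,
        w2_val (mul_ne_zero ht₁ ht₂), w2_val (neg_ne_zero.2 (one_ne_zero (α := K)))]
      fin_cases i <;> fin_cases j <;> simp [Matrix.mul_apply, Fin.sum_univ_two, mul_comm]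
  refine ⟨PresentedGroup.toGroup key, PresentedGroup.ext fun ⟨⟨r, hr⟩, t⟩ => ?_⟩
  rw [MonoidHom.comp_apply, PresentedGroup.toGroup.of, eproj r hr, MonoidHom.id_apply]
  simp [ChevalleyDatum.stGen, ChevalleyDatum.stX, hr, PresentedGroup.of]

end CfsgLib.Chev.Lift
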