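import Cfsg.Agent.Lib.Known.ChevLift.TorusFam
import Cfsg.Agent.Lib.Known.ChevLift.Multiplier

/-!
# Multipliers from the torus certificates
-/

set_option autoImplicit false

namespace CfsgLib.Chev.Lift

open Cfsg.Lie CfsgLib.Known.SplitCover
open scoped commutatorElement

universe v w

variable {D : ChevalleyDatum} {K : Type v} [Field K]

/-- The hypotheses on a datum and a finite field. -/
structure TorusCert.{u} (D : ChevalleyDatum) (K : Type u) [Field K] : Prop where
  good : CfsgLib.Chev.Good.{u} D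
  nbr : HasNbr D
  closed : ClosedCert D
  lin : LinCert D
  moving : ∀ r < D.nroots, ∃ k < D.nroots, ∃ x : Kˣ, x ^ prE D k r ≠ 1
  self : ∀ r < D.nroots, Nat.card K = 3 ∨ (5 ≤ Nat.card K ∧ UnitPairing D r) ∨
    (4 ≤ Nat.card K ∧ ∃ ev : Bool, (ev = true → (2 : K) = 0) ∧ GenCert D ev r)
  pair : ∀ r s, OkPair D r s → SepK D K r s ∨ SepK D K s r ∨
    (Nat.card K = 3 ∧ D.commTerms r s = [] ∧ D.commTerms s r = [] ∧ (OffThree D r s ∨ OffThree D s r))

theorem splits_of_torus [Finite K] (h : TorusCert D K) :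
    CentralSplits.{v, w} (D.SteinbergGroup K) := by
  intro E _ σ hσ hc
  haveI := Fintype.ofFinite K
  obtain ⟨co, hF⟩ := h.good.facts
  obtain ⟨φ, hφ⟩ := hF.exists_theta h.good.comm (K := K)
  obtain ⟨e, hA, hT⟩ := exists_rootFam hσ hc hF h.nbr hφ h.moving fun r hr t u => by
    rcases h.self r hr with hq | ⟨hq, hu⟩ | ⟨hq, ev, hev, hg⟩ <;> rw [Nat.card_eq_fintype_card] at hq
    · exact cm_self_three hσ hc hF hq hr t u
    · exact cm_self_unit hσ hc hF h.nbr hφ hq hr hu t u
    · exact cm_self_gen hσ hc hF h.nbr hφ hq hr hev hg t u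
  refine exists_section_of_rel hA hF hφ (relAt_all hσ hc hF hφ hA hT h.closed fun r s hok => ?_) h.nbr h.lin
  rcases h.pair r s hok with h' | h' | ⟨hq, h1, -, hoff⟩
  · exact Or.inl h'
  · exact Or.inr (Or.inl h')
  rw [Nat.card_eq_fintype_card] at hq
  refine Or.inr (Or.inr (relAt_of_cm hσ hc hF hA hok h1 fun t u => ?_))
  rcases hoff with ho | ho
  · exact cm_off_three hσ hc hF hq ho t u
  · rw [← CfsgLib.Known.CentralComm.cm_inv, cm_off_three hσ hc hF hq ho u t, inv_one]

theorem finite_of_good (hG : CfsgLib.Chev.Good.{v} D) (hN : HasNbr D) (K : Type v) [Field K] [Finite K] :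
    Finite (D.SteinbergGroup K) := by
  obtain ⟨co, hF⟩ := hG.facts
  obtain ⟨φ, hφ⟩ := hF.exists_theta hG.comm (K := K)
  obtain ⟨f, -, hf⟩ := hF.st_torus_hom hN hφ
  haveI : Finite φ.ker := by
    refine Finite.of_injective (fun z : φ.ker => (hf z.1 (hF.st_ker hφ hN z.2).1).choose) fun a b e => ?_
    refine Subtype.ext ?_
    rw [← (hf a.1 (hF.st_ker hφ hN a.2).1).choose_spec, ← (hf b.1 (hF.st_ker hφ hN b.2).1).choose_spec]
    exact congrArg f e
  haveI : Finite (D.SteinbergGroup K ⧸ φ.ker) :=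
    Finite.of_equiv _ (QuotientGroup.quotientKerEquivRange φ).toEquiv.symm
  exact Finite.of_subgroup_quotient φ.ker

theorem commutator_of_torus (h : TorusCert D K) : commutator (D.SteinbergGroup K) = ⊤ := by
  obtain ⟨co, hF⟩ := h.good.facts
  obtain ⟨φ, hφ⟩ := hF.exists_theta h.good.comm (K := K)
  rw [eq_top_iff, ← stClosure_top, stClosure, Subgroup.closure_le]
  rintro g ⟨r, t, hr, -, rfl⟩
  obtain ⟨k, hk, x, hx⟩ := h.moving r hr
  have hl : ((x ^ prE D k r : Kˣ) : K) - 1 ≠ 0 := fun e =>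
    hx (Units.ext (by simpa using sub_eq_zero.1 e))
  have e : ⁅stHG D k (x : K), D.stGen K r (t / (((x ^ prE D k r : Kˣ) : K) - 1))⁆ = D.stGen K r t := by
    rw [commutatorElement_def, stHG_conj hF h.nbr hφ hk x hr, stGen_inv hr, stGen_add hr]
    congr 1
    field_simp
    ring
  rw [← e]
  exact Subgroup.commutator_mem_commutator (Subgroup.mem_top _) (Subgroup.mem_top _)

theorem multiplier_steinberg_torus [Finite K] (h : TorusCert D K) :
    Cfsg.HasCyclicSchurMultiplier (D.SteinbergGroup K) 1 :=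
  haveI := finite_of_good h.good h.nbr K
  hasTrivial (splits_of_torus h)

theorem multiplier_group_torus [Finite K] (h : TorusCert D K)
    (hz : Subgroup.center (D.SteinbergGroup K) = ⊥) :
    Cfsg.HasCyclicSchurMultiplier ↥(D.group K) 1 := by
  obtain ⟨co, hF⟩ := h.good.facts
  haveI := finite_of_good h.good h.nbr K
  obtain ⟨θ, hθ, hker, -⟩ := hF.exists_surj h.good.comm h.nbr (K := K)
  haveI : Subsingleton (Subgroup.center (D.SteinbergGroup K)) := by rw [hz]; infer_instance
  have hcard : Nat.card (Subgroup.center (D.SteinbergGroup K)) = 1 := Nat.card_of_subsingleton 1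
  rw [← hcard]
  exact multiplier (splits_of_torus h) (commutator_of_torus h) θ hθ hker inferInstance

end CfsgLib.Chev.Lift
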