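import Cfsg.Agent.Lib.Chev.All
import Cfsg.Agent.Lib.Known.ChevLift.TorusSplit

/-!
# Type B2

Over at least four elements the torus suffices. Over three elements it fixes the long root elements; these lift as
commutators of the two short root elements with that sum.
-/

set_option autoImplicit false
set_option maxRecDepth 20000

namespace CfsgLib.Chev.Lift

open Cfsg.Lie CfsgLib.Chev.Table CfsgLib.Known.CentralComm
open scoped commutatorElement

universe v w

variable (D : ChevalleyDatum)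

/-- A coroot with odd pairing. -/
def OddRoot (r : ℕ) : Prop := ∃ k < D.nroots, ¬ 2 ∣ prE D k r

/-- `L` is the only term of `(p, q)`, and the torus separates both from it. -/
def SingleThree (p q L : ℕ) (C : ℤ) : Prop :=
  OkPair D p q ∧ D.commTerms p q = [(L, C, 1, 1)] ∧ ¬ (3 : ℤ) ∣ C ∧
    (SepOdd D p L ∧ OkPair D p L ∧ D.commTerms p L = []) ∧
    (SepOdd D q L ∧ OkPair D q L ∧ D.commTerms q L = [])

/-- A root fixed by the torus is the sum of a single pair. -/
def BaseThree : Prop :=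
  ∀ r < D.nroots, OddRoot D r ∨ ∃ a b C, SingleThree D a b r C ∧
    ∀ p q C', OkPair D p q → D.commTerms p q = [(r, C', 1, 1)] → (p = a ∧ q = b) ∨ (p = b ∧ q = a)

/-- The root `s` moves one member of a pair of `r` inside the pair. -/
def MovedThree (r s : ℕ) : Prop :=
  ∃ p q C, SingleThree D p q r C ∧ OkPair D p s ∧ D.commTerms p s = [] ∧ OkPair D q s ∧
    ∀ c ∈ D.commTerms q s, c.1 = p ∨ c.1 = r

/-- The pairs over three elements. -/
def PairB2 : Prop :=
  ∀ r s, OkPair D r s → SepOdd D r s ∨ SepOdd D s r ∨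
    (∃ L C, SingleThree D r s L C ∧ ¬ OddRoot D L) ∨
    (D.commTerms r s = [] ∧ D.commTerms s r = [] ∧ MovedThree D r s)

end CfsgLib.Chev.Lift

namespace CfsgLib.Chev.Table.Tab

variable (T : Tab)

/-- See `OddRoot`. -/
def oddRootB (r : ℕ) : Bool := anyBelow T.nroots fun k => !(T.pr k r % 2 == 0)

/-- The only term. -/
def oneTerm (p q : ℕ) : Option (ℕ × ℤ) :=
  match T.terms p q with
  | [c] => bif Nat.beq c.2.2.1 1 && Nat.beq c.2.2.2 1 then some (c.1, c.2.1) else none
  | _ => none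

/-- See `SingleThree`. -/
def singleThreeB (p q : ℕ) : Bool :=
  T.okB p q &&
    match T.oneTerm p q with
    | none => false
    | some (L, C) => !(C % 3 == 0) && T.sepOddB p L && T.okB p L && (T.terms p L).isEmpty &&
        T.sepOddB q L && T.okB q L && (T.terms q L).isEmpty

/-- See `BaseThree`. -/
def baseThreeB (r : ℕ) : Bool :=
  T.oddRootB r || anyBelow T.nroots fun a => anyBelow T.nroots fun b =>
    T.singleThreeB a b && ((T.oneTerm a b).map Prod.fst == some r) &&
      allBelow T.nroots fun p => allBelow T.nroots fun q =>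
        bif (T.oneTerm p q).map Prod.fst == some r then
          (Nat.beq p a && Nat.beq q b) || (Nat.beq p b && Nat.beq q a)
        else true

/-- See `MovedThree`. -/
def movedThreeB (r s : ℕ) : Bool :=
  anyBelow T.nroots fun p => anyBelow T.nroots fun q =>
    T.singleThreeB p q && ((T.oneTerm p q).map Prod.fst == some r) && T.okB p s &&
      (T.terms p s).isEmpty && T.okB q s && (T.terms q s).all fun c => Nat.beq c.1 p || Nat.beq c.1 r

/-- See `PairB2`. -/
def chkPairB2 : Bool :=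
  allBelow T.nroots fun r => allBelow T.nroots fun s =>
    bif T.okB r s then
      T.sepOddB r s || T.sepOddB s r ||
        (T.singleThreeB r s &&
          match T.oneTerm r s with
          | none => false
          | some (L, _) => !(T.oddRootB L)) ||
        ((T.terms r s).isEmpty && (T.terms s r).isEmpty && T.movedThreeB r s)
    else true

/-- See `BaseThree`. -/
def chkBaseThree : Bool := allBelow T.nroots fun r => T.baseThreeB r

/-- A coroot with pairing `±1` or `±2`. -/
def chkMoving : Bool :=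
  allBelow T.nroots fun r => anyBelow T.nroots fun k => !(T.pr k r == 0) && Nat.ble (T.pr k r).natAbs 2

/-- The same root rules. -/
def chkSelfB2 : Bool :=
  allBelow T.nroots fun r =>
    T.genB false r || (T.genB true r && anyBelow T.nroots fun k => T.pr k r == 1)

end CfsgLib.Chev.Table.Tab

namespace CfsgLib.Chev.Lift

open Cfsg.Lie CfsgLib.Chev.Table CfsgLib.Known.CentralComm
open scoped commutatorElement

universe v w

section table

variable {D : ChevalleyDatum} {co : ℕ → ℕ → ℤ} {T : Tab}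
  (hA : T.chkArrays D = true) (hC : T.chkChain D = true) (hP : T.chkPairs = true) (hF : Facts D co)
include hA

theorem oddRootB_iff {r : ℕ} (hr : r < D.nroots) : T.oddRootB r = true ↔ OddRoot D r := by
  constructor
  · intro h
    obtain ⟨k, hk, hk'⟩ := anyBelow_spec h
    have hkn : k < D.nroots := (nroots_eq hA).symm ▸ hk
    simp only [Bool.not_eq_true', beq_eq_false_iff_ne, ne_eq] at hk'
    exact ⟨k, hkn, by rw [pr_eq hA hkn hr]; exact fun hd => hk' (Int.emod_eq_zero_of_dvd hd)⟩
  · rintro ⟨k, hk, hk'⟩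
    refine anyBelow_of (nroots_eq hA ▸ hk) ?_
    rw [pr_eq hA hk hr] at hk'
    simp only [Bool.not_eq_true', beq_eq_false_iff_ne, ne_eq]
    exact fun h => hk' (Int.dvd_of_emod_eq_zero h)

include hC hF

theorem oneTerm_spec {p q L : ℕ} {C : ℤ} (hp : p < D.nroots) (hq : q < D.nroots)
    (h : T.oneTerm p q = some (L, C)) : D.commTerms p q = [(L, C, 1, 1)] := by
  rw [terms_eq hA hC hF hp hq]
  unfold Tab.oneTerm at h
  split at h
  · rename_i c hc
    obtain ⟨k, C', i, j⟩ := c
    cases hb : (Nat.beq i 1 && Nat.beq j 1)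
    · simp [hb] at h
    · simp only [hb, cond_true, Option.some.injEq, Prod.mk.injEq] at h
      obtain ⟨rfl, rfl⟩ := h
      rw [Bool.and_eq_true] at hb
      rw [hc, Nat.eq_of_beq_eq_true hb.1, Nat.eq_of_beq_eq_true hb.2]
  · exact absurd h (by simp)

theorem oneTerm_of {p q L : ℕ} {C : ℤ} (hp : p < D.nroots) (hq : q < D.nroots)
    (h : D.commTerms p q = [(L, C, 1, 1)]) : T.oneTerm p q = some (L, C) := by
  rw [terms_eq hA hC hF hp hq] at h
  simp [Tab.oneTerm, h]

theorem singleThree_of {p q L : ℕ} {C : ℤ} (hp : p < D.nroots) (hq : q < D.nroots)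
    (h : T.singleThreeB p q = true) (h1 : T.oneTerm p q = some (L, C)) : SingleThree D p q L C := by
  have ht := oneTerm_spec hA hC hF hp hq h1
  have hL : L < D.nroots := (hF.commTerms_wt hF.isWeight_omega hp hq (c := (L, C, 1, 1)) (by rw [ht]; simp)).1
  simp only [Tab.singleThreeB, h1, Bool.and_eq_true, Bool.not_eq_true', beq_eq_false_iff_ne, ne_eq,
    List.isEmpty_iff, okB_iff hA hp hq, okB_iff hA hp hL, okB_iff hA hq hL,
    ← terms_eq hA hC hF hp hL, ← terms_eq hA hC hF hq hL] at h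
  obtain ⟨hok, ⟨⟨⟨⟨⟨h3, h4⟩, h5⟩, h6⟩, h7⟩, h8⟩, h9⟩ := h
  exact ⟨hok, ht, fun hd => h3 (Int.emod_eq_zero_of_dvd hd),
    ⟨sepOdd_of_sepOddB hA hp hL h4, h5, h6⟩, ⟨sepOdd_of_sepOddB hA hq hL h7, h8, h9⟩⟩

theorem baseThree_of_chk (h : T.chkBaseThree = true) : BaseThree D := by
  intro r hr
  have hn := nroots_eq hA
  have h1 := allBelow_spec h r (hn ▸ hr)
  simp only [Tab.baseThreeB, Bool.or_eq_true] at h1
  rcases h1 with h1 | h1
  · exact Or.inl ((oddRootB_iff hA hr).1 h1)
  obtain ⟨a, ha, h2⟩ := anyBelow_spec h1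
  obtain ⟨b, hb, h3⟩ := anyBelow_spec h2
  simp only [Bool.and_eq_true, beq_iff_eq, Option.map_eq_some_iff] at h3
  obtain ⟨⟨h4, ⟨L, C⟩, h5, h5'⟩, h6⟩ := h3
  dsimp only at h5'
  subst h5'
  refine Or.inr ⟨a, b, C, singleThree_of hA hC hF (hn.symm ▸ ha) (hn.symm ▸ hb) h4 h5,
    fun p q C' hok ht => ?_⟩
  obtain ⟨hp, hq, -, -⟩ := id hok
  have h7 := allBelow_spec (allBelow_spec h6 p (hn ▸ hp)) q (hn ▸ hq)
  simpa [oneTerm_of hA hC hF hp hq ht, Nat.beq_eq] using h7

theorem pairB2_of_chk (h : T.chkPairB2 = true) : PairB2 D := by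
  intro r s hok
  obtain ⟨hr, hs, -, -⟩ := id hok
  have hn := nroots_eq hA
  have h1 := allBelow_spec (allBelow_spec h r (hn ▸ hr)) s (hn ▸ hs)
  simp only [(okB_iff hA hr hs).2 hok, cond_true, Bool.or_eq_true, Bool.and_eq_true, List.isEmpty_iff,
    ← terms_eq hA hC hF hr hs, ← terms_eq hA hC hF hs hr] at h1
  rcases h1 with ((h1 | h1) | ⟨h1, h2⟩) | ⟨⟨h1, h2⟩, h3⟩
  · exact Or.inl (sepOdd_of_sepOddB hA hr hs h1)
  · exact Or.inr (Or.inl (sepOdd_of_sepOddB hA hs hr h1))
  · rcases ho : T.oneTerm r s with _ | ⟨L, C⟩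
    · simp [ho] at h2
    have hL : L < D.nroots :=
      (hF.commTerms_wt hF.isWeight_omega hr hs (c := (L, C, 1, 1))
        (by rw [oneTerm_spec hA hC hF hr hs ho]; simp)).1
    simp only [ho, Bool.not_eq_true'] at h2
    exact Or.inr (Or.inr (Or.inl ⟨L, C, singleThree_of hA hC hF hr hs h1 ho,
      fun hodd => by rw [(oddRootB_iff hA hL).2 hodd] at h2; simp at h2⟩))
  · obtain ⟨p, hp, h4⟩ := anyBelow_spec h3
    obtain ⟨q, hq, h5⟩ := anyBelow_spec h4
    have hp' : p < D.nroots := hn.symm ▸ hp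
    have hq' : q < D.nroots := hn.symm ▸ hq
    simp only [Bool.and_eq_true, beq_iff_eq, Option.map_eq_some_iff, List.isEmpty_iff, List.all_eq_true,
      Bool.or_eq_true, Nat.beq_eq, okB_iff hA hp' hs, okB_iff hA hq' hs,
      ← terms_eq hA hC hF hp' hs, ← terms_eq hA hC hF hq' hs] at h5
    obtain ⟨⟨⟨⟨⟨h6, ⟨L, C⟩, h7, h7'⟩, h8⟩, h9⟩, h10⟩, h11⟩ := h5
    dsimp only at h7'
    subst h7'
    exact Or.inr (Or.inr (Or.inr
      ⟨h1, h2, p, q, C, singleThree_of hA hC hF hp' hq' h6 h7, h8, h9, h10, h11⟩))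

end table

section three

variable {D : ChevalleyDatum} {co : ℕ → ℕ → ℤ} {K : Type v} [Field K] [Fintype K] {E : Type w} [Group E]
  {σ : E →* D.SteinbergGroup K}
  (hσ : Function.Surjective σ) (hc : σ.ker ≤ Subgroup.center E) (hq : Fintype.card K = 3)
  (hF : Facts D co) (hN : HasNbr D) {φ : D.SteinbergGroup K →* GL D.Idx K} (hφ : IsTheta D φ)
include hq

omit [Group E] in
theorem cases_three (x : K) : x = 0 ∨ x = 1 ∨ x = -1 := by
  classical
  have h3 : (3 : K) = 0 := by
    have := FiniteField.cast_card_eq_zero K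
    rw [hq] at this
    exact_mod_cast this
  have hne : (1 : K) ≠ -1 := fun e => one_ne_zero (α := K) (by linear_combination h3 - e)
  have hset : ({0, 1, -1} : Finset K) = Finset.univ := by
    refine Finset.eq_univ_of_card _ ?_
    rw [hq, Finset.card_insert_of_notMem (by simp [eq_comm]), Finset.card_pair hne]
  have := hset ▸ Finset.mem_univ x
  simpa using this

theorem two_ne_zero_three : (2 : K) ≠ 0 := fun h => by
  have h3 : (3 : K) = 0 := by
    have := FiniteField.cast_card_eq_zero K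
    rw [hq] at this
    exact_mod_cast this
  exact one_ne_zero (α := K) (by linear_combination h3 - h)

theorem cast_ne_zero_three {C : ℤ} (h : ¬ (3 : ℤ) ∣ C) : (C : K) ≠ 0 := by
  intro h0
  haveI : Fact (Nat.Prime 3) := ⟨Nat.prime_three⟩
  haveI := charP_of_card_eq_prime (R := K) hq
  exact h (by exact_mod_cast (CharP.intCast_eq_zero_iff K 3 C).1 h0)

include hF

theorem comm_single {p q L : ℕ} {C : ℤ} (hok : OkPair D p q) (ht : D.commTerms p q = [(L, C, 1, 1)])
    (u v : K) : ⁅D.stGen K q u, D.stGen K p v⁆ = D.stGen K L (-((C : K) * u * v)) := by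
  have _ := hF
  obtain ⟨hp, hq', h1, h2⟩ := hok
  have hrel := stGen_comm hp hq' h1 h2 (-v) (-u)
  rw [cwR, ht] at hrel
  simp only [List.map_cons, List.map_nil, stW, List.prod_cons, List.prod_nil, mul_one, pow_one, neg_neg,
    ← stGen_inv hp, ← stGen_inv hq'] at hrel
  rw [commutatorElement_def, mul_assoc _ (D.stGen K q u)⁻¹, hrel,
    show -((C : K) * u * v) = (C : K) * v * -u by ring]
  group

include hσ hc hN hφ

theorem pairing_three {p q L : ℕ} {C : ℤ} (h : SingleThree D p q L C) :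
    (∀ u u' v, cm hσ (D.stGen K q (u + u')) (D.stGen K p v) =
      cm hσ (D.stGen K q u') (D.stGen K p v) * cm hσ (D.stGen K q u) (D.stGen K p v)) ∧
    (∀ u v v', cm hσ (D.stGen K q u) (D.stGen K p (v + v')) =
      cm hσ (D.stGen K q u) (D.stGen K p v) * cm hσ (D.stGen K q u) (D.stGen K p v')) ∧
    ∀ u v, cm hσ (D.stGen K q u) (D.stGen K p v) = cm hσ (D.stGen K q 1) (D.stGen K p (u * v)) := by
  obtain ⟨hok, ht, -, ⟨hs1, ho1, ht1⟩, ⟨hs2, ho2, ht2⟩⟩ := h
  obtain ⟨hp, hqn, -, -⟩ := id hok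
  have h2 := two_ne_zero_three (K := K) hq
  have hr : ∀ u v v', cm hσ (D.stGen K q u) (D.stGen K p (v + v')) =
      cm hσ (D.stGen K q u) (D.stGen K p v) * cm hσ (D.stGen K q u) (D.stGen K p v') := by
    intro u v v'
    rw [← stGen_add hp, cm_mul_right hσ hc]
    rw [comm_single hq hF hok ht]
    exact cm_sep hσ hc hF hN hφ hp ho1.2.1 (cm_of_nil ho1 ht1 hF) (Or.inl (sepK_of_sepOdd h2 hs1)) _ _
  have hl : ∀ u u' v, cm hσ (D.stGen K q (u + u')) (D.stGen K p v) =
      cm hσ (D.stGen K q u') (D.stGen K p v) * cm hσ (D.stGen K q u) (D.stGen K p v) := by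
    intro u u' v
    rw [← stGen_add hqn, cm_mul_left hσ hc]
    rw [comm_single hq hF hok ht]
    exact cm_sep hσ hc hF hN hφ hqn ho2.2.1 (cm_of_nil ho2 ht2 hF) (Or.inl (sepK_of_sepOdd h2 hs2)) _ _
  refine ⟨hl, hr, fun u v => ?_⟩
  rcases cases_three hq u with rfl | rfl | rfl
  · rw [zero_mul, stGen_zero hp, stGen_zero hqn, cm_one_left hσ hc, cm_one_right hσ hc]
  · rw [one_mul]
  · have e1 := hl 1 (-1) v
    have e2 := hr 1 v (-v)
    rw [add_neg_cancel, stGen_zero hqn, cm_one_left hσ hc] at e1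
    rw [add_neg_cancel, stGen_zero hp, cm_one_right hσ hc] at e2
    rw [neg_one_mul, eq_inv_of_mul_eq_one_left e1.symm, eq_inv_of_mul_eq_one_right e2.symm]

theorem exists_rootFam_three (hB : BaseThree D) :
    ∃ e : ℕ → K → E, IsRootFam σ e ∧ TorEquiv σ e ∧
      ∀ p q L C, SingleThree D p q L C → ¬ OddRoot D L →
        ∀ u v, cm hσ (D.stGen K q u) (D.stGen K p v) = e L (-((C : K) * u * v)) := by
  classical
  have h2 := two_ne_zero_three (K := K) hq
  have hmove : ∀ r, OddRoot D r → ∃ k < D.nroots, ((-1 : Kˣ) ^ prE D k r : Kˣ) ≠ 1 := by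
    rintro r ⟨k, hk, hodd⟩
    refine ⟨k, hk, ?_⟩
    rw [Odd.neg_one_zpow (Int.not_even_iff_odd.1 fun he => hodd (even_iff_two_dvd.1 he))]
    intro hx
    have h3 := congrArg Units.val hx
    simp only [Units.val_neg, Units.val_one] at h3
    exact h2 (by linear_combination -h3)
  choose k hk hx using hmove
  have hlong : ∀ r < D.nroots, ¬ OddRoot D r → ∃ a b C, SingleThree D a b r C ∧
      ∀ p q C', OkPair D p q → D.commTerms p q = [(r, C', 1, 1)] → (p = a ∧ q = b) ∨ (p = b ∧ q = a) :=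
    fun r hr h => (hB r hr).resolve_left h
  choose a b C hab huniq using hlong
  let l : (r : ℕ) → OddRoot D r → K := fun r h => (((-1 : Kˣ) ^ prE D (k r h) r : Kˣ) : K) - 1
  have hl : ∀ r h, l r h ≠ 0 := fun r h e => hx r h (Units.ext (by simpa using sub_eq_zero.1 e))
  let e : ℕ → K → E := fun r u =>
    if hr : r < D.nroots then
      if h : OddRoot D r then cm hσ (stHG D (k r h) ((-1 : Kˣ) : K)) (D.stGen K r (u / l r h))
      else cm hσ (D.stGen K (b r hr h) 1) (D.stGen K (a r hr h) (-(u / (C r hr h : K))))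
    else 1
  have hcmv : ∀ r, r < D.nroots → ∀ (h : OddRoot D r) (v : K),
      ⁅stHG D (k r h) ((-1 : Kˣ) : K), D.stGen K r v⁆ = D.stGen K r (l r h * v) := by
    intro r hr h v
    rw [commutatorElement_def, stHG_conj hF hN hφ (hk r h) (-1) hr, stGen_inv hr, stGen_add hr]
    congr 1
    simp only [l]
    ring
  have hproj : ∀ r, r < D.nroots → ∀ u, σ (e r u) = D.stGen K r u := by
    intro r hr u
    by_cases h : OddRoot D r
    · simp only [e, dif_pos hr, dif_pos h, σ_cm, hcmv r hr, mul_div_cancel₀ _ (hl r h)]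
    · have hs := hab r hr h
      simp only [e, dif_pos hr, dif_neg h, σ_cm, comm_single hq hF hs.1 hs.2.1, mul_one, mul_neg, neg_neg,
        mul_div_cancel₀ _ (cast_ne_zero_three (K := K) hq hs.2.2.1)]
  have hkey : ∀ p q L C', SingleThree D p q L C' → ¬ OddRoot D L →
      ∀ u v, cm hσ (D.stGen K q u) (D.stGen K p v) = e L (-((C' : K) * u * v)) := by
    intro p q L C' hS hodd u v
    have hL : L < D.nroots := hS.2.2.2.1.2.1.2.1
    suffices ∃ w, cm hσ (D.stGen K q u) (D.stGen K p v) = e L w by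
      obtain ⟨w, hw⟩ := this
      have := congrArg σ hw
      rw [σ_cm, comm_single hq hF hS.1 hS.2.1, hproj L hL] at this
      rw [hw, ← stGen_inj hF hφ hL this]
    have hbase : ∀ z, ∃ w, cm hσ (D.stGen K (b L hL hodd) 1) (D.stGen K (a L hL hodd) z) = e L w :=
      fun z => ⟨-(z * (C L hL hodd : K)), by
        simp only [e, dif_pos hL, dif_neg hodd]
        rw [neg_div, neg_neg, mul_div_cancel_right₀ _
          (cast_ne_zero_three (K := K) hq (hab L hL hodd).2.2.1)]⟩
    rcases huniq L hL hodd p q C' hS.1 hS.2.1 with ⟨rfl, rfl⟩ | ⟨rfl, rfl⟩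
    · rw [(pairing_three hσ hc hq hF hN hφ (hab L hL hodd)).2.2]
      exact hbase _
    · obtain ⟨-, hr', h'⟩ := pairing_three hσ hc hq hF hN hφ (hab L hL hodd)
      rw [← cm_inv, h']
      obtain ⟨w, hw⟩ := hbase (-(v * u))
      refine ⟨w, ?_⟩
      rw [← hw]
      refine inv_eq_of_mul_eq_one_right ?_
      rw [← hr', add_neg_cancel, stGen_zero (hab L hL hodd).1.1, cm_one_right hσ hc]
  refine ⟨e, ⟨hproj, fun r hr u u' => ?_⟩, fun k' hk' x' y hy r hr u => ?_, hkey⟩
  · by_cases h : OddRoot D r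
    · simp only [e, dif_pos hr, dif_pos h, add_div]
      rw [← stGen_add hr, cm_mul_right hσ hc
        (by rw [hcmv r hr]; exact cm_self_three hσ hc hF hq hr _ _)]
    · simp only [e, dif_pos hr, dif_neg h, add_div, neg_add]
      exact (pairing_three hσ hc hq hF hN hφ (hab r hr h)).2.1 _ _ _
  · by_cases h : OddRoot D r
    · simp only [e, dif_pos hr, dif_pos h]
      have hcomm := stHG_commute hF hN hφ hk' (hk r h) x' (-1)
      rw [conj_cm' hσ hc hy, hcomm.eq, mul_inv_cancel_right, stHG_conj hF hN hφ hk' x' hr, mul_div_assoc]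
    · have hs := hab r hr h
      have e1 : y * e r u * y⁻¹ = cm hσ
          (D.stGen K (b r hr h) (((x' ^ prE D k' (b r hr h) : Kˣ) : K) * 1))
          (D.stGen K (a r hr h) (((x' ^ prE D k' (a r hr h) : Kˣ) : K) * -(u / (C r hr h : K)))) := by
        simp only [e, dif_pos hr, dif_neg h]
        rw [conj_cm' hσ hc hy, stHG_conj hF hN hφ hk' x' hs.1.2.1, stHG_conj hF hN hφ hk' x' hs.1.1]
      rw [hkey _ _ r _ hs h] at e1
      have e2 := congrArg σ e1
      rw [map_mul, map_mul, map_inv, hy, hproj r hr, hproj r hr, stHG_conj hF hN hφ hk' x' hr] at e2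
      rw [e1, stGen_inj hF hφ hr e2]

theorem cm_moved {r s : ℕ} (hrs : OkPair D r s) (h0 : D.commTerms r s = []) (h : MovedThree D r s)
    (t u : K) : cm hσ (D.stGen K r t) (D.stGen K s u) = 1 := by
  have h2 := two_ne_zero_three (K := K) hq
  obtain ⟨p, q, C, hS, hps, htps, hqs, hterms⟩ := h
  obtain ⟨hpq, ht, h3, ⟨hs1, ho1, ht1⟩, -⟩ := hS
  have hC := cast_ne_zero_three (K := K) hq h3
  obtain ⟨hp, hqn, -, -⟩ := id hpq
  set v := -(t / (C : K)) with hv
  set z := cm hσ (D.stGen K q 1) (D.stGen K p v) with hz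
  have hσz : σ z = D.stGen K r t := by
    rw [hz, σ_cm, comm_single hq hF hpq ht, mul_one, hv, mul_neg, neg_neg, mul_div_cancel₀ _ hC]
  rw [← cm_eq hσ hc hσz (σ_pre hσ (D.stGen K s u)), commutatorElement_eq_one_iff_mul_comm]
  set S := pre hσ (D.stGen K s u)
  suffices S * z * S⁻¹ = z from (mul_inv_eq_iff_eq_mul.1 this).symm
  set W := stW D (cwR D q s 1 u) with hW
  have hpS := cm_of_nil hps htps hF (K := K)
  have hWp : W ∈ cCent hσ (D.stGen K p v) ⊓ Subgroup.centralizer {D.stGen K s u} ⊓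
      Subgroup.centralizer {D.stGen K p v} := by
    refine stW_mem fun x hx => ?_
    obtain ⟨c, hc', rfl⟩ := List.mem_map.1 hx
    dsimp only
    rcases hterms c hc' with e' | e' <;> rw [e']
    · refine ⟨⟨mem_cCent hσ hc (cm_self_three hσ hc hF hq hp _ _), ?_⟩, ?_⟩
      · exact Subgroup.mem_centralizer_singleton_iff.2 (hpS _ u).eq
      · refine Subgroup.mem_centralizer_singleton_iff.2 ?_
        rw [stGen_add hp, stGen_add hp, add_comm]
    · refine ⟨⟨mem_cCent hσ hc (cm_sep hσ hc hF hN hφ hp ho1.2.1 (cm_of_nil ho1 ht1 hF)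
        (Or.inl (sepK_of_sepOdd h2 hs1)) _ _), ?_⟩, ?_⟩
      · exact Subgroup.mem_centralizer_singleton_iff.2 ((cm_of_nil hrs h0 hF) _ u).eq
      · exact Subgroup.mem_centralizer_singleton_iff.2 ((cm_of_nil ho1 ht1 hF) v _).symm.eq
  obtain ⟨⟨hW1, hW2⟩, hW3⟩ := hWp
  replace hW2 := Subgroup.mem_centralizer_singleton_iff.1 hW2
  replace hW3 := Subgroup.mem_centralizer_singleton_iff.1 hW3
  have hrel := stGen_comm hqn hqs.2.1 hqs.2.2.1 hqs.2.2.2 (1 : K) u
  rw [← hW] at hrel
  rw [hz, conj_cm' hσ hc (σ_pre hσ (D.stGen K s u))]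
  rw [show D.stGen K s u * D.stGen K p v * (D.stGen K s u)⁻¹ = D.stGen K p v by
    rw [← (hpS v u).eq, mul_inv_cancel_right]]
  rw [show D.stGen K s u * D.stGen K q 1 * (D.stGen K s u)⁻¹ = D.stGen K q 1 * W by
    rw [hrel, mul_assoc _ (D.stGen K s u) W, ← hW2]; group]
  rw [cm_mul_left hσ hc (by
    rw [(commutatorElement_eq_one_iff_mul_comm).2 hW3]; exact cm_one_right hσ hc _)]
  rw [← cm_inv hσ (D.stGen K p v) W, cm_of_mem_cCent hσ hc hW1, inv_one, one_mul]

omit hσ hc hN hφ in
theorem exists_section_three (hσ : Function.Surjective σ) (hc : σ.ker ≤ Subgroup.center E)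
    (hN : HasNbr D) (hφ : IsTheta D φ) (hcl : ClosedCert D) (hL : LinCert D) (hB : BaseThree D)
    (hP : PairB2 D) : ∃ s : D.SteinbergGroup K →* E, σ.comp s = MonoidHom.id _ := by
  have h2 := two_ne_zero_three (K := K) hq
  obtain ⟨e, hA, hT, hkey⟩ := exists_rootFam_three hσ hc hq hF hN hφ hB
  refine exists_section_of_rel hA hF hφ (relAt_all hσ hc hF hφ hA hT hcl fun r s hok => ?_) hN hL
  rcases hP r s hok with h | h | ⟨L, C, hS, hodd⟩ | ⟨h1, h2', h3⟩
  · exact Or.inl (sepK_of_sepOdd h2 h)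
  · exact Or.inr (Or.inl (sepK_of_sepOdd h2 h))
  · refine Or.inr (Or.inr fun t u => ?_)
    have hk := hkey r s L C hS hodd (-u) (-t)
    rw [← cm_eq hσ hc (a := (e s u)⁻¹) (b := (e r t)⁻¹)
      (by rw [map_inv, hA.proj s hok.2.1, stGen_inv hok.2.1])
      (by rw [map_inv, hA.proj r hok.1, stGen_inv hok.1]), commutatorElement_def, inv_inv, inv_inv] at hk
    rw [cwR, hS.2.1, List.map_cons, List.map_nil, eW, List.map_cons, List.map_nil, List.prod_cons,
      List.prod_nil, mul_one]
    dsimp only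
    rw [pow_one, pow_one, show (C : K) * -t * u = -((C : K) * -u * -t) by ring, ← hk]
    group
  · exact Or.inr (Or.inr (relAt_of_cm hσ hc hF hA hok h1 fun t u =>
      cm_moved hσ hc hq hF hN hφ hok h1 h3 t u))

end three

theorem chkClosed_B2 : DataB2.tab.chkClosed = true := by decide +kernel

theorem chkLin_B2 : DataB2.tab.chkLin = true := by decide +kernel

theorem chkPairBig_B2 : DataB2.tab.chkPairBig 2 = true := by decide +kernel

theorem chkPairB2_B2 : DataB2.tab.chkPairB2 = true := by decide +kernel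

theorem chkBaseThree_B2 : DataB2.tab.chkBaseThree = true := by decide +kernel

theorem chkMoving_B2 : DataB2.tab.chkMoving = true := by decide +kernel

theorem chkSelf_B2 : DataB2.tab.chkSelfB2 = true := by decide +kernel

theorem torusCert_B2 (K : Type v) [Field K] [Fintype K] (hK : 4 ≤ Fintype.card K) :
    TorusCert chevB2 K where
  good := good_B2
  nbr := hasNbr_of_mem (by simp)
  closed := closedCert_of_chk DataB2.chk_arrays DataB2.chk_chain DataB2.facts chkClosed_B2
  lin := linCert_of_chk DataB2.chk_arrays DataB2.chk_chain DataB2.facts chkLin_B2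
  moving r hr := by
    obtain ⟨k, hk, h⟩ := anyBelow_spec (allBelow_spec chkMoving_B2 r (nroots_eq DataB2.chk_arrays ▸ hr))
    have hkn : k < chevB2.nroots := (nroots_eq DataB2.chk_arrays).symm ▸ hk
    simp only [Bool.and_eq_true, Bool.not_eq_true', beq_eq_false_iff_ne, ne_eq, Nat.ble_eq] at h
    rw [← pr_eq DataB2.chk_arrays hkn hr] at h
    obtain ⟨x, hx⟩ := CfsgLib.Known.SLLift.exists_pow_ne_one K (prE chevB2 k r).natAbs (fun hd => by
      have := Nat.le_of_dvd (Int.natAbs_pos.2 h.1) hd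
      omega)
    refine ⟨k, hkn, x, fun hx' => hx ?_⟩
    rcases Int.natAbs_eq (prE chevB2 k r) with he | he <;> rw [he] at hx' <;> simpa using hx'
  self r hr := by
    rw [Nat.card_eq_fintype_card]
    have h := allBelow_spec chkSelf_B2 r (nroots_eq DataB2.chk_arrays ▸ hr)
    rw [Bool.or_eq_true, Bool.and_eq_true] at h
    rcases h with h | ⟨h, hu⟩
    · exact Or.inr (Or.inr ⟨hK, false, by simp,
        genCert_of_genB DataB2.chk_arrays DataB2.chk_chain DataB2.facts hr h⟩)
    · by_cases h4 : Fintype.card K = 4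
      · refine Or.inr (Or.inr ⟨hK, true, fun _ => ?_,
          genCert_of_genB DataB2.chk_arrays DataB2.chk_chain DataB2.facts hr h⟩)
        have h0 := FiniteField.cast_card_eq_zero K
        rw [h4] at h0
        exact mul_self_eq_zero.1 (show (2 : K) * 2 = 0 by rw [← h0]; norm_num)
      · obtain ⟨k, hk, hk1⟩ := anyBelow_spec hu
        have hkn : k < chevB2.nroots := (nroots_eq DataB2.chk_arrays).symm ▸ hk
        exact Or.inr (Or.inl ⟨by omega, k, hkn,
          by rw [pr_eq DataB2.chk_arrays hkn hr]; exact beq_iff_eq.1 hk1⟩)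
  pair r s hok := (pairBig_of_chk DataB2.chk_arrays chkPairBig_B2 r s hok).imp
    (sepK_of_sepCert (by omega)) fun h => Or.inl (sepK_of_sepCert (by omega) h)

open CfsgLib.Known.SplitCover in
theorem multiplier_B2 (K : Type v) [Field K] [Fintype K] (hK : Fintype.card K ≠ 2) :
    Cfsg.HasCyclicSchurMultiplier (chevB2.SteinbergGroup K) 1 := by
  have h1 := Fintype.one_lt_card (α := K)
  by_cases hq : Fintype.card K = 3
  · haveI := finite_of_good good_B2 (hasNbr_of_mem (by simp)) K
    refine hasTrivial fun E _ σ hσ hc => ?_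
    obtain ⟨φ, hφ⟩ := DataB2.facts.exists_theta good_B2.comm (K := K)
    exact exists_section_three hq DataB2.facts hσ hc (hasNbr_of_mem (by simp)) hφ
      (closedCert_of_chk DataB2.chk_arrays DataB2.chk_chain DataB2.facts chkClosed_B2)
      (linCert_of_chk DataB2.chk_arrays DataB2.chk_chain DataB2.facts chkLin_B2)
      (baseThree_of_chk DataB2.chk_arrays DataB2.chk_chain DataB2.facts chkBaseThree_B2)
      (pairB2_of_chk DataB2.chk_arrays DataB2.chk_chain DataB2.facts chkPairB2_B2)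
  · exact multiplier_steinberg_torus (torusCert_B2 K (by omega))

end CfsgLib.Chev.Lift
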