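import Cfsg.Agent.Lib.Known.ChevLift.RootFam
import Cfsg.Agent.Lib.Known.ChevLift.Central
import Cfsg.Agent.Lib.Known.SLLift.Main

/-!
# Lifting root elements by commutators with the torus

In a central extension of a Steinberg group the root elements lift as commutators with torus elements; the
commutator relations of the lifts are separated by the torus.
-/

set_option autoImplicit false

namespace CfsgLib.Chev.Lift

open Cfsg.Lie CfsgLib.Known.CentralComm
open scoped commutatorElement

universe v w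

variable {D : ChevalleyDatum} {co : ℕ → ℕ → ℤ} {K : Type v} [Field K] {E : Type w} [Group E]
  {σ : E →* D.SteinbergGroup K}

/-- The torus separates `r` from `s`. -/
def SepK (D : ChevalleyDatum) (K : Type v) [Field K] (r s : ℕ) : Prop :=
  ∃ k < D.nroots, ∃ x : Kˣ, x ^ prE D k s = 1 ∧ x ^ prE D k r ≠ 1

/-- Lifts of torus elements act on the family by the characters. -/
def TorEquiv (σ : E →* D.SteinbergGroup K) (e : ℕ → K → E) : Prop :=
  ∀ k < D.nroots, ∀ x : Kˣ, ∀ y : E, σ y = stHG D k (x : K) → ∀ r < D.nroots, ∀ u : K,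
    y * e r u * y⁻¹ = e r (((x ^ prE D k r : Kˣ) : K) * u)

theorem sepK_of_sepCert [Fintype K] {m r s : ℕ} (hq : m + 2 ≤ Fintype.card K) (h : SepCert D m r s) :
    SepK D K r s := by
  obtain ⟨k, hk, h0, h1, h2⟩ := h
  obtain ⟨x, hx⟩ := CfsgLib.Known.SLLift.exists_pow_ne_one K (prE D k r).natAbs (fun hd => by
    have := Nat.le_of_dvd (Int.natAbs_pos.2 h1) hd
    omega)
  refine ⟨k, hk, x, by rw [h0, zpow_zero], fun hx' => hx ?_⟩
  rcases Int.natAbs_eq (prE D k r) with he | he <;> rw [he] at hx'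
  · simpa using hx'
  · simpa using hx'

theorem sepK_of_sepOdd (h2 : (2 : K) ≠ 0) {r s : ℕ} (h : SepOdd D r s) : SepK D K r s := by
  obtain ⟨k, hk, h0, h1⟩ := h
  refine ⟨k, hk, -1, Even.neg_one_zpow (even_iff_two_dvd.2 h0), ?_⟩
  rw [Odd.neg_one_zpow (Int.not_even_iff_odd.1 fun he => h1 (even_iff_two_dvd.1 he))]
  intro hx
  have h3 := congrArg Units.val hx
  simp only [Units.val_neg, Units.val_one] at h3
  exact h2 (by linear_combination -h3)

variable (hσ : Function.Surjective σ) (hc : σ.ker ≤ Subgroup.center E)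

/-- Elements whose lifts commute with those of `g`. -/
noncomputable def cCent (g : D.SteinbergGroup K) : Subgroup (D.SteinbergGroup K) :=
  (Subgroup.centralizer {pre hσ g}).map σ

include hc in
theorem mem_cCent {g x : D.SteinbergGroup K} (h : cm hσ g x = 1) : x ∈ cCent hσ g :=
  ⟨pre hσ x, Subgroup.mem_centralizer_singleton_iff.2
    (commute_of_cm hσ hc (σ_pre hσ g) (σ_pre hσ x) h).symm.eq, σ_pre hσ x⟩

include hc in
theorem cm_of_mem_cCent {g x : D.SteinbergGroup K} (h : x ∈ cCent hσ g) : cm hσ g x = 1 := by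
  obtain ⟨a, ha, rfl⟩ := h
  rw [← cm_eq hσ hc (σ_pre hσ g) rfl, commutatorElement_eq_one_iff_mul_comm]
  exact (Subgroup.mem_centralizer_singleton_iff.1 ha).symm

variable (hF : Facts D co) (hN : HasNbr D) {φ : D.SteinbergGroup K →* GL D.Idx K} (hφ : IsTheta D φ)

theorem cm_of_null {r s : ℕ} (hok : OkPair D r s) (h : ∀ c ∈ D.commTerms r s, (c.2.1 : K) = 0)
    (hF : Facts D co) : Cm D K r s := by
  obtain ⟨hr, hs, h1, h2⟩ := hok
  intro t u
  have hrel := stGen_comm hr hs h1 h2 t u
  have hW : stW D (cwR D r s t u) = 1 := by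
    refine List.prod_eq_one fun g hg => ?_
    obtain ⟨p, hp, rfl⟩ := List.mem_map.1 hg
    obtain ⟨c, hc', rfl⟩ := List.mem_map.1 hp
    dsimp only
    rw [h c hc', zero_mul, zero_mul, stGen_zero (hF.commTerms_wt hF.isWeight_omega hr hs hc').1]
  rw [hW, mul_one] at hrel
  exact hrel.symm

theorem cm_of_nil {r s : ℕ} (hok : OkPair D r s) (h : D.commTerms r s = []) (hF : Facts D co) :
    Cm D K r s :=
  cm_of_null hok (by simp [h]) hF

include hF hN hφ

theorem stHG_conj {k : ℕ} (hk : k < D.nroots) (x : Kˣ) {r : ℕ} (hr : r < D.nroots) (u : K) :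
    stHG D k (x : K) * D.stGen K r u * (stHG D k (x : K))⁻¹ =
      D.stGen K r (((x ^ prE D k r : Kˣ) : K) * u) := by
  have hz : stHG D k (x : K) ∈ stN' D K :=
    Subgroup.mul_mem _ (stNG_mem hF hN hφ hk x.ne_zero) (stNG_mem hF hN hφ hk (by simp))
  refine hF.stTr_eq hφ (hF.stTr_N hφ hN hz) hr hr ?_
  rw [show stHG D k (x : K) = stNG D k (x : K) * stNG D k (-1) from rfl, map_mul,
    hφ.map_stNG hF hk, hφ.map_stNG hF hk]
  exact hF.hU_conj_xU hk hr x u

theorem stHG_memH {k : ℕ} (hk : k < D.nroots) (x : Kˣ) : stHG D k (x : K) ∈ stH' D K := by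
  have hz : stHG D k (x : K) ∈ stN' D K :=
    Subgroup.mul_mem _ (stNG_mem hF hN hφ hk x.ne_zero) (stNG_mem hF hN hφ hk (by simp))
  obtain ⟨l, h, hh, e⟩ := hF.st_exists_NW hφ hN hz
  have h1 : PermAct (φ (stHG D k (x : K))) (1 : Equiv.Perm (Fin D.nroots)) := by
    rw [show stHG D k (x : K) = stNG D k (x : K) * stNG D k (-1) from rfl, map_mul,
      hφ.map_stNG hF hk, hφ.map_stNG hF hk]
    exact hF.permAct_diagonal (hF.hU_mem_diagonal hk x.ne_zero)
  have h2 : PermAct (φ (stNW D K l * h)) (sW D l) := by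
    rw [map_mul, hF.map_stNW hφ]
    have := hF.permAct_mul (hF.permAct_nW l) (hF.permAct_diagonal (hF.st_map_H hφ hh))
    rwa [mul_one] at this
  rw [e] at h1 ⊢
  exact Subgroup.mul_mem _ (hF.stNW_mem_H hφ hN (hF.permAct_unique h2 h1)) hh

theorem stHG_commute {k l : ℕ} (hk : k < D.nroots) (hl : l < D.nroots) (x y : Kˣ) :
    Commute (stHG D k (x : K)) (stHG D l (y : K)) := by
  obtain ⟨f, -, hf⟩ := hF.st_torus_hom hN hφ
  obtain ⟨c, hc⟩ := hf _ (stHG_memH hF hN hφ hk x)
  obtain ⟨c', hc'⟩ := hf _ (stHG_memH hF hN hφ hl y)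
  rw [← hc, ← hc']
  exact (Commute.all c c').map f

include hc

omit hN hφ in
theorem cm_gen_add_left {r s : ℕ} (hr : r < D.nroots) (h : Cm D K r s) (t t' u : K) :
    cm hσ (D.stGen K r (t + t')) (D.stGen K s u) =
      cm hσ (D.stGen K r t) (D.stGen K s u) * cm hσ (D.stGen K r t') (D.stGen K s u) := by
  rw [add_comm, ← stGen_add hr, cm_mul_left hσ hc]
  rw [(commutatorElement_eq_one_iff_mul_comm).2 (h t u).eq]
  exact cm_one_right hσ hc _

theorem cm_sep_left {r s : ℕ} (hr : r < D.nroots) (hs : s < D.nroots) (h : Cm D K r s)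
    (hsep : SepK D K r s) (t u : K) : cm hσ (D.stGen K r t) (D.stGen K s u) = 1 := by
  obtain ⟨k, hk, x, hxs, hxr⟩ := hsep
  refine CfsgLib.Known.SLLift.eq_one_of_homothety
    (fun w => cm hσ (D.stGen K r w) (D.stGen K s u)) (fun w w' => cm_gen_add_left hσ hc hF hr h w w' u)
    ((x ^ prE D k r : Kˣ) : K) (fun e => hxr (Units.ext (by simpa using e))) (fun w => ?_) t
  show cm hσ (D.stGen K r (((x ^ prE D k r : Kˣ) : K) * w)) (D.stGen K s u) = _
  conv_rhs => rw [← cm_conj_eq hσ hc (h w u) (stHG D k (x : K)), stHG_conj hF hN hφ hk x hr,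
    stHG_conj hF hN hφ hk x hs, hxs]
  simp

theorem cm_sep {r s : ℕ} (hr : r < D.nroots) (hs : s < D.nroots) (h : Cm D K r s)
    (hsep : SepK D K r s ∨ SepK D K s r) (t u : K) : cm hσ (D.stGen K r t) (D.stGen K s u) = 1 := by
  rcases hsep with hsep | hsep
  · exact cm_sep_left hσ hc hF hN hφ hr hs h hsep t u
  · rw [← cm_inv, cm_sep_left hσ hc hF hN hφ hs hr h.symm hsep u t, inv_one]

omit hN hφ in
theorem cm_self_three [Fintype K] (hq : Fintype.card K = 3) {r : ℕ} (hr : r < D.nroots) (t u : K) :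
    cm hσ (D.stGen K r t) (D.stGen K r u) = 1 := by
  classical
  have _ := hF
  have h3 : (3 : K) = 0 := by
    have := FiniteField.cast_card_eq_zero K
    rw [hq] at this
    exact_mod_cast this
  have hne : (1 : K) ≠ -1 := fun e => one_ne_zero (α := K) (by linear_combination h3 - e)
  have hset : ({0, 1, -1} : Finset K) = Finset.univ := by
    refine Finset.eq_univ_of_card _ ?_
    rw [hq, Finset.card_insert_of_notMem (by simp [eq_comm]), Finset.card_pair hne]
  have hthree : ∀ x : K, x = 0 ∨ x = 1 ∨ x = -1 := fun x => by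
    have := hset ▸ Finset.mem_univ x
    simpa using this
  have key : ∀ g : D.SteinbergGroup K, cm hσ g g⁻¹ = 1 := fun g => by
    rw [← cm_eq hσ hc (σ_pre hσ g) (b := (pre hσ g)⁻¹) (by rw [map_inv, σ_pre]),
      commutatorElement_eq_one_iff_mul_comm, mul_inv_cancel, inv_mul_cancel]
  have key' : ∀ g : D.SteinbergGroup K, cm hσ g⁻¹ g = 1 := fun g => by
    rw [← cm_inv, key, inv_one]
  have key0 : ∀ g : D.SteinbergGroup K, cm hσ g g = 1 := fun g => commutatorElement_self _
  rcases hthree t with rfl | rfl | rfl <;> rcases hthree u with rfl | rfl | rfl <;>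
    simp [stGen_zero hr, cm_one_left hσ hc, cm_one_right hσ hc, ← stGen_inv hr, key, key', key0]

theorem cm_self_unit [Fintype K] (hq : 5 ≤ Fintype.card K) {r : ℕ} (hr : r < D.nroots)
    (hu : UnitPairing D r) (t u : K) : cm hσ (D.stGen K r t) (D.stGen K r u) = 1 := by
  classical
  obtain ⟨k, hk, hk1⟩ := hu
  have hcm : Cm D K r r := fun a b => by
    show _ = _
    rw [stGen_add hr, stGen_add hr, add_comm]
  set f := fun a b : K => cm hσ (D.stGen K r a) (D.stGen K r b) with hf
  have hadd : ∀ a a' b, f (a + a') b = f a b * f a' b := cm_gen_add_left hσ hc hF hr hcm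
  have hsymm : ∀ a b, (f a b)⁻¹ = f b a := fun a b => cm_inv hσ _ _
  have hscale : ∀ a b (l : Kˣ), f (l * a) (l * b) = f a b := by
    intro a b l
    show cm hσ _ _ = cm hσ _ _
    conv_rhs => rw [← cm_conj_eq hσ hc (hcm a b) (stHG D k (l : K)), stHG_conj hF hN hφ hk l hr,
      stHG_conj hF hN hφ hk l hr, hk1, zpow_one]
  have hcomm : ∀ a b c d, f a b * f c d = f c d * f a b := fun a b c d => by
    exact (cm_central hσ hc (hcm a b) (f c d)).symm
  have hadd' : ∀ a b b', f a (b + b') = f a b * f a b' := fun a b b' => by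
    rw [← hsymm (b + b') a, hadd, mul_inv_rev, hsymm, hsymm, hcomm]
  let g : K → E := f 1
  have hg : ∀ a b, g (a + b) = g a * g b := hadd' 1
  have hg0 : g 0 = 1 := by
    have := hg 0 0
    rw [add_zero] at this
    exact left_eq_mul.1 this
  have hdiv : ∀ a b, a ≠ 0 → f a b = g (b / a) := fun a b ha => by
    have := hscale 1 (b / a) (Units.mk0 a ha)
    rw [Units.val_mk0, mul_one, mul_div_cancel₀ _ ha] at this
    exact this
  obtain ⟨x, hx0, hx1, hx2⟩ : ∃ x : K, x ≠ 0 ∧ x + 1 ≠ 0 ∧ x ^ 2 + x + 1 ≠ 0 := by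
    by_contra hall
    push Not at hall
    let P : Polynomial K := Polynomial.X * (Polynomial.X + Polynomial.C 1) *
      (Polynomial.X ^ 2 + Polynomial.X + Polynomial.C 1)
    have hd : P.natDegree ≤ 4 := by
      simp only [P]
      compute_degree
    have hne : P ≠ 0 := by
      refine mul_ne_zero (mul_ne_zero Polynomial.X_ne_zero (Polynomial.X_add_C_ne_zero 1)) fun h => ?_
      have := congrArg (Polynomial.eval 0) h
      simp at this
    have hroots : (Finset.univ : Finset K).val ⊆ P.roots := by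
      intro x _
      rw [Polynomial.mem_roots hne, Polynomial.IsRoot]
      simp only [P, Polynomial.eval_mul, Polynomial.eval_add, Polynomial.eval_pow, Polynomial.eval_X,
        Polynomial.eval_C]
      by_cases h0 : x = 0
      · simp [h0]
      by_cases h1 : x + 1 = 0
      · simp [h1]
      · simp [hall x h0 h1]
    have := (Polynomial.card_le_degree_of_subset_roots hroots).trans hd
    rw [Finset.card_univ] at this
    omega
  have hg1 : ∀ w, g w = 1 := by
    intro w
    set v := w / (x ^ 2 + x + 1)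
    have e := hadd x 1 (x * (x + 1) * v)
    rw [hdiv _ _ hx1, hdiv _ _ hx0, show f 1 (x * (x + 1) * v) = g (x * (x + 1) * v) from rfl,
      show x * (x + 1) * v / (x + 1) = x * v by field_simp,
      show x * (x + 1) * v / x = (x + 1) * v by field_simp, ← hg,
      show (x + 1) * v + x * (x + 1) * v = x * v + (x ^ 2 + x + 1) * v by ring, hg] at e
    rw [show w = (x ^ 2 + x + 1) * v by rw [mul_div_cancel₀ _ hx2]]
    exact left_eq_mul.1 e
  show f t u = 1
  by_cases ht : t = 0
  · subst ht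
    show cm hσ _ _ = 1
    rw [stGen_zero hr, cm_one_left hσ hc]
  · rw [hdiv t u ht, hg1]

theorem cm_self_gen [Fintype K] (hq : 4 ≤ Fintype.card K) {r : ℕ} (hr : r < D.nroots) {ev : Bool}
    (hev : ev = true → (2 : K) = 0) (hG : GenCert D ev r) (t u : K) :
    cm hσ (D.stGen K r t) (D.stGen K r u) = 1 := by
  classical
  obtain ⟨a, b, ⟨k, C, i, j⟩, ⟨⟨ha, hb, hab, hab'⟩, hmem, hk, hi, hC, hnd⟩, hsep⟩ := hG
  dsimp only at hk hi hC
  subst hk hi
  set H := cCent hσ (D.stGen K k t)
  have hne : a ≠ k ∧ b ≠ k := by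
    obtain ⟨f1, hf1, hf1a, hf1b, -⟩ := hF.exists_halfspace ha hb hab hab'
    obtain ⟨f2, hf2, hf2b, hf2a, -⟩ := hF.exists_halfspace hb ha (Ne.symm hab)
      (fun e' => hab' (by rw [e', hF.neg_neg hb]))
    obtain ⟨-, -, hj, h1⟩ := hF.commTerms_wt hf1 ha hb hmem
    obtain ⟨-, -, -, h2⟩ := hF.commTerms_wt hf2 ha hb hmem
    dsimp only at h1 h2 hj
    simp only [nsmul_eq_mul, hf1a, hf2b, mul_zero, zero_add, add_zero, Nat.cast_one, one_mul] at h1 h2
    refine ⟨fun e' => ?_, fun e' => ?_⟩
    · rw [← e', hf1a] at h1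
      rcases mul_eq_zero.1 h1.symm with h | h <;> omega
    · rw [← e', hf2b] at h2; omega
  have hin : ∀ s ∈ a :: b :: termRoots D a b, s ≠ k → ∀ w, D.stGen K s w ∈ H := by
    intro s hs hsk w
    obtain ⟨hok, hn1, -, hsp⟩ := hsep s hs hsk
    refine mem_cCent hσ hc (cm_sep hσ hc hF hN hφ hr hok.2.1 (cm_of_null hok (fun c hc' => ?_) hF)
      (hsp.imp (sepK_of_sepCert (by omega)) (sepK_of_sepCert (by omega))) t w)
    obtain ⟨he, hd⟩ := hn1 c hc'
    obtain ⟨z, hz⟩ := hd
    rw [hz, Int.cast_mul, Int.cast_ofNat, hev he, zero_mul]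
  obtain ⟨L1, L2, hsplit⟩ := List.append_of_mem hmem
  obtain ⟨T, hT⟩ : ∃ T : K, (C : K) * (-T) ^ 1 * (1 : K) ^ j = u := by
    rcases hC with rfl | rfl
    · exact ⟨-u, by simp⟩
    · exact ⟨u, by simp⟩
  have hrel := stGen_comm ha hb hab hab' T (1 : K)
  have hW : stW D (cwR D a b T 1) ∈ H := by
    rw [show stW D (cwR D a b T 1) = (D.stGen K b 1)⁻¹ * (D.stGen K a T)⁻¹ *
      (D.stGen K b 1 * D.stGen K a T) by rw [hrel]; group]
    have hA := hin a (by simp) hne.1 T
    have hB := hin b (by simp) hne.2 1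
    exact mul_mem (mul_mem (inv_mem hB) (inv_mem hA)) (mul_mem hB hA)
  rw [cwR, hsplit, List.map_append, List.map_cons, stW, List.map_append, List.map_cons,
    List.prod_append, List.prod_cons, hT] at hW
  rw [termRoots, hsplit, List.map_append, List.map_cons, List.nodup_append] at hnd
  have hside : ∀ L : List (ℕ × ℤ × ℕ × ℕ), (∀ d ∈ L, d.1 ∈ termRoots D a b ∧ d.1 ≠ k) →
      ((L.map fun c => (c.1, (c.2.1 : K) * (-T) ^ c.2.2.1 * (1 : K) ^ c.2.2.2)).map
        fun p => D.stGen K p.1 p.2).prod ∈ H := by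
    intro L hL
    refine Subgroup.list_prod_mem _ fun g hg => ?_
    obtain ⟨p, hp, rfl⟩ := List.mem_map.1 hg
    obtain ⟨d, hd, rfl⟩ := List.mem_map.1 hp
    exact hin d.1 (List.mem_cons_of_mem _ (List.mem_cons_of_mem _ (hL d hd).1)) (hL d hd).2 _
  have h1 := hside L1 fun d hd => ⟨by rw [termRoots, hsplit]; exact List.mem_map_of_mem (by simp [hd]),
    fun e' => hnd.2.2 d.1 (List.mem_map_of_mem hd) k (by simp) e'⟩
  have h2 := hside L2 fun d hd => ⟨by rw [termRoots, hsplit]; exact List.mem_map_of_mem (by simp [hd]),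
    fun e' => by
      have hd1 : d.1 ∈ List.map Prod.fst L2 := List.mem_map_of_mem hd
      rw [e'] at hd1
      exact (List.nodup_cons.1 hnd.2.1).1 hd1⟩
  refine cm_of_mem_cCent hσ hc ?_
  rwa [Subgroup.mul_mem_cancel_left _ h1, Subgroup.mul_mem_cancel_right _ h2] at hW

/-- The canonical lifts. -/
theorem exists_rootFam (h1 : ∀ r < D.nroots, ∃ k < D.nroots, ∃ x : Kˣ, x ^ prE D k r ≠ 1)
    (hself : ∀ r < D.nroots, ∀ t u : K, cm hσ (D.stGen K r t) (D.stGen K r u) = 1) :
    ∃ e : ℕ → K → E, IsRootFam σ e ∧ TorEquiv σ e := by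
  classical
  choose k hk x hx using h1
  let l : (r : ℕ) → r < D.nroots → K := fun r hr => ((x r hr ^ prE D (k r hr) r : Kˣ) : K) - 1
  have hl : ∀ r hr, l r hr ≠ 0 := fun r hr h =>
    hx r hr (Units.ext (by simpa using sub_eq_zero.1 h))
  let e : ℕ → K → E := fun r u => if hr : r < D.nroots then
    cm hσ (stHG D (k r hr) (x r hr : K)) (D.stGen K r (u / l r hr)) else 1
  have hcmv : ∀ r (hr : r < D.nroots) (v : K),
      ⁅stHG D (k r hr) (x r hr : K), D.stGen K r v⁆ = D.stGen K r (l r hr * v) := by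
    intro r hr v
    rw [commutatorElement_def, stHG_conj hF hN hφ (hk r hr) (x r hr) hr, stGen_inv hr, stGen_add hr]
    congr 1
    simp only [l]
    ring
  refine ⟨e, ⟨fun r hr u => ?_, fun r hr u u' => ?_⟩, fun k' hk' x' y hy r hr u => ?_⟩
  · simp only [e, dif_pos hr, σ_cm, hcmv, mul_div_cancel₀ _ (hl r hr)]
  · simp only [e, dif_pos hr, add_div]
    rw [← stGen_add hr, cm_mul_right hσ hc (by rw [hcmv]; exact hself r hr _ _)]
  · simp only [e, dif_pos hr]
    have hcomm := stHG_commute hF hN hφ hk' (hk r hr) x' (x r hr)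
    rw [conj_cm' hσ hc hy, hcomm.eq, mul_inv_cancel_right, stHG_conj hF hN hφ hk' x' hr, mul_div_assoc]

include hσ in
omit hN in
/-- Pairs separated by the torus satisfy the commutator relation. -/
theorem relAt_all {e : ℕ → K → E} (hA : IsRootFam σ e) (hT : TorEquiv σ e) (hcl : ClosedCert D)
    (hpair : ∀ r s, OkPair D r s → SepK D K r s ∨ SepK D K s r ∨ RelAt D e r s) :
    ∀ r s, OkPair D r s → RelAt D e r s := by
  have _ := hσ
  suffices ∀ n r s, OkPair D r s → (D.commTerms r s).length = n → RelAt D e r s from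
    fun r s h => this _ r s h rfl
  intro n
  induction n using Nat.strong_induction_on with
  | _ n ih =>
  intro r s hok hn
  obtain ⟨hr, hs, hsr, hsn⟩ := id hok
  let W : K → K → E := fun t u => eW e (cwR D r s t u)
  let δ : K → K → E := fun t u => (e s u)⁻¹ * (e r t)⁻¹ * e s u * e r t * (W t u)⁻¹
  have hbound : ∀ p ∈ termRoots D r s, p < D.nroots := fun p hp => by
    obtain ⟨c, hc', rfl⟩ := List.mem_map.1 hp
    exact (hF.commTerms_wt hF.isWeight_omega hr hs hc').1
  have hσW : ∀ t u, σ (W t u) = stW D (cwR D r s t u) := fun t u => σ_eW hA fun p hp => by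
    obtain ⟨c, hc', rfl⟩ := List.mem_map.1 hp
    exact (hF.commTerms_wt hF.isWeight_omega hr hs hc').1
  have hδker : ∀ t u, δ t u ∈ σ.ker := by
    intro t u
    rw [MonoidHom.mem_ker]
    simp only [δ, map_mul, map_inv, hσW, hA.proj r hr, hA.proj s hs]
    rw [mul_assoc _ (D.stGen K s u), stGen_comm hr hs hsr hsn]
    group
  have hcen : ∀ t u (a : E), a * δ t u = δ t u * a :=
    fun t u a => Subgroup.mem_center_iff.1 (hc (hδker t u)) a
  have hδ : ∀ t u, (e s u)⁻¹ * (e r t)⁻¹ * e s u * e r t = δ t u * W t u := fun t u => by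
    simp only [δ, inv_mul_cancel_right]
  suffices hone : ∀ t u, δ t u = 1 by
    intro t u
    have h := hδ t u
    rw [hone, one_mul] at h
    show e s u * e r t = e r t * e s u * W t u
    rw [← h]
    group
  -- invariance under the torus
  have hinv : ∀ k < D.nroots, ∀ x : Kˣ, ∀ t u, δ (((x ^ prE D k r : Kˣ) : K) * t)
      (((x ^ prE D k s : Kˣ) : K) * u) = δ t u := by
    intro k hk x t u
    obtain ⟨y, hy⟩ := hσ (stHG D k (x : K))
    have hWc : y * W t u * y⁻¹ =
        W (((x ^ prE D k r : Kˣ) : K) * t) (((x ^ prE D k s : Kˣ) : K) * u) := by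
      simp only [W, eW, cwR, List.map_map]
      refine (map_list_prod (MulAut.conj y).toMonoidHom _).trans ?_
      rw [List.map_map]
      refine congrArg List.prod (List.map_congr_left fun c hc' => ?_)
      obtain ⟨hcn, -, -, hw⟩ := hF.commTerms_wt (hF.isWeight_prE hk) hr hs hc'
      simp only [Function.comp_apply, MulEquiv.coe_toMonoidHom, MulAut.conj_apply]
      rw [hT k hk x y hy _ hcn]
      congr 1
      rw [show prE D k c.1 = prE D k r * c.2.2.1 + prE D k s * c.2.2.2 by
        rw [hw, nsmul_eq_mul, nsmul_eq_mul]; ring, zpow_add, zpow_mul, zpow_mul, Units.val_mul,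
        zpow_natCast, zpow_natCast, Units.val_pow_eq_pow_val, Units.val_pow_eq_pow_val, ← mul_neg,
        mul_pow, mul_pow]
      ring
    calc _ = y * δ t u * y⁻¹ := by
          show _ = y * ((e s u)⁻¹ * (e r t)⁻¹ * e s u * e r t * (W t u)⁻¹) * y⁻¹
          rw [show y * ((e s u)⁻¹ * (e r t)⁻¹ * e s u * e r t * (W t u)⁻¹) * y⁻¹ =
            (y * e s u * y⁻¹)⁻¹ * (y * e r t * y⁻¹)⁻¹ * (y * e s u * y⁻¹) * (y * e r t * y⁻¹) *
            (y * W t u * y⁻¹)⁻¹ by group, hWc, hT k hk x y hy r hr, hT k hk x y hy s hs]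
      _ = δ t u := by rw [hcen, mul_inv_cancel_right]
  rcases hpair r s hok with hsep | hsep | hrel
  pick_goal 3
  · intro t u
    show (e s u)⁻¹ * (e r t)⁻¹ * e s u * e r t * (W t u)⁻¹ = 1
    rw [mul_assoc _ (e s u), hrel t u]
    show _ * (e r t * e s u * W t u) * (W t u)⁻¹ = 1
    group
  all_goals
    obtain ⟨f1, hf1, hf1r, hf1s, -⟩ := hF.exists_halfspace hr hs hsr hsn
    obtain ⟨f2, hf2, hf2s, hf2r, -⟩ := hF.exists_halfspace hs hr (Ne.symm hsr)
      (fun e' => hsn (by rw [e', hF.neg_neg hs]))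
    have hf : IsWeight D (fun x => f1 x + f2 x) :=
      ⟨fun x hx => by simp only [hf1.neg x hx, hf2.neg x hx]; ring,
        fun x hx y hy z hz => by simp only [hf1.add x hx y hy z hz, hf2.add x hx y hy z hz]; ring⟩
    have hinj : ∀ z, z = r ∨ z = s → ∀ {g g' : E},
        g ∈ eCl D e (fun p => p ∈ z :: termRoots D r s) →
        g' ∈ eCl D e (fun p => p ∈ z :: termRoots D r s) → σ g = σ g' → g = g' := by
      intro z hz g g' hg hg' hgg
      have hpos : ∀ p ∈ z :: termRoots D r s, 0 < f1 p + f2 p := by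
        intro p hp
        rcases List.mem_cons.1 hp with rfl | hp
        · rcases hz with rfl | rfl <;> omega
        · obtain ⟨c, hc', rfl⟩ := List.mem_map.1 hp
          obtain ⟨-, hi, hj, hw⟩ := hF.commTerms_wt hf hr hs hc'
          simp only [nsmul_eq_mul] at hw
          have hra : 0 < f1 r + f2 r := by omega
          have hsa : 0 < f1 s + f2 s := by omega
          rw [hw]; positivity
      refine eCl_injective hA hF hφ hf (fun p _ hp => hpos p hp) (fun p hp q hq hPp hPq hne => ?_)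
        hg hg' hgg
      obtain ⟨hc1, hc2⟩ := hcl r s hok z hz p hPp q hPq (Ne.symm hne)
      refine ⟨ih _ (hn ▸ hc2) p q ⟨hp, hq, Ne.symm hne, fun e' => ?_⟩ rfl, hc1⟩
      have h0 := hpos q hPq
      rw [e', hf1.neg p hp, hf2.neg p hp] at h0
      have := hpos p hPp
      omega
    have hWmem : ∀ z t u, W t u ∈ eCl D e (fun p => p ∈ z :: termRoots D r s) := fun z t u =>
      eW_mem fun p hp => by
        obtain ⟨c, hc', rfl⟩ := List.mem_map.1 hp
        have hmem : c.1 ∈ termRoots D r s := List.mem_map_of_mem hc'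
        exact mem_eCl (hbound _ hmem) (List.mem_cons_of_mem _ hmem) _
  · -- the first variable
    intro t u
    obtain ⟨k, hk, x, hxs, hxr⟩ := hsep
    refine CfsgLib.Known.SLLift.eq_one_of_homothety (fun v => δ v u) (fun a b => ?_)
      ((x ^ prE D k r : Kˣ) : K) (fun e' => hxr (Units.ext (by simpa using e'))) (fun v => ?_) t
    · have hC : ∀ v, (e s u)⁻¹ * e r (-v) * e s u = δ v u * (W v u * e r (-v)) := fun v => by
        rw [← mul_assoc, ← hδ, fam_inv hA hr, ← fam_inv hA hr v]
        group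
      set P := eCl D e (fun p => p ∈ r :: termRoots D r s)
      have hX : ∀ v, W v u * e r (-v) ∈ P := fun v =>
        Subgroup.mul_mem _ (hWmem r v u) (mem_eCl hr (by simp) _)
      have e1 : δ (a + b) u * (W (a + b) u * e r (-(a + b))) =
          δ a u * δ b u * (W a u * e r (-a) * (W b u * e r (-b))) := by
        rw [← hC, neg_add, hA.add r hr, show (e s u)⁻¹ * (e r (-a) * e r (-b)) * e s u =
          ((e s u)⁻¹ * e r (-a) * e s u) * ((e s u)⁻¹ * e r (-b) * e s u) by group, hC, hC,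
          mul_assoc (δ a u), ← mul_assoc (W a u * e r (-a)) (δ b u), hcen b u]
        simp only [mul_assoc]
      have e2 : W (a + b) u * e r (-(a + b)) = W a u * e r (-a) * (W b u * e r (-b)) := by
        refine hinj r (Or.inl rfl) (hX _) (Subgroup.mul_mem _ (hX a) (hX b)) ?_
        have := congrArg σ e1
        simpa [map_mul, MonoidHom.mem_ker.1 (hδker _ _)] using this
      rw [e2] at e1
      exact mul_right_cancel e1
    · have := hinv k hk x v u
      rwa [hxs, Units.val_one, one_mul] at this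
  · -- the second variable
    intro t u
    obtain ⟨k, hk, x, hxr, hxs⟩ := hsep
    refine CfsgLib.Known.SLLift.eq_one_of_homothety (fun v => δ t v) (fun a b => ?_)
      ((x ^ prE D k s : Kˣ) : K) (fun e' => hxs (Units.ext (by simpa using e'))) (fun v => ?_) u
    · have hC : ∀ v, (e r t)⁻¹ * e s v * e r t = δ t v * (e s v * W t v) := fun v => by
        rw [← mul_assoc, ← hcen, mul_assoc (e s v) (δ t v), ← hδ]
        group
      set P := eCl D e (fun p => p ∈ s :: termRoots D r s)
      have hX : ∀ v, e s v * W t v ∈ P := fun v =>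
        Subgroup.mul_mem _ (mem_eCl hs (by simp) _) (hWmem s t v)
      have e1 : δ t (a + b) * (e s (a + b) * W t (a + b)) =
          δ t a * δ t b * (e s a * W t a * (e s b * W t b)) := by
        rw [← hC, hA.add s hs, show (e r t)⁻¹ * (e s a * e s b) * e r t =
          ((e r t)⁻¹ * e s a * e r t) * ((e r t)⁻¹ * e s b * e r t) by group, hC, hC,
          mul_assoc (δ t a), ← mul_assoc (e s a * W t a) (δ t b), hcen t b]
        simp only [mul_assoc]
      have e2 : e s (a + b) * W t (a + b) = e s a * W t a * (e s b * W t b) := by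
        refine hinj s (Or.inr rfl) (hX _) (Subgroup.mul_mem _ (hX a) (hX b)) ?_
        have := congrArg σ e1
        simpa [map_mul, MonoidHom.mem_ker.1 (hδker _ _)] using this
      rw [e2] at e1
      exact mul_right_cancel e1
    · have := hinv k hk x t v
      rwa [hxr, Units.val_one, one_mul] at this

omit hN hφ in
/-- Roots with commuting lifts satisfy the commutator relation. -/
theorem relAt_of_cm {e : ℕ → K → E} (hA : IsRootFam σ e) {r s : ℕ} (hok : OkPair D r s)
    (h : D.commTerms r s = []) (hcm : ∀ t u, cm hσ (D.stGen K r t) (D.stGen K s u) = 1) :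
    RelAt D e r s := by
  have _ := hF
  intro t u
  rw [cwR, h, List.map_nil, eW, List.map_nil, List.prod_nil, mul_one]
  exact (commute_of_cm hσ hc (hA.proj r hok.1 t) (hA.proj s hok.2.1 u) (hcm t u)).symm.eq

omit hN hφ in
theorem cm_off_three [Fintype K] (hq : Fintype.card K = 3) {p s : ℕ} (h : OffThree D p s) (t u : K) :
    cm hσ (D.stGen K p t) (D.stGen K s u) = 1 := by
  obtain ⟨a, b, C, ⟨ha, hb, hab, hab'⟩, hterm, h3, ⟨hoa, hta⟩, ⟨hob, htb⟩⟩ := h
  have hC : (C : K) ≠ 0 := by
    intro h0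
    haveI : Fact (Nat.Prime 3) := ⟨Nat.prime_three⟩
    haveI := charP_of_card_eq_prime (R := K) hq
    exact h3 (by exact_mod_cast (CharP.intCast_eq_zero_iff K 3 C).1 h0)
  have hrel := stGen_comm ha hb hab hab' (-(t / (C : K))) (1 : K)
  rw [cwR, hterm] at hrel
  simp only [List.map_cons, List.map_nil, stW, List.prod_cons, List.prod_nil, mul_one, pow_one,
    neg_neg, mul_div_cancel₀ _ hC] at hrel
  rw [show D.stGen K p t = ⁅(D.stGen K b 1)⁻¹, (D.stGen K a (-(t / (C : K))))⁻¹⁆ by
    rw [commutatorElement_def, inv_inv, inv_inv, mul_assoc _ (D.stGen K b 1), hrel]; group]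
  exact cm_commutator_left hσ hc ((cm_of_nil hob htb hF) _ _).inv_left
    ((cm_of_nil hoa hta hF) _ _).inv_left

end CfsgLib.Chev.Lift
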