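import Cfsg.Agent.Lib.Chev.All
import Cfsg.Agent.Lib.Known.ChevLift.TorusSplit

/-!
# Torus certificates for G2 and F4
-/

set_option autoImplicit false
set_option maxRecDepth 20000

namespace CfsgLib.Chev.Lift

open Cfsg.Lie CfsgLib.Chev.Table

universe v

theorem chkClosed_G2 : DataG2.tab.chkClosed = true := by decide +kernel

theorem chkLin_G2 : DataG2.tab.chkLin = true := by decide +kernel

theorem chkPairBig_G2 : DataG2.tab.chkPairBig 3 = true := by decide +kernel

theorem chkUnitPairing_G2 : DataG2.tab.chkUnitPairing = true := by decide +kernel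

theorem chkClosed_F4 : DataF4.tab.chkClosed = true := by decide +kernel

theorem chkLin_F4 : DataF4.tab.chkLin = true := by decide +kernel

theorem chkPairBig_F4 : DataF4.tab.chkPairBig 2 = true := by decide +kernel

theorem chkPairThree_F4 : DataF4.tab.chkPairThree = true := by decide +kernel

theorem chkUnitPairing_F4 : DataF4.tab.chkUnitPairing = true := by decide +kernel

theorem chkGen_F4 : (allBelow DataF4.tab.nroots fun r => DataF4.tab.genB false r) = true := by
  decide +kernel

variable (K : Type v) [Field K] [Fintype K]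

omit [Fintype K] in
theorem moving_of_unit {D : ChevalleyDatum} (h : ∀ r < D.nroots, UnitPairing D r)
    (hx : ∃ x : Kˣ, x ≠ 1) : ∀ r < D.nroots, ∃ k < D.nroots, ∃ x : Kˣ, x ^ prE D k r ≠ 1 := by
  intro r hr
  obtain ⟨k, hk, h1⟩ := h r hr
  obtain ⟨x, hx⟩ := hx
  exact ⟨k, hk, x, by rwa [h1, zpow_one]⟩

theorem exists_unit_ne (hK : 3 ≤ Fintype.card K) : ∃ x : Kˣ, x ≠ 1 := by
  obtain ⟨x, hx⟩ := CfsgLib.Known.SLLift.exists_pow_ne_one K 1 (fun hd => by
    have := Nat.le_of_dvd one_pos hd
    omega)
  exact ⟨x, by simpa using hx⟩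

theorem torusCert_G2 (hK : 5 ≤ Fintype.card K) : TorusCert chevG2 K where
  good := good_G2
  nbr := hasNbr_of_mem (by simp)
  closed := closedCert_of_chk DataG2.chk_arrays DataG2.chk_chain DataG2.facts chkClosed_G2
  lin := linCert_of_chk DataG2.chk_arrays DataG2.chk_chain DataG2.facts chkLin_G2
  moving := moving_of_unit K (unitPairing_of_chk DataG2.chk_arrays chkUnitPairing_G2)
    (exists_unit_ne K (by omega))
  self r hr := Or.inr (Or.inl ⟨by rw [Nat.card_eq_fintype_card]; exact hK,
    unitPairing_of_chk DataG2.chk_arrays chkUnitPairing_G2 r hr⟩)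
  pair r s hok := (pairBig_of_chk DataG2.chk_arrays chkPairBig_G2 r s hok).imp
    (sepK_of_sepCert (by omega)) fun h => Or.inl (sepK_of_sepCert (by omega) h)

theorem torusCert_F4 (hK : 3 ≤ Fintype.card K) : TorusCert chevF4 K where
  good := good_F4
  nbr := hasNbr_of_mem (by simp)
  closed := closedCert_of_chk DataF4.chk_arrays DataF4.chk_chain DataF4.facts chkClosed_F4
  lin := linCert_of_chk DataF4.chk_arrays DataF4.chk_chain DataF4.facts chkLin_F4
  moving := moving_of_unit K (unitPairing_of_chk DataF4.chk_arrays chkUnitPairing_F4)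
    (exists_unit_ne K hK)
  self r hr := by
    rw [Nat.card_eq_fintype_card]
    by_cases h3 : Fintype.card K = 3
    · exact Or.inl h3
    · exact Or.inr (Or.inr ⟨by omega, false, by simp, genCert_of_genB DataF4.chk_arrays DataF4.chk_chain
        DataF4.facts hr (allBelow_spec chkGen_F4 r (nroots_eq DataF4.chk_arrays ▸ hr))⟩)
  pair r s hok := by
    by_cases h3 : Fintype.card K = 3
    · have h2 : (2 : K) ≠ 0 := fun h => by
        have h3' : (3 : K) = 0 := by
          have := FiniteField.cast_card_eq_zero K
          rw [h3] at this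
          exact_mod_cast this
        exact one_ne_zero (α := K) (by linear_combination h3' - h)
      rcases pairThree_of_chk DataF4.chk_arrays DataF4.chk_chain DataF4.facts DataF4.chk_pairs
        chkPairThree_F4 r s hok with h | h | h
      · exact Or.inl (sepK_of_sepOdd h2 h)
      · exact Or.inr (Or.inl (sepK_of_sepOdd h2 h))
      · exact Or.inr (Or.inr ⟨by rw [Nat.card_eq_fintype_card]; exact h3, h⟩)
    · exact (pairBig_of_chk DataF4.chk_arrays chkPairBig_F4 r s hok).imp
        (sepK_of_sepCert (by omega)) fun h => Or.inl (sepK_of_sepCert (by omega) h)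

end CfsgLib.Chev.Lift
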